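import Cfsg.Agent.Lib.FPD.Nil
import Cfsg.Agent.Lib.FPD.Main
import Cfsg.Agent.Lib.ClassSz.TopTwo
import Cfsg.Agent.Lib.Solv.AutQuot
import Cfsg.Agent.Lib.Count.Subgroups
import Cfsg.Agent.Lib.Transfer.Frobenius

/-! Coprime action: invariant classes that split into two families of coprime sizes. -/

set_option autoImplicit false

namespace CfsgLib.CNil

open Subgroup Cfsg CfsgLib.MaxCent CfsgLib.Fgs CfsgLib.Coprime CfsgLib.ClassSz.TopTwo
open scoped commutatorElement

universe u v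

variable {G : Type u} {A : Type v} [Group G] [Finite G] [Group A] [Finite A] {φ : A →* MulAut G}
  {P Q : G → Prop} {b : G}

variable (φ) in
/-- The class of `g` is invariant. -/
def Iv (g : G) : Prop := ∀ a, IsConj g (φ a g)

omit [Finite G] [Finite A] in
theorem Iv.of_fix {g : G} (h : g ∈ autFix φ) : Iv φ g := fun a => by rw [h a]

omit [Finite G] [Finite A] in
theorem Iv.of_isConj {g k : G} (h : Iv φ g) (e : IsConj g k) : Iv φ k := fun a =>
  (e.symm.trans (h a)).trans ((φ a).toMonoidHom.map_isConj e)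

omit [Finite G] [Finite A] in
theorem Iv.inv {g : G} (h : Iv φ g) : Iv φ g⁻¹ := fun a => by
  obtain ⟨k, e⟩ := isConj_iff.1 (h a)
  exact isConj_iff.2 ⟨k, by rw [map_inv, ← e]; group⟩

/-- The left stabiliser of the class of `b`. -/
def LS (b : G) : Subgroup G where
  carrier := {k | ∀ z, IsConj b z → IsConj b (k * z)}
  one_mem' := fun z h => by rwa [one_mul]
  mul_mem' := fun {x y} hx hy z hz => by rw [mul_assoc]; exact hx _ (hy z hz)
  inv_mem' := fun {x} hx z hz => by
    have : ∀ k, IsConj b (x ^ k * z) := fun k => by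
      induction k with
      | zero => rwa [pow_zero, one_mul]
      | succ k ih => rw [pow_succ', mul_assoc]; exact hx _ ih
    have e : x⁻¹ = x ^ (orderOf x - 1) := by
      rw [inv_eq_iff_mul_eq_one, ← pow_succ', Nat.sub_add_cancel (orderOf_pos x),
        pow_orderOf_eq_one]
    exact e ▸ this _

instance : (LS b).Normal := ⟨fun k hk g z hz =>
  (hk (g⁻¹ * z * g⁻¹⁻¹) (hz.trans (isConj_iff.2 ⟨g⁻¹, rfl⟩))).trans (isConj_iff.2 ⟨g, by group⟩)⟩

theorem card_LS_dvd (b : G) : Nat.card (LS b) ∣ (C b).index := by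
  have e : {z | IsConj b z} = QuotientGroup.mk ⁻¹' ((QuotientGroup.mk : G → G ⧸ LS b) ''
      {z | IsConj b z}) := by
    refine Set.Subset.antisymm (Set.subset_preimage_image _ _) ?_
    rintro z ⟨w, hw, e⟩
    simpa using Normal.conj_mem inferInstance _ (QuotientGroup.eq.1 e) w w hw
  have := QuotientGroup.card_preimage_mk (LS b) ((QuotientGroup.mk : G → G ⧸ LS b) ''
      {z | IsConj b z})
  rw [← e, Nat.card_coe_set_eq, ncard_isConj_eq_index] at this
  exact ⟨_, this⟩

theorem LS_le_C {u : G} (hu : (C u).index.Coprime (C b).index) : LS b ≤ C u := by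
  rw [← relIndex_eq_one]
  exact Nat.eq_one_of_dvd_coprimes hu (relIndex_dvd_index_of_normal_right _ _)
    ((relIndex_dvd_card _ _).trans (card_LS_dvd b))

omit [Finite A] in
theorem comm_mem_LS (hb : Iv φ b) (top : ∀ z, Iv φ z → (C z).index ≤ (C b).index) {u : G}
    (iu : Iv φ u) (hu : (C u).index.Coprime (C b).index) (g : G) : ⁅g, u⁆ ∈ LS b := by
  intro z hz
  have ez := index_cent_of_isConj hz
  have hu' : (C u⁻¹).index.Coprime (C z).index := by rw [C, cent_inv, ← ez]; exact hu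
  have h1 : (C (u⁻¹ * z)).index = (C b).index := by
    refine le_antisymm (top _ fun a => ?_) ?_
    · obtain ⟨x, e1⟩ := isConj_iff.1 (iu.inv a)
      obtain ⟨y, e2⟩ := isConj_iff.1 (hb.of_isConj hz a)
      rw [map_mul, ← e1, ← e2]
      exact isConj_mul hu' x y
    rw [ez, ← ncard_isConj_eq_index, ← ncard_isConj_eq_index]
    refine Set.ncard_le_ncard_of_injOn (fun w => u⁻¹ * w) (fun w hw => ?_)
      (fun a _ b _ e => mul_left_cancel e)
    obtain ⟨k, rfl⟩ := isConj_iff.1 hw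
    simpa using isConj_mul hu' 1 k
  exact hz.trans (by
    simpa [commutatorElement_def, mul_assoc] using isConj_mul (u := u) (z := u⁻¹ * z) (h1 ▸ hu) g 1)

omit [Finite G] [Finite A] in
theorem sol_or (hc : (Nat.card A).Coprime (Nat.card G)) [Finite G] [Finite A] :
    Group.IsSolvable A ∨ Group.IsSolvable G := by
  rcases Nat.even_or_odd (Nat.card A) with h1 | h1
  · exact .inr (FT.odd_order_solvable (Nat.coprime_two_left.1 (hc.coprime_dvd_left h1.two_dvd)))
  · exact .inl (FT.odd_order_solvable h1)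

theorem Iv.exists_fix (hc : (Nat.card A).Coprime (Nat.card G)) {x : G} (h : Iv φ x) :
    ∃ d ∈ autFix φ, IsConj x d := by
  obtain ⟨k, -, hk⟩ := @aut_exists_fixed_in_orbit G A _ _ φ _ _ G (MulAction.compHom G MulAut.conj)
    (MulAction.compHom G φ) (fun a g x => by
      change φ a (g * x * g⁻¹) = φ a g * φ a x * (φ a g)⁻¹
      simp) ⊤ autInv_top (coprime_subgroup hc ⊤) (solvable_subgroup (sol_or hc) ⊤) x fun a =>
      let ⟨k, e⟩ := isConj_iff.1 (h a)
      ⟨k, mem_top _, e.symm⟩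
  exact ⟨k * x * k⁻¹, hk, isConj_iff.2 ⟨k, rfl⟩⟩

/-- A fixed `p`-element commutes with a conjugate of every fixed element of `p'`-class size. -/
theorem comm_fix (hc : (Nat.card A).Coprime (Nat.card G)) {p : ℕ} [Fact p.Prime] {c e : G}
    (h1 : c ∈ autFix φ) (h2 : ∃ k, orderOf c = p ^ k) (h3 : e ∈ autFix φ) (h4 : ¬ p ∣ (C e).index) :
    ∃ f ∈ autFix φ, Commute (f * e * f⁻¹) c := by
  obtain ⟨k, hk⟩ := h2
  obtain ⟨S, s1, s2⟩ := aut_exists_invariant_sylow_ge (p := p) hc (sol_or hc) (U := zpowers c)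
    (IsPGroup.of_card (by rw [Nat.card_zpowers, hk])) (autInv_of_le_autFix (zpowers_le.2 h1))
  have iC : AutInv φ (C e) := fun a x hx => mem_C.2 (by
    rw [← h3 a, ← map_mul, ← map_mul, mem_C.1 hx])
  obtain ⟨T, -, t2, t3, t4, t5⟩ := aut_exists_invariant_sylow' p iC (coprime_subgroup hc _)
    (solvable_subgroup (sol_or hc) _) bot_le IsPGroup.of_bot autInv_bot
  have t6 : ¬ p ∣ T.index := by
    rw [← relIndex_mul_index t2]
    exact fun h => ((Fact.out : p.Prime).dvd_mul.1 h).elim t4 h4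
  obtain ⟨f, hf, e1⟩ := aut_exists_autFix_smul_sylow_eq hc (sol_or hc) (t3.toSylow t6) S t5 s2
  have : c ∈ ((f • t3.toSylow t6 : Sylow p G) : Subgroup G) := e1 ▸ s1 (mem_zpowers c)
  obtain ⟨y, hy, rfl⟩ := this
  exact ⟨f, hf, Commute.conj (mem_C.1 (t2 hy)).symm f⟩

/-- The two families of invariant classes; `b` has the largest class. -/
structure Sp (φ : A →* MulAut G) (P Q : G → Prop) (b : G) : Prop where
  cov : ∀ g, (1 < (C g).index ∧ Iv φ g) ↔ P g ∨ Q g
  spl : ∀ x y, P x → Q y → (C x).index.Coprime (C y).index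
  ne : ∃ x, P x
  qb : Q b
  top : ∀ z, Iv φ z → (C z).index ≤ (C b).index

namespace Sp

variable (h : Sp φ P Q b) {x g : G}
include h

omit [Finite A] in
theorem of_prime {p : ℕ} (hp : p.Prime) (hx : P x) (ig : Iv φ g) (h1 : p ∣ (C x).index)
    (h2 : p ∣ (C g).index) : P g :=
  ((h.cov g).1 ⟨hp.one_lt.trans_le (Nat.le_of_dvd (Nat.pos_of_ne_zero index_ne_zero_of_finite) h2),
    ig⟩).resolve_right fun e => hp.one_lt.ne' (Nat.eq_one_of_dvd_coprimes (h.spl x g hx e) h1 h2)

omit [Finite A] in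
theorem of_dvd (hx : P x) (ig : Iv φ g) (h1 : (C x).index ∣ (C g).index) : P g :=
  let ⟨_, hp, h2⟩ := Nat.exists_prime_and_dvd ((h.cov x).2 (.inl hx)).1.ne'
  h.of_prime hp hx ig h2 (h2.trans h1)

omit [Finite A] in
theorem conj (hx : P x) (e : IsConj x g) : P g :=
  h.of_dvd hx (((h.cov x).2 (.inl hx)).2.of_isConj e) (index_cent_of_isConj e).dvd

omit [Finite A] in
theorem normal : (closure {x | P x}).Normal := by
  refine ⟨fun k hk g => ?_⟩
  have : closure {x | P x} ≤ (closure {x | P x}).comap (MulAut.conj g).toMonoidHom :=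
    (closure_le _).2 fun x hx => subset_closure (h.conj hx (isConj_iff.2 ⟨g, rfl⟩))
  exact this hk

omit [Finite A] in
theorem inv : AutInv φ (closure {x | P x}) := fun a _ hk =>
  (show closure {x | P x} ≤ (closure {x | P x}).comap (φ a).toMonoidHom from
    (closure_le _).2 fun x hx => subset_closure (h.conj hx (((h.cov x).2 (.inl hx)).2 a))) hk

omit [Finite A] in
theorem nilM : Group.IsNilpotent (closure {x | P x}) := by
  have h1 : closure {x | P x} ≤ (center (G ⧸ LS b)).comap (QuotientGroup.mk' (LS b)) :=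
    (closure_le _).2 fun x hx => mem_center_iff.2 fun y => by
      obtain ⟨y, rfl⟩ := QuotientGroup.mk'_surjective _ y
      rw [← commutatorElement_eq_one_iff_mul_comm, ← map_commutatorElement]
      exact (QuotientGroup.eq_one_iff _).2 (comm_mem_LS ((h.cov b).2 (.inr h.qb)).2 h.top
        ((h.cov x).2 (.inl hx)).2 (h.spl x b hx h.qb) y)
  have : Group.IsNilpotent (center (G ⧸ LS b)) := ⟨⟨1, by
    rw [Subgroup.upperCentralSeries_one, center_eq_top_iff]; infer_instance⟩⟩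
  refine Subgroup.isNilpotent_of_ker_le_center (((QuotientGroup.mk' (LS b)).comp (Subgroup.subtype _)).codRestrict
    (center (G ⧸ LS b)) fun x => h1 x.2) fun x hx => mem_center_iff.2 fun y => Subtype.ext ?_
  have h2 : (x : G) ∈ LS b := (QuotientGroup.eq_one_iff _).1 (congrArg Subtype.val hx)
  exact mem_C.1 ((closure_le (C (x : G))).2
    (fun z hz => mem_C.2 (mem_C.1 (LS_le_C (h.spl z b hz h.qb) h2)).symm) y.2)

theorem exists_d (hc : (Nat.card A).Coprime (Nat.card G)) :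
    ∃ d ∈ autFix φ, P d ∧ ∃ r k : ℕ, r.Prime ∧ orderOf d = r ^ k := by
  obtain ⟨x, hx⟩ := h.ne
  obtain ⟨d, d1, d2⟩ := ((h.cov x).2 (.inl hx)).2.exists_fix hc
  have pd := h.conj hx d2
  by_contra! hn
  refine ((h.cov d).2 (.inl pd)).1.ne' (index_cent_eq_one_iff.2
    (Transfer.mem_of_forall_prime_pow_mem _ d fun q hq _ y hy ⟨k, hk⟩ => ?_))
  by_contra yc
  obtain ⟨p, hp, h2⟩ := Nat.exists_prime_and_dvd (mt index_cent_eq_one_iff.1 yc)
  have yf := zpowers_le.2 d1 hy
  obtain ⟨j, -, hj⟩ := (Nat.dvd_prime_pow hq).1 (orderOf_dvd_of_pow_eq_one hk)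
  exact hn y yf (h.of_prime hp pd (.of_fix yf)
    (h2.trans (index_dvd_of_le (cent_le_cent_of_mem_zpowers hy))) h2) q j hq hj

theorem solv (core : FPD.CoreM.{u}) (hc : (Nat.card A).Coprime (Nat.card G)) : Group.IsSolvable G := by
  obtain ⟨M, _, iM, _, hM⟩ : ∃ M : Subgroup G, M.Normal ∧ AutInv φ M ∧ Group.IsNilpotent M ∧
      ∀ {x}, P x → x ∈ M := ⟨_, h.normal, h.inv, h.nilM, fun e => subset_closure e⟩
  obtain ⟨d, d1, d2, r, k, hr, d3⟩ := h.exists_d hc
  have lift := fun {y} hy => Solv.exists_fixed_lift (y := y) iM (coprime_subgroup hc M)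
    (.inr inferInstance) hy
  have mk : ∀ {c : G}, c ∈ autFix φ → (c : G ⧸ M) ∈ autFix (Solv.quotAut φ M iM) :=
    fun {c} e a => by rw [Solv.quotAut_mk, e a]
  have key : ∀ p : ℕ, p.Prime → p ≠ r → ∀ y : autFix (Solv.quotAut φ M iM), (∃ j, y ^ p ^ j = 1) →
      y ∈ center _ := by
    rintro p hp pr ⟨y, hy⟩ ⟨j, hj⟩
    have := Fact.mk hp
    obtain ⟨c₀, c1, rfl⟩ := lift hy
    obtain ⟨c, c', m1, m2, e, -, oc, oc'⟩ := exists_p_part p c₀
    have cf := zpowers_le.2 c1 m1
    have e' : (c₀ : G ⧸ M) = c := by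
      have a1 : orderOf (c' : G ⧸ M) ∣ p ^ j := (orderOf_dvd_of_mem_zpowers
        (by obtain ⟨n, rfl⟩ := m2; exact ⟨n, rfl⟩)).trans
          (orderOf_dvd_of_pow_eq_one (x := (c₀ : G ⧸ M)) (congrArg Subtype.val hj))
      have a2 : (c' : G ⧸ M) = 1 := orderOf_eq_one_iff.1 (Nat.eq_one_of_dvd_coprimes
        (((Nat.Prime.coprime_iff_not_dvd hp).2 oc').pow_left j) a1
        (orderOf_map_dvd (QuotientGroup.mk' M) c'))
      rw [← e, QuotientGroup.mk_mul, a2, mul_one]
    by_cases pd : p ∣ (C d).index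
    · refine cent_eq_top_iff.1 (Count.eq_top_of_forall_exists_conj_mem _ fun ⟨z, hz⟩ => ?_)
      obtain ⟨e, e1, rfl⟩ := lift hz
      by_cases pe : p ∣ (C e).index
      · refine ⟨1, mem_C.2 (Subtype.ext ?_)⟩
        have : (e : G ⧸ M) = 1 := (QuotientGroup.eq_one_iff _).2
          (hM (h.of_prime hp d2 (.of_fix e1) pd pe))
        simp [this]
      obtain ⟨f, f1, f2⟩ := comm_fix hc cf oc e1 pe
      refine ⟨⟨f, mk f1⟩, mem_C.2 (Subtype.ext ?_)⟩
      simpa [e'] using congrArg (QuotientGroup.mk : G → G ⧸ M) f2.eq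
    · obtain ⟨f, f1, f2⟩ := comm_fix hc cf oc d1 pd
      have p1 := h.conj d2 (isConj_iff.2 ⟨f, rfl⟩)
      obtain ⟨i, oc⟩ := oc
      have e2 := cent_mul_of_coprime f2 (by
        rw [← MulAut.conj_apply, MulEquiv.orderOf_eq, d3, oc]
        exact Nat.coprime_pow_primes _ _ hr hp pr.symm)
      have p2 := h.of_dvd p1 (.of_fix (mul_mem (mul_mem (mul_mem f1 d1) (inv_mem f1)) cf))
        (index_dvd_of_le (e2.le.trans inf_le_left))
      have : (c : G ⧸ M) = 1 := (QuotientGroup.eq_one_iff _).2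
        ((M.mul_mem_cancel_left (hM p1)).1 (hM p2))
      have e3 : (⟨c₀, hy⟩ : autFix (Solv.quotAut φ M iM)) = 1 := Subtype.ext (e'.trans this)
      exact e3 ▸ one_mem _
  have nil : Group.IsNilpotent (autFix (Solv.quotAut φ M iM)) := by
    have := Fact.mk hr
    refine Group.of_quotient_center_nilpotent (IsPGroup.isNilpotent (p := r) fun y => ?_)
    obtain ⟨y, rfl⟩ := QuotientGroup.mk_surjective y
    obtain ⟨s, t, -, -, rfl, -, ⟨i, os⟩, ot⟩ := exists_p_part r y
    have : (QuotientGroup.mk t : _ ⧸ center _) = 1 := (QuotientGroup.eq_one_iff _).2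
      (Transfer.mem_of_forall_prime_pow_mem _ t fun q hq h1 z _ hz => key q hq (fun e => ot (e ▸ h1)) z hz)
    exact ⟨i, by rw [QuotientGroup.mk_mul, this, mul_one, ← QuotientGroup.mk_pow, ← os,
      pow_orderOf_eq_one, QuotientGroup.mk_one]⟩
  refine (Group.isSolvable_iff_subgroup_quotient M).2 ⟨inferInstance, core.sol FPD.box
    (Solv.quotAut φ M iM) (F := ⊤) (by rw [card_top]; exact Solv.coprime_quot hc M) ?_⟩
  rwa [show KMS.fix (Solv.quotAut φ M iM) ⊤ = autFix (Solv.quotAut φ M iM) from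
    Subgroup.ext fun _ => KMS.mem_fix.trans ⟨fun e a => e a (mem_top a), fun e a _ => e a⟩]

end Sp

theorem s4165_of (core : FPD.CoreM.{u}) [MulDistribMulAction A G]
    (hcop : (Nat.card A).Coprime (Nat.card G))
    (X Y : Set (ConjClasses G)) (hX : X.Nonempty) (hY : Y.Nonempty)
    (hcover : ∀ C : ConjClasses G, (1 < Nat.card C.carrier ∧ ∀ a : A, ∀ g ∈ C.carrier,
      a • g ∈ C.carrier) ↔ (C ∈ X ∨ C ∈ Y))
    (hsplit : ∀ C ∈ X, ∀ D ∈ Y, (Nat.card C.carrier).Coprime (Nat.card D.carrier)) :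
    Group.IsSolvable G := by
  set φ := MulDistribMulAction.toMulAut A G
  have cov : ∀ g, (1 < (C g).index ∧ Iv φ g) ↔ ConjClasses.mk g ∈ X ∨ ConjClasses.mk g ∈ Y := fun g => by
    rw [← hcover, card_carrier_eq_index]
    refine and_congr_right fun _ => ⟨fun h a k hk => ?_, fun h a => ?_⟩
    · rw [ConjClasses.mem_carrier_iff_mk_eq, ConjClasses.mk_eq_mk_iff_isConj] at hk ⊢
      exact (hk.symm.trans (h.of_isConj hk.symm a)).symm
    · exact (ConjClasses.mk_eq_mk_iff_isConj.1 (ConjClasses.mem_carrier_iff_mk_eq.1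
        (h a g ConjClasses.mem_carrier_mk))).symm
  have spl : ∀ x y : G, ConjClasses.mk x ∈ X → ConjClasses.mk y ∈ Y →
      (C x).index.Coprime (C y).index := fun x y hx hy => by
    simpa only [card_carrier_eq_index] using hsplit _ hx _ hy
  obtain ⟨x, hx⟩ := hX
  obtain ⟨x, rfl⟩ := ConjClasses.mk_surjective x
  obtain ⟨y, hy⟩ := hY
  obtain ⟨y, rfl⟩ := ConjClasses.mk_surjective y
  obtain ⟨b, hb, top⟩ := Set.exists_max_image {g | Iv φ g} (fun g => (C g).index) (Set.toFinite _)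
    ⟨x, ((cov x).2 (.inl hx)).2⟩
  rcases (cov b).1 ⟨((cov x).2 (.inl hx)).1.trans_le (top x ((cov x).2 (.inl hx)).2), hb⟩ with e | e
  · exact Sp.solv (φ := φ) ⟨fun g => (cov g).trans or_comm, fun x y h1 h2 => (spl y x h2 h1).symm,
      ⟨y, hy⟩, e, top⟩ core hcop
  · exact Sp.solv (φ := φ) ⟨cov, spl, ⟨x, hx⟩, e, top⟩ core hcop

end CfsgLib.CNil
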