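import Cfsg.Agent.Lib.Cop.End
import Cfsg.Agent.Lib.Cop.Inv
import Cfsg.Agent.Lib.OFP.Bas1
import Cfsg.Agent.Lib.BenderRed.Final
import Cfsg.Agent.S1226
import Cfsg.Agent.Lib.KMS.Core

/-!
Coprime operator groups with nilpotent fixed point subgroup: the last step.
-/

set_option autoImplicit false
set_option linter.unusedSectionVars false

open Subgroup Cfsg CfsgLib.LAE
open scoped commutatorElement

namespace CfsgLib.CNil

section simple

variable {L : Type*} [Group L] [Finite L] [IsSimpleGroup L]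

theorem not_norm_le (nc : ¬ IsMulCommutative L) (S : Sylow 2 L) (S1 : (S : Subgroup L) ≠ ⊥) :
    ¬ normalizer ((S : Subgroup L) : Set L) ≤ centralizer ((S : Subgroup L) : Set L) := fun h => by
  have : Fact (Nat.Prime 2) := ⟨Nat.prime_two⟩
  have h1 := MonoidHom.ker_transferSylow_isComplement' S h
  rcases IsSimpleGroup.eq_bot_or_eq_top_of_normal (MonoidHom.transferSylow S h).ker
    inferInstance with e | e
  · rw [e, isComplement'_bot_left] at h1
    exact nc ⟨⟨fun x y => h (le_normalizer (h1.ge (mem_top y))) x (h1.ge (mem_top x))⟩⟩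
  · rw [e, isComplement'_top_left] at h1
    exact S1 h1

/-- The split rank one situation. -/
def TI2 (S : Subgroup L) : Prop :=
  (∃ g, g ∉ normalizer (S : Set L)) ∧
  (∀ y ∈ S, y ≠ 1 → ∀ g, g⁻¹ * y * g ∈ normalizer (S : Set L) → g ∈ normalizer (S : Set L)) ∧
  ∀ g₁ g₂, g₁ ∉ normalizer (S : Set L) → g₂ ∉ normalizer (S : Set L) →
    ∃ v ∈ S, g₂⁻¹ * (v * g₁) ∈ normalizer (S : Set L)

theorem ti2_of_se {H : Subgroup L} (hH : IsStronglyEmbedded H) (S : Sylow 2 L) :
    TI2 (S : Subgroup L) := by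
  have : Fact (Nat.Prime 2) := ⟨Nat.prime_two⟩
  have hO : pPrimeCore 2 L = ⊥ := by
    refine (IsSimpleGroup.eq_bot_or_eq_top_of_normal _ inferInstance).resolve_right fun e => ?_
    have h1 := Core.coprime_card_pPrimeCore 2 L
    rw [e, card_top] at h1
    exact Nat.not_odd_iff_even.2 (hH.2.1.trans_dvd (card_subgroup_dvd_card H))
      (Nat.coprime_two_right.1 h1)
  obtain ⟨S', K, h⟩ := BCor.exists_str BenderRed.benderSimple hH hO
  obtain ⟨c, rfl⟩ := MulAction.exists_smul_eq L S' S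
  have e : ((c • S' : Sylow 2 L) : Subgroup L) = conjS c (S' : Subgroup L) := by
    rw [Sylow.coe_subgroup_smul, conjS_eq_smul]
  have mN : ∀ g, g ∈ normalizer (conjS c (S' : Subgroup L) : Set L) ↔ c⁻¹ * g * c ∈ H := fun g => by
    rw [← conjS_normalizer, mem_conjS, h.eq]
  rw [e]
  refine ⟨?_, fun y hy y1 g hg => ?_, fun g₁ g₂ h1 h2 => ?_⟩
  · by_contra hc
    push Not at hc
    exact hH.1 (eq_top_iff.2 fun g _ => by
      have := (mN _).1 (hc (c * g * c⁻¹))
      convert this using 1; group)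
  · have hy' := mem_conjS.1 hy
    refine (mN g).2 (BCor.se_mem_of_two hH (y := c⁻¹ * y * c) ?_ (fun e => y1 ?_)
      (h.eq.ge (le_normalizer hy')) ?_)
    · obtain ⟨n, hn⟩ := S'.isPGroup' ⟨_, hy'⟩
      exact ⟨n, congrArg Subtype.val hn⟩
    · rw [show y = c * (c⁻¹ * y * c) * c⁻¹ by group, e]; group
    · convert (mN _).1 hg using 1; group
  · obtain ⟨v, hv, h3⟩ := h.dc _ _ (mt (mN g₁).2 h1) (mt (mN g₂).2 h2)
    refine ⟨c * v * c⁻¹, conj_mem_conjS.2 hv, (mN _).2 ?_⟩
    convert h3 using 1; group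

theorem card_syl (S : Sylow 2 L) {n m : ℕ} (hm : Odd m) (e : Nat.card L = 2 ^ n * m) :
    Nat.card (S : Subgroup L) = 2 ^ n := by
  have : Fact (Nat.Prime 2) := ⟨Nat.prime_two⟩
  rw [S.card_eq_multiplicity, e, Nat.factorization_mul (by positivity) hm.pos.ne',
    Finsupp.add_apply, Nat.factorization_eq_zero_of_not_dvd hm.not_two_dvd_nat,
    Nat.prime_two.factorization_pow]
  simp

theorem dich (nc : ¬ IsMulCommutative L) (S : Sylow 2 L) {V : Subgroup L} (h1 : V ≠ ⊥)
    (hc : IsMulCommutative V) (hs : IsStronglyClosed V (S : Subgroup L)) :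
    TI2 (S : Subgroup L) ∨ (IsMulCommutative (S : Subgroup L) ∧
      Nat.card (S : Subgroup L) ≤ 8 ∧ 3 ∣ Nat.card L) := by
  have : Fact (Nat.Prime 2) := ⟨Nat.prime_two⟩
  have S1 : (S : Subgroup L) ≠ ⊥ := fun e => h1 (eq_bot_iff.2 (hs.1.trans e.le))
  rcases Cfsg.Agent.S1169.result S V h1 hc hs with h | ⟨H, hH⟩
  swap
  · exact Or.inl (ti2_of_se hH S)
  rcases Cfsg.Agent.S0506.result nc S h with ⟨a, ha, K, _, _, hK, ⟨e⟩⟩ | ⟨K, _, _, hK, ⟨e⟩⟩ |
    ⟨-, m, -, hm⟩ | ⟨-, hm⟩
  · have : CharP K 2 := by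
      have h := FiniteField.even_card_iff_char_two.2 (show Fintype.card K % 2 = 0 by
        rw [hK]; exact Nat.even_iff.1 (Nat.even_pow.2 ⟨even_two, by omega⟩))
      exact h ▸ ringChar.charP K
    have hn := not_norm_le nc S S1
    refine Or.inl (ti2_of_se (Cfsg.Agent.S1226.result S (fun hc => hn
      (IsCyclic.normalizer_le_centralizer ?_ hc)) (fun hN => ?_) fun t ht => ?_) S)
    · refine (Nat.minFac_eq_two_iff _).2 (dvd_trans ?_ (card_subgroup_dvd_card (S : Subgroup L)))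
      have := (nontrivial_iff_ne_bot _).2 S1
      obtain ⟨n, hn, e⟩ := S.isPGroup'.nontrivial_iff_card.1 this
      rw [e]
      exact dvd_pow_self 2 hn.ne'
    · rcases IsSimpleGroup.eq_bot_or_eq_top_of_normal _ hN with e | e
      · exact S1 e
      · exact nc ⟨⟨fun x y => congrArg Subtype.val
          (h.is_comm.comm ⟨x, e.ge (mem_top x)⟩ ⟨y, e.ge (mem_top y)⟩)⟩⟩
    · have h2 := Abel2.even_cent (v := e t) (n := 1) (fun h => by
        rw [map_eq_one_iff e e.injective] at h; simp [h] at ht)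
        (by
          have : t ^ 2 = 1 := ht ▸ pow_orderOf_eq_one t
          rw [pow_one, ← map_pow, this, map_one])
      have h3 : ∀ c ∈ centralizer ({t} : Set L), e c ∈ centralizer {e t} := fun c hc =>
        mem_centralizer_singleton_iff.2 (by
          rw [← map_mul, mem_centralizer_singleton_iff.1 hc, map_mul])
      exact ⟨⟨⟨fun x y => Subtype.ext (e.injective (by
          simpa using (h2 _ (h3 _ x.2)).2 _ (h3 _ y.2)))⟩⟩,
        fun c hc => e.injective (by simpa using (h2 _ (h3 _ hc)).1)⟩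
  · obtain ⟨m, hm, e1⟩ := Ward.card_psl_four_mul (Or.inr hK)
    have e2 := CIT.App.psl2_odd_card (F := K) (Nat.odd_iff.2 (by omega))
    rw [← Nat.card_congr e.toEquiv] at e1 e2
    refine Or.inr ⟨h, by rw [card_syl S hm (n := 2) e1]; norm_num, ?_⟩
    refine (Nat.Coprime.dvd_mul_left (by norm_num : Nat.Coprime 3 2)).1 ?_
    rw [e2]
    obtain ⟨k, hk⟩ : ∃ k, Fintype.card K = k + 1 := ⟨Fintype.card K - 1, by omega⟩
    rw [hk, Nat.add_sub_cancel]
    rcases (by omega : k % 3 = 0 ∨ (k + 1) % 3 = 0 ∨ (k + 1 + 1) % 3 = 0) with h | h | h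
    · exact ((Nat.dvd_of_mod_eq_zero h).mul_right _).mul_left _
    · exact (Nat.dvd_of_mod_eq_zero h).mul_right _
    · exact ((Nat.dvd_of_mod_eq_zero h).mul_left _).mul_left _
  · obtain ⟨k, hk⟩ : ∃ k, 3 ^ (2 * m + 1) = 8 * k + 3 := ⟨3 ^ (2 * m + 1) / 8, by
      have : 3 ^ (2 * m + 1) % 8 = 3 := by simp [pow_succ, pow_mul, Nat.mul_mod, Nat.pow_mod]
      omega⟩
    refine Or.inr ⟨h, (card_syl S (n := 3) (m := (8 * k + 3) ^ 3 *
      (2 * (64 * k ^ 3 + 72 * k ^ 2 + 27 * k + 3) + 1) * (2 * (2 * k) + 1))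
      (((Odd.pow ⟨4 * k + 1, by ring⟩).mul ⟨_, rfl⟩).mul ⟨_, rfl⟩) ?_).le, ?_⟩
    · rw [hm, hk, show 8 * k + 3 - 1 = 8 * k + 2 from rfl]
      ring
    · rw [hm]
      exact (((dvd_pow_self 3 (by omega)).trans (dvd_pow_self _ (by omega))).mul_right _).mul_right _
  · exact Or.inr ⟨h, (card_syl S (n := 3) (m := 21945) (by decide) hm).le, by rw [hm]; decide⟩

end simple

variable {X : Type*} [Group X] [Finite X] {A G S V : Subgroup X}

theorem mem_syl_of_norm (hS : IsSylowIn 2 S G) {y : X} (hy : y ∈ G)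
    (hn : y ∈ normalizer (S : Set X)) {n : ℕ} (h2 : y ^ 2 ^ n = 1) : y ∈ S := by
  have : Fact (Nat.Prime 2) := ⟨Nat.prime_two⟩
  have hp : IsPGroup 2 (zpowers y) := by
    obtain ⟨k, -, hk⟩ := (Nat.dvd_prime_pow Nat.prime_two).1 (orderOf_dvd_of_pow_eq_one h2)
    exact IsPGroup.of_card ((Nat.card_zpowers y).trans hk)
  have := hS.eq_of_le (zpowers y ⊔ S) (isPGroup_sup hp hS.isPGroup (zpowers_le.2 hn)) le_sup_right
    (sup_le (zpowers_le.2 hy) hS.le)
  rw [← this]
  exact mem_sup_left (mem_zpowers y)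

theorem ti_false (AG : A ≤ normalizer (G : Set X)) (cop : (Nat.card A).Coprime (Nat.card G))
    (nil : Group.IsNilpotent (G ⊓ centralizer (A : Set X) : Subgroup X))
    (hS : IsSylowIn 2 S G) (AS : A ≤ normalizer (S : Set X)) {x : X} (xS : x ∈ S) (x1 : x ≠ 1)
    (xA : x ∈ centralizer (A : Set X)) (h : TI2 (S.subgroupOf G)) : False := by
  have mN : ∀ g : G, g ∈ normalizer (S.subgroupOf G : Set G) ↔ (g : X) ∈ normalizer (S : Set X) :=
    fun g => by
      rw [← OFP.bas1_norm_map G.subtype_injective, map_subgroupOf_eq_of_le hS.le]; rfl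
  obtain ⟨⟨g, hg⟩, h2, h3⟩ := h
  rw [mN] at hg
  have cp : ∀ {K : Subgroup X}, K ≤ G → (Nat.card A).Coprime (Nat.card K) := fun hK =>
    cop.coprime_dvd_right (card_dvd_of_le hK)
  obtain ⟨k, hk, h4⟩ := Coprime.exists_conj_mem_of_subset_mul
    (S := conjS (g : X) (normalizer (S : Set X))) AS (cp hS.le) (FPD.solv_or (cp hS.le)) fun a ha => by
      obtain ⟨v, hv, h5⟩ := h3 ⟨a * g * a⁻¹, conj_mem_of_mem_normalizer (AG ha) g.2⟩ g
        (fun e => hg (by
          have := mul_mem (mul_mem (inv_mem (AS ha)) ((mN _).1 e)) (AS ha)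
          convert this using 1
          simp [mul_assoc])) (mt (mN g).1 hg)
      refine ⟨(v : X)⁻¹, inv_mem hv, v * a, mem_conjS.2 ?_, by group⟩
      have := mul_mem ((mN _).1 h5) (AS ha)
      convert this using 1
      simp [mul_assoc]
  have AU : A ≤ normalizer ((G ⊓ normalizer (S : Set X) : Subgroup X) : Set X) :=
    le_normalizer_inf AG (AS.trans (normalizer_le_normalizer_normalizer _))
  have kg : k⁻¹ * g ∈ G := mul_mem (inv_mem (hS.le hk)) g.2
  obtain ⟨u, hu, hc⟩ := Coprime.exists_mul_mem_centralizer AU (cp inf_le_left)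
    (FPD.solv_or (cp inf_le_left)) (k⁻¹ * g) fun a ha => by
      refine mem_inf.2 ⟨mul_mem (inv_mem kg) (conj_mem_of_mem_normalizer (AG ha) kg), ?_⟩
      have := mul_mem (mem_conjS.1 (h4 a ha)) (inv_mem (AS ha))
      convert this using 1
      group
  set C := G ⊓ centralizer (A : Set X) with hC
  have cC : k⁻¹ * g * u ∈ C := ⟨mul_mem kg hu.1, hc⟩
  have h5 := normalizerCondition_iff_only_full_group_self_normalizing.1
    (Group.normalizerCondition_of_isNilpotent (G := C)) ((normalizer (S : Set X)).subgroupOf C)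
    (le_antisymm (fun y hy => ?_) le_normalizer)
  · have h6 : k⁻¹ * g * u ∈ normalizer (S : Set X) := h5.ge (mem_top (⟨_, cC⟩ : C))
    refine hg ?_
    have := mul_mem (mul_mem (le_normalizer hk) h6) (inv_mem hu.2)
    convert this using 1
    group
  · have h6 : y⁻¹ * ⟨x, hS.le xS, xA⟩ * y ∈ (normalizer (S : Set X)).subgroupOf C :=
      conj_inv_mem_of_mem_normalizer hy (le_normalizer xS)
    exact (mN ⟨y, y.2.1⟩).1 (h2 ⟨x, hS.le xS⟩ xS (fun e => x1 (congrArg Subtype.val e)) ⟨y, y.2.1⟩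
      ((mN _).2 h6))

theorem cent_of_small (cop : (Nat.card A).Coprime 6)
    (pS : IsPGroup 2 S) (AS : A ≤ normalizer (S : Set X)) {x : X} (xS : x ∈ S) (x1 : x ≠ 1)
    (xA : x ∈ centralizer (A : Set X)) (h8 : Nat.card S ≤ 8) : S ≤ centralizer (A : Set X) := by
  have : Fact (Nat.Prime 2) := ⟨Nat.prime_two⟩
  intro y hy
  set S₀ := S ⊓ centralizer (A : Set X) with hS₀
  have cS : (Nat.card A).Coprime (Nat.card S₀) := by
    obtain ⟨n, hn⟩ := (pS.to_le (inf_le_left : S₀ ≤ S)).exists_card_eq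
    rw [hn]
    exact (cop.coprime_dvd_right (by norm_num)).pow_right n
  have A0 : A ≤ normalizer (S₀ : Set X) :=
    le_normalizer_inf AS (le_normalizer_centralizer le_normalizer)
  have h4 : Nat.card (S ⧸ S₀.subgroupOf S) ≤ 4 := by
    have e1 := card_eq_card_quotient_mul_card_subgroup (S₀.subgroupOf S)
    have e2 : 1 < Nat.card (S₀.subgroupOf S) := one_lt_card_iff_ne_bot _ |>.2
      (ne_bot_iff_exists_ne_one.2 ⟨⟨⟨x, xS⟩, xS, xA⟩,
        fun e => x1 (congrArg (fun z => ((z.1 : S) : X)) e)⟩)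
    nlinarith
  obtain ⟨u, hu, hc⟩ := Coprime.exists_mul_mem_centralizer A0 cS (FPD.solv_or cS) y fun a ha => by
    let f : Fin 5 → S ⧸ S₀.subgroupOf S := fun i =>
      QuotientGroup.mk ⟨a ^ i.1 * y * (a ^ i.1)⁻¹, conj_mem_of_mem_normalizer (AS (pow_mem ha _)) hy⟩
    have key : ∀ i j : Fin 5, i < j → f i = f j → y⁻¹ * (a * y * a⁻¹) ∈ S₀ := fun i j hij e => by
      have e1 : (a ^ i.1 * y * (a ^ i.1)⁻¹)⁻¹ * (a ^ j.1 * y * (a ^ j.1)⁻¹) ∈ S₀ :=
        mem_subgroupOf.1 (QuotientGroup.eq.1 e)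
      obtain ⟨m, hm⟩ := Nat.exists_eq_add_of_lt (show i.1 < j.1 from hij)
      have e2 : a ^ (m + 1) ∈ Cop.fixS S₀ y⁻¹ := by
        refine ⟨A0 (pow_mem ha _), ?_⟩
        have := conj_inv_mem_of_mem_normalizer (A0 (pow_mem ha i.1)) e1
        rw [hm, add_assoc, pow_add] at this
        convert this using 1
        simp only [commutatorElement_def]
        group
      have e3 : a ∈ Cop.fixS S₀ y⁻¹ := by
        refine mem_of_pow_mem_of_coprime ?_ e2
        have c1 : (orderOf a).Coprime 6 := cop.coprime_dvd_left (orderOf_dvd_natCard A ha)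
        have c2 : (orderOf a).Coprime (6 ^ 2) := c1.pow_right 2
        refine c2.coprime_dvd_right ?_
        have : m + 1 ≤ 4 := by omega
        interval_cases h : m + 1 <;> omega
      have := e3.2
      convert this using 1
      simp only [commutatorElement_def]
      group
    have := Fintype.ofFinite (S ⧸ S₀.subgroupOf S)
    obtain ⟨i, j, hij, e⟩ := Fintype.exists_ne_map_eq_of_card_lt f (by
      rw [← Nat.card_eq_fintype_card, Fintype.card_fin]; omega)
    rcases lt_or_gt_of_ne hij with h | h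
    · exact key i j h e
    · exact key j i h e.symm
  simpa using mul_mem hc (inv_mem hu.2)

theorem ab_false (AG : A ≤ normalizer (G : Set X)) (cop : (Nat.card A).Coprime (Nat.card G))
    (nil : Group.IsNilpotent (G ⊓ centralizer (A : Set X) : Subgroup X))
    (hS : IsSylowIn 2 S G) (SA : S ≤ centralizer (A : Set X))
    (ab : S ≤ centralizer (S : Set X)) :
    G ⊓ normalizer (S : Set X) ≤ centralizer (S : Set X) := by
  rintro n ⟨nG, nS⟩
  have AS : A ≤ centralizer (S : Set X) := le_centralizer_iff.1 SA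
  have cU : (Nat.card A).Coprime (Nat.card (G ⊓ centralizer (S : Set X) : Subgroup X)) :=
    cop.coprime_dvd_right (card_dvd_of_le inf_le_left)
  obtain ⟨u, hu, hc⟩ := Coprime.exists_mul_mem_centralizer (le_normalizer_inf AG
    (le_normalizer_centralizer (AS.trans (centralizer_le_normalizer _)))) cU (FPD.solv_or cU) n
    fun a ha => by
      refine mem_inf.2 ⟨mul_mem (inv_mem nG) (conj_mem_of_mem_normalizer (AG ha) nG),
        mem_centralizer_iff.2 fun s hs => ?_⟩
      have e1 := AS ha _ (conj_mem_of_mem_normalizer nS hs)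
      have e2 := AS ha _ hs
      calc s * (n⁻¹ * (a * n * a⁻¹)) = n⁻¹ * (n * s * n⁻¹ * a) * n * a⁻¹ := by group
        _ = n⁻¹ * a * n * (s * a⁻¹) := by rw [e1]; group
        _ = n⁻¹ * a * n * (a⁻¹ * (a * s) * a⁻¹) := by group
        _ = _ := by rw [← e2]; group
  have cG : n * u ∈ G := mul_mem nG hu.1
  have cN : n * u ∈ normalizer (S : Set X) := mul_mem nS (centralizer_le_normalizer _ hu.2)
  obtain ⟨k, m, hm, e⟩ := Nat.exists_eq_two_pow_mul_odd (orderOf_pos (n * u)).ne'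
  have h1 : (n * u) ^ m ∈ centralizer (S : Set X) :=
    ab (mem_syl_of_norm hS (pow_mem cG m) (pow_mem cN m) (n := k)
      (by rw [← pow_mul, mul_comm m, ← e, pow_orderOf_eq_one]))
  have h2 : (n * u) ^ 2 ^ k ∈ centralizer (S : Set X) := mem_centralizer_iff.2 fun s hs => by
    have h3 := Core.commute_of_coprime_orderOf_of_isNilpotent
      (G := (G ⊓ centralizer (A : Set X) : Subgroup X)) (x := ⟨s, hS.le hs, SA hs⟩)
      (y := ⟨(n * u) ^ 2 ^ k, pow_mem (mem_inf.2 ⟨cG, hc⟩) _⟩) (by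
        rw [← orderOf_coe, ← orderOf_coe]
        obtain ⟨j, hj⟩ := hS.isPGroup ⟨s, hs⟩
        refine Nat.Coprime.coprime_dvd_left
          (orderOf_dvd_of_pow_eq_one (congrArg Subtype.val hj)) ?_
        refine Nat.Coprime.coprime_dvd_right (orderOf_dvd_of_pow_eq_one (n := m) ?_)
          (hm.coprime_two_left.pow_left j)
        show ((n * u) ^ 2 ^ k) ^ m = 1
        rw [← pow_mul, ← e, pow_orderOf_eq_one])
    exact congrArg Subtype.val h3.eq
  have h3 := KMS.mem_of_pow_mem_of_coprime (hm.coprime_two_right.pow_right k) h1 h2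
  simpa using mul_mem h3 (inv_mem hu.2)

/-- The last step. -/
theorem end_false (simple : IsSimpleGroup G) (nc : ¬ IsMulCommutative G)
    (AG : A ≤ normalizer (G : Set X)) (cop : (Nat.card A).Coprime (Nat.card G))
    (nil : Group.IsNilpotent (G ⊓ centralizer (A : Set X) : Subgroup X))
    (ev : ∃ x ∈ S, x ≠ 1 ∧ x ∈ centralizer (A : Set X))
    (hS : IsSylowIn 2 S G) (AS : A ≤ normalizer (S : Set X))
    (VS : V ≤ S) (V1 : V ≠ ⊥) (Vc : V ≤ centralizer (V : Set X))
    (good : ∀ U ≤ S, ∀ g ∈ G, g ∈ normalizer (U : Set X) →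
      ∃ c ∈ centralizer (U : Set X), ∃ m ∈ normalizer (V : Set X), g = c * m) : False := by
  have : Fact (Nat.Prime 2) := ⟨Nat.prime_two⟩
  obtain ⟨x, xS, x1, xA⟩ := ev
  have VG : V ≤ G := VS.trans hS.le
  have hsc : IsStronglyClosed (V.subgroupOf G) (hS.toSylow : Subgroup G) :=
    ⟨fun x hx => VS hx, fun x hx c hc => Cop.closed_of_good hS good hx (VS hx) c.2 hc⟩
  have hf := G.subtype_injective
  rcases dich nc hS.toSylow (V := V.subgroupOf G) (fun e => V1 (by
      rw [← map_subgroupOf_eq_of_le VG, e, Subgroup.map_bot]))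
    ⟨⟨fun x y => Subtype.ext (Subtype.ext (Vc y.2 _ x.2))⟩⟩ hsc with h | ⟨h1, h2, h3⟩
  · exact ti_false AG cop nil hS AS xS x1 xA h
  have h4 : 2 ∣ Nat.card G := by
    have := (nontrivial_iff_ne_bot S).2 fun e => x1 (mem_bot.1 (e ▸ xS))
    obtain ⟨n, hn, e⟩ := hS.isPGroup.nontrivial_iff_card.1 this
    exact ((dvd_pow_self 2 hn.ne').trans e.symm.dvd).trans (card_dvd_of_le hS.le)
  have h5 := cent_of_small (cop.coprime_dvd_right
    (Nat.Coprime.mul_dvd_of_dvd_of_dvd (by norm_num : Nat.Coprime 2 3) h4 h3)) hS.isPGroup AS xS x1 xA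
    (by rwa [← Nat.card_congr (subgroupOfEquivOfLe hS.le).toEquiv])
  have h6 := ab_false AG cop nil hS h5 fun y hy => mem_centralizer_iff.2 fun z hz =>
    congrArg (fun w => ((w.1 : G) : X)) (h1.is_comm.comm ⟨⟨z, hS.le hz⟩, hz⟩ ⟨⟨y, hS.le hy⟩, hy⟩)
  refine not_norm_le nc hS.toSylow (fun e => x1 ?_) fun g hg => ?_
  · exact congrArg Subtype.val (mem_bot.1 (e.le (show (⟨x, hS.le xS⟩ : G) ∈ _ from xS)))
  · rw [← OFP.bas1_cent_map hf, hS.map_toSylow]
    rw [← OFP.bas1_norm_map hf, hS.map_toSylow] at hg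
    exact h6 ⟨g.2, hg⟩

end CfsgLib.CNil
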