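import Cfsg.Agent.Lib.CNil.S1a
import Cfsg.Agent.Lib.CNil.End
import Cfsg.Agent.Lib.Cop.Loc
import Cfsg.Agent.Lib.FPD.Nil

/-!
Coprime operator groups with nilpotent fixed point subgroup: the frame.
-/

set_option autoImplicit false
set_option linter.unusedSectionVars false

open Subgroup Cfsg CfsgLib.LAE CfsgLib.OFP CfsgLib.Cop

universe u

namespace CfsgLib.CNil

variable {X : Type u} [Group X]

/-- The minimal counterexample. -/
structure FN (A G S : Subgroup X) : Prop extends FPD.Simp A G where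
  cop : (Nat.card A).Coprime (Nat.card G)
  nil : Group.IsNilpotent (G ⊓ centralizer (A : Set X) : Subgroup X)
  syl : IsSylowIn 2 S G
  AS : A ≤ normalizer (S : Set X)
  ev : ∃ x ∈ S, x ≠ 1 ∧ x ∈ centralizer (A : Set X)
  om : NoOm A G
  vV : VV A S (vv G S)

variable [Finite X] {A G S : Subgroup X}

/-- The normalizer in `G` of a non-trivial invariant `2`-subgroup is solvable. -/
theorem solv_norm (h : FPD.Simp A G) {C : Subgroup X} (hC : C ≤ G) (pC : IsPGroup 2 C)
    (C1 : C ≠ ⊥) (hA : A ≤ normalizer (C : Set X)) :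
    Group.IsSolvable (G ⊓ normalizer (C : Set X) : Subgroup X) := by
  have : Fact (Nat.Prime 2) := ⟨Nat.prime_two⟩
  have := pC.isNilpotent
  exact h.solv _ inf_le_left (fun e => C1 (h.eq_bot hC (e ▸ inf_le_right) inferInstance))
    (le_normalizer_inf h.AG (hA.trans (normalizer_le_normalizer_normalizer _)))

theorem solvJ (h : FPD.Simp A G) (hS : IsSylowIn 2 S G) (AS : A ≤ normalizer (S : Set X))
    (S1 : S ≠ ⊥) :
    Group.IsSolvable (G ⊓ normalizer (thompsonSubgroupOf 2 S : Set X) : Subgroup X) := by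
  have : Fact (Nat.Prime 2) := ⟨Nat.prime_two⟩
  have h1 : thompsonSubgroupOf 2 S ≤ S := PLocal.thompsonSubgroupOf_le S
  refine solv_norm h (h1.trans hS.le) (hS.isPGroup.to_le h1)
    (fun e => omegaZ_ne_bot hS.isPGroup S1 ?_)
    (AS.trans (PLocal.normalizer_le_normalizer_thompsonSubgroupOf S))
  exact eq_bot_iff.2 (((Blocks.omegaZ_le_zj S).trans (PLocal.omegaOne_le _)).trans
    (inf_le_left.trans e.le))

namespace FN

theorem AG (h : FN A G S) : A ≤ normalizer (G : Set X) := h.toSimp.AG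

theorem odd (h : FN A G S) : Odd (Nat.card A) := h.toSimp.odd h.cop

theorem S_ne_bot (h : FN A G S) : S ≠ ⊥ := fun e =>
  let ⟨_, h1, h2, _⟩ := h.ev
  h2 (mem_bot.1 (e ▸ h1))

theorem Z_ne_bot (h : FN A G S) : omegaZ 2 S ≠ ⊥ :=
  have : Fact (Nat.Prime 2) := ⟨Nat.prime_two⟩
  omegaZ_ne_bot h.syl.isPGroup h.S_ne_bot

theorem solv_norm (h : FN A G S) {C : Subgroup X} (hC : C ≤ G) (pC : IsPGroup 2 C)
    (C1 : C ≠ ⊥) (hA : A ≤ normalizer (C : Set X)) :
    Group.IsSolvable (G ⊓ normalizer (C : Set X) : Subgroup X) :=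
  CNil.solv_norm h.toSimp hC pC C1 hA

theorem SM (h : FN A G S) : S ≤ G ⊓ normalizer (vv G S : Set X) := le_inf h.syl.le h.vV.SV

theorem V_ne_bot (h : FN A G S) : vv G S ≠ ⊥ := fun e =>
  h.Z_ne_bot (eq_bot_iff.2 ((omegaZ_le_vv G S).trans e.le))

theorem solvM (h : FN A G S) : Group.IsSolvable (G ⊓ normalizer (vv G S : Set X) : Subgroup X) :=
  h.solv_norm (h.vV.le.trans h.syl.le) (h.syl.isPGroup.to_le h.vV.le) h.V_ne_bot h.vV.AV

theorem AM (h : FN A G S) :
    A ≤ normalizer ((G ⊓ normalizer (vv G S : Set X) : Subgroup X) : Set X) :=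
  le_normalizer_inf h.AG (h.vV.AV.trans (normalizer_le_normalizer_normalizer _))

theorem loc_inv (h : FN A G S) {C : Subgroup X} (h1 : C ≤ S) (C1 : C ≠ ⊥)
    (h2 : S ≤ normalizer (C : Set X)) (h3 : A ≤ normalizer (C : Set X)) :
    G ⊓ normalizer (C : Set X) ≤ CM (G ⊓ normalizer (vv G S : Set X)) C := by
  intro g hg
  obtain ⟨o, -, m, hm, hc, hn, rfl⟩ := step1_loc h.vV h.om h.syl h.AG h.AS h1 h2 h3
    (h.solv_norm (h1.trans h.syl.le) (h.syl.isPGroup.to_le h1) C1 h3) hg.1 hg.2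
  exact mem_CM.2 ⟨o, hc, m, hm, hn, rfl⟩

theorem loc_cz (h : FN A G S) {R : Subgroup X} (hR : R ≤ S) :
    G ⊓ centralizer (omegaZ 2 S : Set X) ⊓ normalizer (R : Set X) ≤
      CM (G ⊓ normalizer (vv G S : Set X)) R := by
  intro g hg
  have ZS : omegaZ 2 S ≤ S := omegaZ_le S
  have AZ : A ≤ normalizer (omegaZ 2 S : Set X) := h.AS.trans (normalizer_le_normalizer_omegaZ S)
  have hs := h.solv_norm (ZS.trans h.syl.le) (h.syl.isPGroup.to_le ZS) h.Z_ne_bot AZ
  have SH : S ≤ G ⊓ centralizer (omegaZ 2 S : Set X) := le_inf h.syl.le (le_centralizer_omegaZ S)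
  have h4 : Group.IsSolvable (G ⊓ centralizer (omegaZ 2 S : Set X) : Subgroup X) :=
    Group.isSolvable_of_isSolvable_injective (inclusion_injective
      (inf_le_inf_left G (centralizer_le_normalizer (omegaZ 2 S : Set X))))
  have h3 : A ≤ normalizer ((G ⊓ centralizer (omegaZ 2 S : Set X) : Subgroup X) : Set X) :=
    le_normalizer_inf h.AG (le_normalizer_centralizer AZ)
  have h5 := step1 h.vV h.om h.syl h.AS SH inf_le_left h3 h4 hg.1
  obtain ⟨o, ho, m, hm, rfl⟩ :=
    (mem_sup_iff_of_right_le_normalizer (inf_le_left.trans (AG.le_normalizer_opr _))).1 h5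
  exact mem_CM_of_odd (h.syl.isPGroup.to_le hR) (hR.trans h.SM)
    ((hR.trans SH).trans (AG.le_normalizer_opr _)) (Core.coprime_card_map_pPrimeCore _) ho
    ⟨hm.1.1, hm.2⟩ hg.2

theorem false_of_good (h : FN A G S)
    (good : ∀ U ≤ S, G ⊓ normalizer (U : Set X) ≤ CM (G ⊓ normalizer (vv G S : Set X)) U) :
    False := by
  refine end_false h.simple h.nc h.AG h.cop h.nil h.ev h.syl h.AS h.vV.le h.V_ne_bot
    (fun x hx y hy => MinS.M1.comm_of_sq h.vV.sq hy hx) fun U hU g h1 h2 => ?_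
  obtain ⟨c, hc, m, hm, -, e⟩ := mem_CM.1 (good U hU ⟨h1, h2⟩)
  exact ⟨c, hc, m, hm.2, e⟩

end FN

/-- The theorem follows from step 1 and the non-existence of the frame. -/
theorem coreM_of
    (om : ∀ (X : Type u) [Group X] [Finite X] (A G : Subgroup X), A ≤ normalizer (G : Set X) →
      (Nat.card A).Coprime (Nat.card G) →
      Group.IsNilpotent (G ⊓ centralizer (A : Set X) : Subgroup X) → NoOm A G)
    (hv : ∀ (X : Type u) [Group X] [Finite X] (A G S : Subgroup X), A ≤ normalizer (G : Set X) →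
      (Nat.card A).Coprime (Nat.card G) →
      Group.IsNilpotent (G ⊓ centralizer (A : Set X) : Subgroup X) → IsSylowIn 2 S G →
      A ≤ normalizer (S : Set X) →
      Group.IsSolvable (G ⊓ normalizer (thompsonSubgroupOf 2 S : Set X) : Subgroup X) →
      VV A S (vv G S))
    (fn : ∀ (X : Type u) [Group X] [Finite X] (A G S : Subgroup X), FN A G S → False) :
    FPD.CoreM.{u} := by
  intro X _ _ A G hs hc hn he
  obtain ⟨S, h1, h2, x, h3, h4, -, h5⟩ := FPD.exists_syl_even hs.AG hc he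
  exact fn X A G S ⟨hs, hc, hn, h1, h2, ⟨x, h3, h4, h5⟩, om X A G hs.AG hc hn,
    hv X A G S hs.AG hc hn h1 h2 (solvJ hs h1 h2 fun e => h4 (mem_bot.1 (e ▸ h3)))⟩

end CfsgLib.CNil
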