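import Mathlib
import Cfsg.Agent.Lib.Cop.BigL
import Cfsg.Agent.Lib.Cop.BigB
import Cfsg.Agent.Lib.CNil.Frame

/-! The large field case for nilpotent fixed point subgroups: coordinates. -/

set_option autoImplicit false
set_option linter.unusedSectionVars false

namespace CfsgLib.CNil

open Subgroup Cfsg CfsgLib.LAE CfsgLib.Push CfsgLib.Blocks CfsgLib.ZJ CfsgLib.OFP
open scoped commutatorElement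

variable {Γ : Type*} [Group Γ]

/-- The local configuration with an explicit module and torus element. -/
structure ND (F : Type) [Field F] (G M S B Q P V V₀ : Subgroup Γ) (D : NatData F ⊤ P V V₀) (f : Γ)
    (μ : Fˣ) : Prop extends Lf F G M S B Q P V V₀ where
  img : D.img B = upU F
  k1 : B ⊓ D.ker = Q
  k2 : D.ker ≤ Q ⊔ (P ⊓ 𝒞[Q])
  fP : f ∈ P
  fB : f ∈ 𝒩[B]
  fo : Odd (orderOf f)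
  φf : D.φ f = SL2.dg μ
  gen : ∀ ν : Fˣ, ν ∈ zpowers μ

/-- Coordinates `s` on `W / E`, `c` on `B / Q`, `ψ` on `E`, where `W = Ω Z(Q)`, `E = Ω Z(B)`. -/
structure J0 (F : Type) [Field F] (B Q l : Subgroup Γ) (f : Γ) (s c ψ : Γ → F) (μ : Fˣ) : Prop where
  pB : IsPGroup 2 B
  QB : Q ≤ B
  nQ : B ≤ 𝒩[Q]
  cQ : B ⊓ 𝒞[Q] ≤ Q
  s_add : ∀ x ∈ omegaZ 2 Q, ∀ y ∈ omegaZ 2 Q, s (x * y) = s x + s y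
  s_zero : ∀ x ∈ omegaZ 2 Q, s x = 0 ↔ x ∈ omegaZ 2 B
  s_surj : ∀ t, ∃ x ∈ omegaZ 2 Q, s x = t
  c_add : ∀ x ∈ B, ∀ y ∈ B, c (x * y) = c x + c y
  c_zero : ∀ x ∈ B, c x = 0 ↔ x ∈ Q
  c_surj : ∀ t, ∃ x ∈ thompsonSubgroupOf 2 B, c x = t
  ψ_add : ∀ x ∈ omegaZ 2 B, ∀ y ∈ omegaZ 2 B, ψ (x * y) = ψ x + ψ y
  com : ∀ b ∈ B, ∀ w ∈ omegaZ 2 Q, ⁅b, w⁆ ∈ omegaZ 2 B ∧ ψ ⁅b, w⁆ = s w * c b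
  φ1 : ∀ x ∈ Q, ∀ y ∈ Q, ⁅x, y⁆ ∈ omegaZ 2 B → ψ ⁅x, y⁆ = 0
  φ2 : ∀ x ∈ Q, x * x ∈ omegaZ 2 B → ψ (x * x) = 0
  WJ : omegaZ 2 Q ≤ thompsonSubgroupOf 2 B
  fB : f ∈ 𝒩[B]
  fQ : f ∈ 𝒩[Q]
  fo : Odd (orderOf f)
  gen : ∀ ν : Fˣ, ν ∈ zpowers μ
  fs : ∀ w ∈ omegaZ 2 Q, (μ : F) * s (f * w * f⁻¹) = s w
  fc : ∀ b ∈ B, c (f * b * f⁻¹) = (μ : F) ^ 2 * c b
  fψ : ∀ e ∈ omegaZ 2 B, ψ (f * e * f⁻¹) = μ * ψ e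
  fW : ∀ x ∈ Q, ⁅f, x⁆ ∈ omegaZ 2 Q
  lE : l ≤ omegaZ 2 B
  fl : ∀ e ∈ omegaZ 2 B, ⁅f, e⁆ ∈ l
  linj : ∀ x ∈ l, ψ x = 0 → x = 1

/-- The coordinates together with the embedding in `G`. -/
structure JD (F : Type) [Field F] (G B Q l : Subgroup Γ) (f : Γ) (s c ψ : Γ → F) (μ : Fˣ) : Prop
    extends J0 F B Q l f s c ψ μ where
  BG : B ≤ G
  fG : f ∈ G
  hb : ∀ R T : Subgroup Γ, omegaZ 2 Q ≤ R → R ≤ Q → IsPGroup 2 T → B ≤ T → T ≤ G → T ≤ 𝒩[R] →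
    bau 2 T = B
  ns : ∀ R : Subgroup Γ, omegaZ 2 Q ≤ R → R ≤ Q → ¬ Group.IsSolvable (G ⊓ 𝒩[R] : Subgroup Γ)
  q1 : (∀ b ∈ B, ∀ w ∈ omegaZ 2 Q, ⁅b, w⁆ ∈ l) → ∀ b ∈ B, b ∉ Q → (∀ x ∈ Q, ⁅b, x⁆ ∈ l) →
    ∀ y ∈ G, y ∈ 𝒩[B] → y ∈ 𝒩[Q] → IsPGroup 2 (B ⊔ zpowers y : Subgroup Γ) →
      (∀ w ∈ omegaZ 2 Q, Commute y ⁅f, w⁆) → y * y ∈ l → y * y = 1

end CfsgLib.CNil
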