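import Mathlib
import Cfsg.Agent.Lib.CNil.JJDefs

set_option autoImplicit false
set_option linter.unusedSectionVars false

namespace CfsgLib.CNil

open Subgroup Cfsg CfsgLib.LAE CfsgLib.Push CfsgLib.Blocks CfsgLib.ZJ CfsgLib.OFP CfsgLib.Cop
open scoped commutatorElement

variable {Γ : Type*} [Group Γ] [Finite Γ] {F : Type} [Field F] [Fintype F] [CharP F 2]
  {G M S B Q P V V₀ l B₁ A : Subgroup Γ} {f : Γ} {s c ψ : Γ → F} {μ : Fˣ}

/-- `J(B) ≰ Q` gives an offender on `W = Ω Z(Q)`: `|W : E| = q`, `W ≤ V ∩ J(B)`, `B = Q J(B)`. -/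
theorem ND.off {D : NatData F ⊤ P V V₀} (n : ND F G M S B Q P V V₀ D f μ) :
    omegaZ 2 Q ≤ V ∧ (∀ w ∈ omegaZ 2 Q, D.π w 1 = 0 → w ∈ omegaZ 2 B) ∧
      (∀ v, ∃ w ∈ omegaZ 2 Q, D.π w = v) ∧ omegaZ 2 Q ≤ thompsonSubgroupOf 2 B ∧
      ∀ t : F, ∃ x ∈ thompsonSubgroupOf 2 B, (D.φ x).1 0 1 = t := by
  have l := n.toLf
  have hBP : B ≤ P := l.BP
  have hQB : Q ≤ B := nl_QB l.toNL
  have hbau : bau 2 B = B := lf_hQ l l.pB le_rfl (l.BS.trans l.syl.le) (hBP.trans l.PQ)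
  set W := omegaZ 2 Q with hW
  have eW : IsElementaryAbelian 2 W := elemAb_omegaZ Q
  have WQ : W ≤ Q := omegaZ_le Q
  have QW : Q ≤ 𝒞[W] := le_centralizer_omegaZ Q
  have PW : P ≤ 𝒩[W] := le_normalizer_omegaZ_of_le l.PQ
  obtain ⟨z, hz, hz0⟩ : ∃ z ∈ omegaZ 2 S, z ∉ V₀ := by
    by_contra hc
    push Not at hc
    exact l.nc (l.K0.trans (centralizer_le hc))
  have zE := l.ZB hz
  have zV : z ∈ V := l.ZV zE
  have zW : z ∈ W := mem_omegaZ.2 ⟨l.VQ zV, centralizer_le hQB (mem_omegaZ.1 zE).2.1, (mem_omegaZ.1 zE).2.2⟩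
  have hU : V₀ ⊔ W ⊓ V = V :=
    (D.irreducible D.img_self le_sup_left (sup_le D.le inf_le_right) (LAE.le_normalizer_sup D.norm₀
      (le_normalizer_inf PW D.norm))).resolve_left fun e => hz0 (e.le (mem_sup_right ⟨zW, zV⟩))
  have hs : ∀ v, ∃ w ∈ W ⊓ V, D.π w = v := fun v => by
    obtain ⟨s₀, hs₀, e₀⟩ := D.π_surj v
    obtain ⟨t, ht, s, hs, rfl⟩ := (mem_sup_iff_of_right_le_normalizer
      ((inf_le_right.trans (l.VQ.trans (hQB.trans hBP))).trans D.norm₀)).1 (hU.ge hs₀)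
    rw [D.π_mul _ (D.le ht) _ hs.2, D.π_of_mem ht, zero_add] at e₀
    exact ⟨s, hs, e₀⟩
  have hfix : ∀ t ∈ B, t ∉ Q → ∀ w ∈ V, ⁅t, w⁆ = 1 → w ∈ D.fix := fun t ht htQ w hw e =>
    (D.commutator_mem_iff (hBP ht) (n.img.le (D.φ_mem_img (hBP ht) ht))
      (fun e1 => htQ (n.k1.le ⟨ht, D.mem_ker.2 ⟨hBP ht, e1⟩⟩)) hw).1 (e ▸ V₀.one_mem)
  obtain ⟨A, hA, hAQ⟩ : ∃ A ∈ PLocal.maxElemIn 2 B, ¬ A ≤ Q := by
    by_contra hc
    push Not at hc
    have h1 : W ≤ zj 2 B := by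
      rw [← omegaOne_centralizer_thompson]
      exact PLocal.le_omegaOne_of_elemAb eW (le_inf (WQ.trans hQB)
        ((omegaZ_le_centralizer Q).trans (centralizer_le (PLocal.thompsonSubgroupOf_le_iff.2 hc))))
    obtain ⟨t, ht, htB, -, h2⟩ := D.exists_φ_ne_one (T := B) n.img.ge
    obtain ⟨w, hw, e⟩ := hs ![0, 1]
    have h3 := (hfix t htB (fun h => h2 (D.mem_ker.1 (n.k1.ge h).2).2) w hw.2
      (commutatorElement_eq_one_iff_mul_comm.2 (bau_le_centralizer B (hbau.ge htB) w (h1 hw.1)).symm)).2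
    rw [e, mem_line0] at h3
    simp at h3
  have AB : A ≤ B := hA.1
  obtain ⟨a, ha, haQ⟩ := SetLike.not_le_iff_exists.1 hAQ
  have c1 : cen W A ⊓ (W ⊓ V) ≤ D.fix ⊓ (W ⊓ V) := fun w hw =>
    ⟨hfix a (AB ha) haQ w hw.2.2 ((mem_cen.1 hw.1).2 a ha), hw.2⟩
  have q0 : 0 < Nat.card F := Nat.card_pos
  have i1 : Nat.card F ≤ D.fix.relIndex (W ⊓ V) := by
    have j1 : D.im (W ⊓ V) = ⊤ := eq_top_iff.2 fun v _ => by
      obtain ⟨w, hw, e⟩ := hs v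
      exact D.mem_im.2 ⟨w, hw.2, hw, e⟩
    have j2 := D.card_im (Y := W ⊓ V) inf_le_right
    have j3 := D.card_im (Y := D.fix ⊓ (W ⊓ V)) (inf_le_right.trans inf_le_right)
    have j4 : Nat.card (D.im (D.fix ⊓ (W ⊓ V))) ≤ Nat.card F := by
      rw [← card_line0 (F := F)]
      refine AddSubgroup.card_le_of_le fun v hv => ?_
      obtain ⟨y, -, hy, rfl⟩ := D.mem_im.1 hv
      exact hy.1.2
    have j5 := relIndex_mul_relIndex (V₀ ⊓ (W ⊓ V)) (D.fix ⊓ (W ⊓ V)) (W ⊓ V) (inf_le_inf_right _ D.le_fix)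
      inf_le_right
    have j6 : (V₀ ⊓ (W ⊓ V)).relIndex (D.fix ⊓ (W ⊓ V)) = V₀.relIndex (D.fix ⊓ (W ⊓ V)) := by
      rw [← inf_relIndex_right V₀, ← inf_relIndex_right (V₀ ⊓ (W ⊓ V))]
      congr 1
      exact le_antisymm (inf_le_inf_right _ inf_le_left) (le_inf (inf_le_inf_left _ inf_le_right) inf_le_right)
    rw [j6, inf_relIndex_right, inf_relIndex_right, ← j2, ← j3, j1, AddSubgroup.card_top, Nat.card_fun,
      Nat.card_eq_fintype_card (α := Fin 2), Fintype.card_fin, sq] at j5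
    exact Nat.le_of_mul_le_mul_left (j5.ge.trans (Nat.mul_le_mul_right _ j4)) q0
  have i2 : (D.fix ⊓ (W ⊓ V)).relIndex (W ⊓ V) ≤ (cen W A ⊓ (W ⊓ V)).relIndex (W ⊓ V) :=
    relIndex_le_of_le_left c1 relIndex_ne_zero'
  have i3 : (cen W A).relIndex (W ⊓ V) ≤ (cen W A).relIndex W := relIndex_le_of_le_right inf_le_left relIndex_ne_zero'
  have i4 := relIndex_le_of_maxElemIn hA eW (WQ.trans hQB) WQ QW
  have i5 : Q.relIndex A = Nat.card (D.img A) := by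
    rw [D.card_img (AB.trans hBP), ← n.k1, ← inf_relIndex_right, ← inf_relIndex_right D.ker, inf_comm B, inf_assoc,
      inf_of_le_right AB]
  have i6 : D.img A ≤ upU F := n.img ▸ D.img_mono AB
  have i7 : Nat.card (D.img A) ≤ Nat.card F := card_upU (F := F) ▸ card_le_of_le i6
  have i2' := i2
  rw [inf_relIndex_right, inf_relIndex_right] at i2'
  have e1 : D.img A = upU F := eq_of_le_of_card_ge i6 (by rw [card_upU]; omega)
  have e2 : W ⊓ V ⊔ cen W A = W :=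
    sup_eq_of_relIndex_le eW.1 inf_le_left inf_le_left (W := cen W A) (W' := W ⊓ V) (by omega)
  have e3 : cen W A ≤ omegaZ 2 B := fun w hw => by
    refine mem_omegaZ.2 ⟨hQB (WQ hw.1), fun b hb => ?_, eW.2 w hw.1⟩
    obtain ⟨x, hx, k, hk, rfl⟩ := (mem_sup_iff_of_left_le_normalizer ((AB.trans hBP).trans D.le_normalizer_ker)).1
      (D.mem_sup_ker (hBP hb) (Y := A) (e1.ge (n.img.le (D.φ_mem_img (hBP hb) hb))))
    have kQ : k ∈ Q := n.k1.le ⟨by simpa using mul_mem (inv_mem (AB hx)) hb, hk⟩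
    exact (Commute.mul_left (hw.2 x hx) (omegaZ_le_centralizer Q hw.1 k kQ)).eq
  have WV : W ≤ V := e2.ge.trans (sup_le inf_le_right (e3.trans l.ZV))
  have e4 : cen W A ⊓ (W ⊓ V) = D.fix ⊓ (W ⊓ V) := by
    refine eq_of_le_of_card_ge c1 ?_
    have k1 := PLocal.card_eq_relIndex_mul (cen W A) (W ⊓ V)
    have k2 := PLocal.card_eq_relIndex_mul D.fix (W ⊓ V)
    rw [show (cen W A).relIndex (W ⊓ V) = D.fix.relIndex (W ⊓ V) by omega, k2] at k1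
    exact (Nat.eq_of_mul_eq_mul_left (by omega) k1).le
  refine ⟨WV, fun w hw h => e3 (e4.ge ⟨⟨WV hw, h⟩, hw, WV hw⟩).1, fun v => ?_,
    le_sup_right.trans (PLocal.le_thompsonSubgroupOf
      (inf_sup_mem_maxElemIn hA eW (WQ.trans hQB) WQ QW (by omega))), fun t => ?_⟩
  · obtain ⟨w, hw, e⟩ := hs v
    exact ⟨w, hw.1, e⟩
  · obtain ⟨x, -, hx, e⟩ := D.mem_img.1 (e1.ge (uu_mem t))
    exact ⟨x, PLocal.le_thompsonSubgroupOf hA hx, by rw [e]; simp⟩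

end CfsgLib.CNil
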