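import Mathlib
import Cfsg.Agent.Lib.CNil.JJb

set_option autoImplicit false
set_option linter.unusedSectionVars false

namespace CfsgLib.CNil

open Subgroup Cfsg CfsgLib.LAE CfsgLib.Push CfsgLib.Blocks CfsgLib.ZJ CfsgLib.OFP CfsgLib.Cop
open scoped commutatorElement

variable {Γ : Type*} [Group Γ] [Finite Γ] {F : Type} [Field F] [Fintype F] [CharP F 2]
  {G M S B Q P V V₀ l B₁ A : Subgroup Γ} {f : Γ} {s c ψ : Γ → F} {μ : Fˣ}

theorem ND.fW {D : NatData F ⊤ P V V₀} (n : ND F G M S B Q P V V₀ D f μ) {k : Γ} (hk : k ∈ P)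
    (ko : Odd (orderOf k)) : ∀ x ∈ Q, ⁅k, x⁆ ∈ omegaZ 2 Q := by
  intro x hx
  have : Fact (Nat.Prime 2) := ⟨Nat.prime_two⟩
  obtain ⟨WV, -, hπ, -, -⟩ := n.off
  have kK : k ∈ pResOf 2 P := mem_pResOf hk (Nat.coprime_two_right.2 ko)
  have pQ : IsPGroup 2 Q := n.pB.to_le (nl_QB n.toNL)
  have kW : k ∈ 𝒩[omegaZ 2 Q] := normalizer_le_normalizer_omegaZ Q (n.PQ hk)
  have h1 : ⁅k, x⁆ ∈ V := by
    rw [← commutatorElement_inv]
    exact inv_mem (n.QK (commutator_mem_commutator hx kK))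
  obtain ⟨w, hw, ew⟩ := hπ (D.π ⁅k, x⁆)
  obtain ⟨v, hv, ev⟩ : ∃ v ∈ V₀, ⁅k, x⁆ = v * w := by
    refine ⟨⁅k, x⁆ * w⁻¹, ?_, by group⟩
    rw [← D.π_eq_zero _ (mul_mem h1 (inv_mem (WV hw))), D.π_mul _ h1 _ (inv_mem (WV hw)),
      D.π_inv (WV hw), ew, add_neg_cancel]
  have vQ : v ∈ Q := n.VQ (D.le hv)
  have kv : Commute k v := ((n.K0 kK) v hv).symm
  have e0 : k * x * k⁻¹ = v * w * x := by rw [← ev, commutatorElement_def]; group
  have key : ∀ m : ℕ, ∃ u ∈ omegaZ 2 Q, k ^ m * x * (k ^ m)⁻¹ = v ^ m * u * x := fun m => by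
    induction m with
    | zero => exact ⟨1, one_mem _, by simp⟩
    | succ m ih =>
      obtain ⟨u, hu, e⟩ := ih
      have u1 : k * u * k⁻¹ ∈ omegaZ 2 Q := LAE.conj_mem_of_mem_normalizer kW hu
      have u2 : v * (k * u * k⁻¹) = k * u * k⁻¹ * v := (mem_omegaZ.1 u1).2.1 v vQ
      refine ⟨k * u * k⁻¹ * w, mul_mem u1 hw, ?_⟩
      calc k ^ (m + 1) * x * (k ^ (m + 1))⁻¹ = k * (k ^ m * x * (k ^ m)⁻¹) * k⁻¹ := by
            rw [pow_succ']; group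
        _ = k * v ^ m * k⁻¹ * (k * u * k⁻¹) * (k * x * k⁻¹) := by rw [e]; group
        _ = v ^ m * (k * u * k⁻¹ * v) * w * x := by
            rw [e0, (kv.pow_right m).eq, mul_inv_cancel_right]; group
        _ = _ := by rw [← u2, pow_succ]; group
  obtain ⟨u, hu, e⟩ := key (orderOf k)
  rw [pow_orderOf_eq_one, one_mul, inv_one, mul_one, right_eq_mul, mul_eq_one_iff_eq_inv] at e
  have h2 : v ∈ omegaZ 2 Q :=
    mem_of_pow_mem_of_not_dvd pQ vQ (Nat.two_dvd_ne_zero.2 (Nat.odd_iff.1 ko)) (e ▸ inv_mem hu)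
  rw [ev]
  exact mul_mem h2 hw

/-- `O²(P)` normalizes every `W ≤ R ≤ Q` and acts on `W` as the perfect group `SL₂(F)`. -/
theorem ND.nsol {D : NatData F ⊤ P V V₀} (n : ND F G M S B Q P V V₀ D f μ) (hq : 2 < Fintype.card F)
    {R H : Subgroup Γ} (h1 : omegaZ 2 Q ≤ R) (h2 : R ≤ Q) (sH : Group.IsSolvable H) :
    ¬ ∀ g ∈ G, g ∈ 𝒩[R] → ∃ c ∈ 𝒞[R], ∃ m ∈ H, g = c * m := by
  intro hH
  classical
  have : Fact (Nat.Prime 2) := ⟨Nat.prime_two⟩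
  obtain ⟨WV, -, hπ, -, -⟩ := n.off
  have KP : pResOf 2 P ≤ P := pResOf_le P
  have PW : P ≤ 𝒩[omegaZ 2 Q] := n.PQ.trans (normalizer_le_normalizer_omegaZ Q)
  have KR : pResOf 2 P ≤ 𝒩[R] := pResOf_le_iff.2 fun k hk ko =>
    mem_normalizer_of_conjS_le (conjS_le_iff_forall.2 fun x hx => by
      have := mul_mem (h1 (n.fW hk (Nat.coprime_two_right.1 ko) x (h2 hx))) hx
      rwa [commutatorElement_def, inv_mul_cancel_right] at this)
  have CN : 𝒞[omegaZ 2 Q] ≤ 𝒩[omegaZ 2 Q] := centralizer_le_normalizer _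
  have : ((𝒞[omegaZ 2 Q]).subgroupOf 𝒩[omegaZ 2 Q]).Normal :=
    (normal_subgroupOf_iff_le_normalizer CN).2 (normalizer_le_normalizer_centralizer _)
  obtain ⟨ρ, hρ⟩ : ∃ ρ : 𝒩[omegaZ 2 Q] →* 𝒩[omegaZ 2 Q] ⧸ (𝒞[omegaZ 2 Q]).subgroupOf 𝒩[omegaZ 2 Q],
      ∀ x, ρ x = 1 ↔ (x : Γ) ∈ 𝒞[omegaZ 2 Q] :=
    ⟨QuotientGroup.mk' _, fun x => QuotientGroup.eq_one_iff x⟩
  obtain ⟨θ, hθ⟩ : ∃ θ : pResOf 2 P →* _, ∀ x, θ x = ρ ⟨x, PW (KP x.2)⟩ :=
    ⟨ρ.comp (inclusion (KP.trans PW)), fun _ => rfl⟩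
  obtain ⟨χ, hχ⟩ : ∃ χ : pResOf 2 P →* Matrix.SpecialLinearGroup (Fin 2) F, ∀ x, χ x = D.φ x :=
    ⟨D.φh.comp (inclusion KP), fun _ => rfl⟩
  have a1 : θ.range ≤ (H.subgroupOf 𝒩[omegaZ 2 Q]).map ρ := by
    rintro _ ⟨k, rfl⟩
    obtain ⟨c, hc, m, hm, e⟩ := hH k (n.PG (KP k.2)) (KR k.2)
    have cW : c ∈ 𝒞[omegaZ 2 Q] := centralizer_le h1 hc
    have mN : m ∈ 𝒩[omegaZ 2 Q] := by simpa [e] using mul_mem (inv_mem (CN cW)) (PW (KP k.2))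
    refine ⟨⟨m, mN⟩, hm, ?_⟩
    rw [hθ, show (⟨k, PW (KP k.2)⟩ : 𝒩[omegaZ 2 Q]) = ⟨c, CN cW⟩ * ⟨m, mN⟩ from Subtype.ext e, map_mul,
      (hρ ⟨c, CN cW⟩).2 cW, one_mul]
  have s1 : Group.IsSolvable (H.subgroupOf 𝒩[omegaZ 2 Q]) :=
    Group.isSolvable_of_isSolvable_injective (f := (𝒩[omegaZ 2 Q]).subtype.subgroupComap H)
      (fun a b e => Subtype.ext (Subtype.ext (congrArg (Subtype.val : H → Γ) e)))
  have s2 : Group.IsSolvable ((H.subgroupOf 𝒩[omegaZ 2 Q]).map ρ) :=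
    Group.isSolvable_of_surjective (ρ.subgroupMap_surjective _)
  have s3 : Group.IsSolvable θ.range := Group.isSolvable_of_isSolvable_injective (inclusion_injective a1)
  have a2 : θ.rangeRestrict.ker ≤ χ.rangeRestrict.ker := fun k hk => by
    rw [MonoidHom.ker_rangeRestrict] at hk ⊢
    have c1 : (k : Γ) ∈ 𝒞[omegaZ 2 Q] := (hρ _).1 ((hθ k).symm.trans hk)
    rw [MonoidHom.mem_ker, hχ]
    refine SL2_ext_act fun v => ?_
    obtain ⟨w, hw, rfl⟩ := hπ v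
    rw [← D.π_conj _ (KP k.2) w (WV hw), ← c1 w hw, mul_inv_cancel_right, act_one]
  have s4 : Group.IsSolvable χ.range := by
    refine Group.isSolvable_of_surjective
      (f := θ.rangeRestrict.liftOfSurjective θ.rangeRestrict_surjective ⟨χ.rangeRestrict, a2⟩) fun y => ?_
    obtain ⟨k, rfl⟩ := χ.rangeRestrict_surjective y
    exact ⟨θ.rangeRestrict k, MonoidHom.liftOfRightInverse_comp_apply _ _ _ _ _⟩
  have nr : χ.range.Normal := ⟨by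
    rintro _ ⟨k, rfl⟩ g
    obtain ⟨e, he, rfl⟩ := D.φ_surj g (mem_top _)
    exact ⟨⟨e * k * e⁻¹, LAE.conj_mem_of_mem_normalizer (le_normalizer_pResOf P he) k.2⟩, by
      rw [hχ, hχ, D.φ_conj he (KP k.2)]⟩⟩
  have p1 : IsPGroup 2 (Matrix.SpecialLinearGroup (Fin 2) F ⧸ χ.range) := fun y => by
    obtain ⟨g, rfl⟩ := QuotientGroup.mk_surjective y
    obtain ⟨e, he, rfl⟩ := D.φ_surj g (mem_top _)
    obtain ⟨k, hk⟩ := exists_pow_mem_pResOf (p := 2) he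
    refine ⟨k, ?_⟩
    rw [← QuotientGroup.mk_pow, QuotientGroup.eq_one_iff, ← D.φ_pow he]
    exact ⟨⟨_, hk⟩, hχ _⟩
  have := p1.isNilpotent
  have s5 : Group.IsSolvable (Matrix.SpecialLinearGroup (Fin 2) F) :=
    Group.isSolvable_of_ker_le_range χ.range.subtype (QuotientGroup.mk' χ.range)
      (by rw [QuotientGroup.ker_mk', range_subtype])
  have l1 : (μ : F) ≠ 1 := fun e => by
    have h3 : Nat.card Fˣ = 1 := by
      rw [← orderOf_eq_card_of_forall_mem_zpowers n.gen, show μ = 1 from Units.ext e, orderOf_one]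
    rw [Nat.card_eq_fintype_card, Fintype.card_units] at h3
    omega
  have hsq : (μ : F) ^ 2 ≠ 1 := fun e => by
    have h3 : ((μ : F) - 1) ^ 2 = 0 := by rw [sub_pow_char, e, one_pow, sub_self]
    exact l1 (sub_eq_zero.1 (pow_eq_zero_iff two_ne_zero |>.1 h3))
  have : Nontrivial (Matrix.SpecialLinearGroup (Fin 2) F) :=
    ⟨⟨SL2.dg μ, 1, fun e => l1 (by simpa [SL2.dg_00] using congrArg (fun g => g.1 0 0) e)⟩⟩
  exact (Group.IsSolvable.commutator_lt_top_of_nontrivial _).ne (Matrix.SL2.commutator_eq_top μ.ne_zero hsq)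

end CfsgLib.CNil
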