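import Mathlib
import Cfsg.Agent.Lib.CNil.JJc

set_option autoImplicit false
set_option linter.unusedSectionVars false
set_option linter.unusedVariables false

namespace CfsgLib.CNil

open Subgroup Cfsg CfsgLib.LAE CfsgLib.Push CfsgLib.Blocks CfsgLib.ZJ CfsgLib.OFP CfsgLib.Cop
open scoped commutatorElement

variable {Γ : Type*} [Group Γ] [Finite Γ] {F : Type} [Field F] [Fintype F] [CharP F 2]
  {G M S B Q P V V₀ l B₁ A : Subgroup Γ} {f : Γ} {s c ψ : Γ → F} {μ : Fˣ}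

theorem jjq_tr (N : Matrix.SpecialLinearGroup (Fin 2) F) (h : N 0 0 + N 1 1 ≠ 0) (k : ℕ) :
    (N ^ 2 ^ k) 0 0 + (N ^ 2 ^ k) 1 1 ≠ 0 := by
  induction k with
  | zero => simpa using h
  | succ k ih =>
    have h2 : (2 : F) = 0 := CharTwo.two_eq_zero
    rw [pow_succ, pow_mul, pow_two]
    generalize N ^ 2 ^ k = X at ih
    intro e
    rw [SL2.mul_ap, SL2.mul_ap] at e
    refine ih (pow_eq_zero_iff two_ne_zero |>.1 ?_)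
    linear_combination e + (X 0 0 * X 1 1 - X 0 1 * X 1 0) * h2

theorem jjq_fix (N : Matrix.SpecialLinearGroup (Fin 2) F) (h : N 0 0 + N 1 1 ≠ 0) {v : Fin 2 → F}
    (e : act N v = v) : v = 0 := by
  have h2 : (2 : F) = 0 := CharTwo.two_eq_zero
  have e0 := congrFun e 0
  have e1 := congrFun e 1
  have d := SL2.det_eq N
  rw [act_apply] at e0 e1
  refine vec2_ext (mul_left_cancel₀ h ?_) (mul_left_cancel₀ h ?_)
  · simp only [Pi.zero_apply]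
    linear_combination (1 - N 1 1) * e0 + N 0 1 * e1 + v 0 * d + v 0 * h2
  · simp only [Pi.zero_apply]
    linear_combination (1 - N 0 0) * e1 + N 1 0 * e0 + v 1 * d + v 1 * h2

theorem jjq_pow {U : Subgroup Γ} {g y q : Γ} (gU : g ∈ 𝒩[U]) (hq : q ∈ Q) (h : ∀ x ∈ Q, ⁅g, x⁆ ∈ U)
    (e : g * y * g⁻¹ = q * y) (m : ℕ) : ∃ u ∈ U, g ^ m * y * (g ^ m)⁻¹ = u * q ^ m * y := by
  induction m with
  | zero => exact ⟨1, one_mem _, by simp⟩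
  | succ m ih =>
    obtain ⟨u, hu, e1⟩ := ih
    refine ⟨g * u * g⁻¹ * ⁅g, q ^ m⁆, mul_mem (LAE.conj_mem_of_mem_normalizer gU hu) (h _ (pow_mem hq m)), ?_⟩
    calc g ^ (m + 1) * y * (g ^ (m + 1))⁻¹ = g * (g ^ m * y * (g ^ m)⁻¹) * g⁻¹ := by rw [pow_succ']; group
      _ = g * u * q ^ m * g⁻¹ * (g * y * g⁻¹) := by rw [e1]; group
      _ = _ := by rw [e, commutatorElement_def, pow_succ]; group

/-- Frattini argument in `N(Q) ∩ C(U)`, `U = l l^w = [W, f]`. -/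
theorem ND.q1 {D : NatData F ⊤ P V V₀} (n : ND F G M S B Q P V V₀ D f μ) (hq : 2 < Fintype.card F)
    (lE : l ≤ omegaZ 2 B) (hl : ∀ x ∈ l, ∃ e ∈ omegaZ 2 B, x = ⁅f, e⁆)
    (h1 : ∀ b ∈ B, ∀ w ∈ omegaZ 2 Q, ⁅b, w⁆ ∈ l) {b : Γ} (hb : b ∈ B) (bQ : b ∉ Q)
    (h2 : ∀ x ∈ Q, ⁅b, x⁆ ∈ l) {y : Γ} (yG : y ∈ G) (yB : y ∈ 𝒩[B]) (yQ : y ∈ 𝒩[Q])
    (py : IsPGroup 2 (B ⊔ zpowers y : Subgroup Γ)) (h3 : ∀ w ∈ omegaZ 2 Q, Commute y ⁅f, w⁆)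
    (h4 : y * y ∈ l) : y * y = 1 := by
  have : Fact (Nat.Prime 2) := ⟨Nat.prime_two⟩
  obtain ⟨WV, -, hπ, -, -⟩ := n.off
  have BP := n.BP
  have QB : Q ≤ B := nl_QB n.toNL
  have BQ : B ≤ 𝒩[Q] := BP.trans n.PQ
  have BG : B ≤ G := BP.trans n.PG
  have PW : P ≤ 𝒩[omegaZ 2 Q] := n.PQ.trans (normalizer_le_normalizer_omegaZ Q)
  have WQ : omegaZ 2 Q ≤ Q := omegaZ_le Q
  have EW : omegaZ 2 B ≤ omegaZ 2 Q := fun z hz =>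
    mem_omegaZ.2 ⟨n.VQ (n.ZV hz), centralizer_le QB (mem_omegaZ.1 hz).2.1, (mem_omegaZ.1 hz).2.2⟩
  have Wc : ∀ e ∈ omegaZ 2 Q, ∀ e' ∈ omegaZ 2 Q, e * e' = e' * e := fun e he e' he' =>
    omegaZ_le_centralizer Q he' e (WQ he)
  have cW : ∀ e ∈ omegaZ 2 Q, ⁅f, e⁆ ∈ omegaZ 2 Q := fun e he =>
    mul_mem (LAE.conj_mem_of_mem_normalizer (PW n.fP) he) (inv_mem he)
  have cmul : ∀ v ∈ omegaZ 2 Q, ∀ v' ∈ omegaZ 2 Q, ⁅f, v⁆ * ⁅f, v'⁆ = ⁅f, v * v'⁆ := fun v hv v' hv' => by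
    calc ⁅f, v⁆ * ⁅f, v'⁆ = f * v * f⁻¹ * (v⁻¹ * ⁅f, v'⁆) := by rw [commutatorElement_def f v]; group
      _ = _ := by rw [Wc _ (inv_mem hv) _ (cW v' hv')]; simp only [commutatorElement_def]; group
  obtain ⟨U, hU⟩ : ∃ U : Subgroup Γ, ∀ u, u ∈ U ↔ ∃ v ∈ omegaZ 2 Q, u = ⁅f, v⁆ :=
    ⟨{ carrier := {w | ∃ v ∈ omegaZ 2 Q, w = ⁅f, v⁆}
       one_mem' := ⟨1, one_mem _, by simp⟩
       mul_mem' := by
        rintro _ _ ⟨v, hv, rfl⟩ ⟨v', hv', rfl⟩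
        exact ⟨_, mul_mem hv hv', cmul v hv v' hv'⟩
       inv_mem' := by
        rintro _ ⟨v, hv, rfl⟩
        refine ⟨v⁻¹, inv_mem hv, inv_eq_of_mul_eq_one_right ?_⟩
        rw [cmul v hv _ (inv_mem hv), mul_inv_cancel, commutatorElement_one_right] }, fun _ => Iff.rfl⟩
  have UW : U ≤ omegaZ 2 Q := fun u hu => by
    obtain ⟨v, hv, rfl⟩ := (hU u).1 hu
    exact cW v hv
  have lU : l ≤ U := fun x hx => by
    obtain ⟨e, he, rfl⟩ := hl x hx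
    exact (hU _).2 ⟨e, EW he, rfl⟩
  have BU : B ≤ 𝒩[U] := fun a ha => mem_normalizer_of_conjS_le (conjS_le_iff_forall.2 fun u hu => by
    have := mul_mem (lU (h1 a ha u (UW hu))) hu
    rwa [commutatorElement_def, inv_mul_cancel_right] at this)
  have μ1 : (μ : F) ≠ 1 := fun e => by
    classical
    have h3 : Nat.card Fˣ = 1 := by
      rw [← orderOf_eq_card_of_forall_mem_zpowers n.gen, show μ = 1 from Units.ext e, orderOf_one]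
    rw [Nat.card_eq_fintype_card, Fintype.card_units] at h3
    omega
  have μ2 : ((μ⁻¹ : Fˣ) : F) ≠ 1 := fun e => μ1 (by rw [← μ.mul_inv, e, mul_one])
  have πc : ∀ v ∈ omegaZ 2 Q, D.π ⁅f, v⁆ 0 = (μ - 1) * D.π v 0 ∧
      D.π ⁅f, v⁆ 1 = (((μ⁻¹ : Fˣ) : F) - 1) * D.π v 1 := fun v hv => by
    rw [D.π_commutator n.fP (WV hv), n.φf]
    simp only [Pi.sub_apply, act_apply, SL2.dg_00, SL2.dg_01, SL2.dg_10, SL2.dg_11]
    constructor <;> ring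
  have Usurj : ∀ v, ∃ u ∈ U, D.π u = v := fun v => by
    obtain ⟨w, hw, e⟩ := hπ ![v 0 / (μ - 1), v 1 / (((μ⁻¹ : Fˣ) : F) - 1)]
    refine ⟨_, (hU _).2 ⟨w, hw, rfl⟩, vec2_ext ?_ ?_⟩
    · rw [(πc w hw).1, e, Matrix.cons_val_zero, mul_div_cancel₀ _ (sub_ne_zero.2 μ1)]
    · rw [(πc w hw).2, e, Matrix.cons_val_one, Matrix.cons_val_zero, mul_div_cancel₀ _ (sub_ne_zero.2 μ2)]
  have Uinj : ∀ u ∈ U, D.π u = 0 → u = 1 := fun u hu e => by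
    obtain ⟨v, hv, rfl⟩ := (hU u).1 hu
    have k0 := (πc v hv).1
    have k1 := (πc v hv).2
    rw [e, Pi.zero_apply, eq_comm, mul_eq_zero] at k0 k1
    exact commutatorElement_eq_one_iff_mul_comm.2 (n.K0 (mem_pResOf n.fP (Nat.coprime_two_right.2 n.fo)) v
      ((D.π_eq_zero v (WV hv)).1 (vec2_ext (k0.resolve_left (sub_ne_zero.2 μ1))
        (k1.resolve_left (sub_ne_zero.2 μ2))))).symm
  have CQ : ∀ a ∈ B, a ∈ 𝒞[U] → a ∈ Q := fun a ha hc => n.k1.le ⟨ha, D.mem_ker.2 ⟨BP ha, SL2_ext_act fun v => by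
    obtain ⟨u, hu, rfl⟩ := Usurj v
    rw [← D.π_conj _ (BP ha) u (WV (UW hu)), ← hc u hu, mul_inv_cancel_right, act_one]⟩⟩
  obtain ⟨w, wP, φw⟩ := D.φ_surj SL2.ww (mem_top _)
  have wU : w ∈ 𝒩[U] := mem_normalizer_of_conjS_le (conjS_le_iff_forall.2 fun u hu => by
    obtain ⟨v, hv, rfl⟩ := (hU u).1 hu
    have kP : f * (w * f * w⁻¹) ∈ P := mul_mem n.fP (mul_mem (mul_mem wP n.fP) (inv_mem wP))
    have kk : f * (w * f * w⁻¹) ∈ D.ker := D.mem_ker.2 ⟨kP, by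
      rw [D.φ_mul n.fP (mul_mem (mul_mem wP n.fP) (inv_mem wP)), D.φ_conj wP n.fP, φw, n.φf,
        ← mul_assoc, mul_inv_eq_one]
      apply SL2.ext2 <;> simp only [SL2.mul_ap] <;> simp⟩
    have kc : f * (w * f * w⁻¹) ∈ 𝒞[omegaZ 2 Q] :=
      sup_le (le_centralizer_omegaZ Q) (inf_le_right.trans (centralizer_le WQ)) (n.k2 kk)
    have v1 : w * v * w⁻¹ ∈ omegaZ 2 Q := LAE.conj_mem_of_mem_normalizer (PW wP) hv
    have v2 : f⁻¹ * (w * v * w⁻¹) * f ∈ omegaZ 2 Q := conj_inv_mem_of_mem_normalizer (PW n.fP) v1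
    refine (hU _).2 ⟨_, inv_mem v2, ?_⟩
    calc w * ⁅f, v⁆ * w⁻¹ = f⁻¹ * (f * (w * f * w⁻¹) * (w * v * w⁻¹)) * (f * (w * f * w⁻¹))⁻¹ * f *
          (w * v * w⁻¹)⁻¹ := by rw [commutatorElement_def]; group
      _ = f⁻¹ * (w * v * w⁻¹) * f * (w * v * w⁻¹)⁻¹ := by rw [← kc _ v1]; group
      _ = _ := by rw [Wc _ v2 _ (inv_mem v1), commutatorElement_def]; group)
  have nY : ∀ a ∈ G, a ∈ 𝒩[Q] → a ∈ 𝒩[U] → a ∈ 𝒩[(G ⊓ 𝒩[Q] ⊓ 𝒞[U] : Subgroup Γ)] := fun a a1 a2 a3 =>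
    zpowers_le.1 (le_normalizer_inf (le_normalizer_inf ((zpowers_le.2 a1).trans le_normalizer)
      ((zpowers_le.2 a2).trans le_normalizer)) (le_normalizer_centralizer (zpowers_le.2 a3)))
  have yU : y ∈ 𝒞[U] := fun u hu => by
    obtain ⟨v, hv, rfl⟩ := (hU u).1 hu
    exact (h3 v hv).eq.symm
  have yY : y ∈ G ⊓ 𝒩[Q] ⊓ 𝒞[U] := ⟨⟨yG, yQ⟩, yU⟩
  have BY : B ≤ 𝒩[(G ⊓ 𝒩[Q] ⊓ 𝒞[U] : Subgroup Γ)] := fun a ha => nY a (BG ha) (BQ ha) (BU ha)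
  have wY := nY w (n.PG wP) (n.PQ wP) wU
  have YG : G ⊓ 𝒩[Q] ⊓ 𝒞[U] ≤ G := inf_le_left.trans inf_le_left
  have YQ : G ⊓ 𝒩[Q] ⊓ 𝒞[U] ≤ 𝒩[Q] := inf_le_left.trans inf_le_right
  have YU : G ⊓ 𝒩[Q] ⊓ 𝒞[U] ≤ 𝒞[U] := inf_le_right
  generalize G ⊓ 𝒩[Q] ⊓ 𝒞[U] = Y at yY BY wY YG YQ YU
  obtain ⟨T, hT, hBT⟩ := exists_isSylowIn_ge (H := Y ⊔ B) py
    (sup_le le_sup_right (zpowers_le.2 (mem_sup_left yY)))
  have BT : B ≤ T := le_sup_left.trans hBT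
  have TB : T ≤ 𝒩[B] :=
    lf_hQ n.toLf hT.isPGroup BT (hT.le.trans (sup_le YG BG)) (hT.le.trans (sup_le YQ BQ)) ▸ le_normalizer_bau T
  obtain ⟨y₁, y1, w', wR, ew⟩ := (hT.inf_of_normal le_sup_left (sup_le le_normalizer BY)).frattini wY
  have yR : y ∈ T ⊓ Y := ⟨hBT (mem_sup_right (mem_zpowers y)), yY⟩
  obtain rfl : w' = y₁⁻¹ * w := by rw [ew, inv_mul_cancel_left]
  have w'Q : y₁⁻¹ * w ∈ 𝒩[Q] := mul_mem (inv_mem (YQ y1)) (n.PQ wP)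
  have w'U : y₁⁻¹ * w ∈ 𝒩[U] := mul_mem (inv_mem (centralizer_le_normalizer _ (YU y1))) wU
  have bR : ∀ r ∈ T ⊓ Y, ⁅b, r⁆ ∈ Q := fun r hr => by
    refine CQ _ ?_ (YU (mul_mem (LAE.conj_mem_of_mem_normalizer (BY hb) hr.2) (inv_mem hr.2)))
    have := mul_mem hb (LAE.conj_mem_of_mem_normalizer (TB hr.1) (inv_mem hb))
    simpa only [commutatorElement_def, mul_assoc] using this
  have b1P : w * b * w⁻¹ ∈ P := mul_mem (mul_mem wP (BP hb)) (inv_mem wP)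
  have b1U : w * b * w⁻¹ ∈ 𝒩[U] := mul_mem (mul_mem wU (BU hb)) (inv_mem wU)
  obtain ⟨b', eb⟩ : ∃ b', b' = y₁⁻¹ * w * b * (y₁⁻¹ * w)⁻¹ := ⟨_, rfl⟩
  have cb : ∀ x, ⁅b', x⁆ = y₁⁻¹ * w * ⁅b, (y₁⁻¹ * w)⁻¹ * x * (y₁⁻¹ * w)⁆ * (y₁⁻¹ * w)⁻¹ := fun x => by
    rw [eb]; simp only [commutatorElement_def]; group
  have b'y : ⁅b', y⁆ ∈ Q := cb y ▸ LAE.conj_mem_of_mem_normalizer w'Q
    (bR _ (conj_inv_mem_of_mem_normalizer wR yR))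
  have b'Q : ∀ x ∈ Q, ⁅b', x⁆ ∈ U := fun x hx => cb x ▸ LAE.conj_mem_of_mem_normalizer w'U
    (lU (h2 _ (conj_inv_mem_of_mem_normalizer w'Q hx)))
  have b'U : b' ∈ 𝒩[U] := eb ▸ mul_mem (mul_mem w'U (BU hb)) (inv_mem w'U)
  have act1 : ∀ u ∈ U, b * b' * u * (b * b')⁻¹ = b * (w * b * w⁻¹) * u * (b * (w * b * w⁻¹))⁻¹ := fun u hu => by
    calc b * b' * u * (b * b')⁻¹
        = b * (y₁⁻¹ * (w * b * w⁻¹ * (y₁ * u * y₁⁻¹) * (w * b * w⁻¹)⁻¹) * y₁) * b⁻¹ := by rw [eb]; group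
      _ = b * (y₁⁻¹ * (w * b * w⁻¹ * u * (w * b * w⁻¹)⁻¹ * y₁)) * b⁻¹ := by rw [← YU y1 u hu]; group
      _ = _ := by rw [YU y1 _ (LAE.conj_mem_of_mem_normalizer b1U hu)]; group
  have gU : b * b' ∈ 𝒩[U] := mul_mem (BU hb) b'U
  have actm : ∀ m : ℕ, ∀ u ∈ U, (b * b') ^ m * u * ((b * b') ^ m)⁻¹ =
      (b * (w * b * w⁻¹)) ^ m * u * ((b * (w * b * w⁻¹)) ^ m)⁻¹ := fun m => by
    induction m with
    | zero => simp
    | succ m ih =>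
      intro u hu
      calc (b * b') ^ (m + 1) * u * ((b * b') ^ (m + 1))⁻¹
          = (b * b') ^ m * (b * b' * u * (b * b')⁻¹) * ((b * b') ^ m)⁻¹ := by rw [pow_succ]; group
        _ = _ := by rw [ih _ (LAE.conj_mem_of_mem_normalizer gU hu), act1 u hu, pow_succ]; group
  have qQ : b * ⁅b', y⁆ * b⁻¹ * ⁅b, y⁆ ∈ Q := mul_mem (LAE.conj_mem_of_mem_normalizer (BQ hb) b'y) (bR y yR)
  obtain ⟨k, hk⟩ := isPGroup_iff_forall_mem.1 n.pB _ (QB qQ)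
  obtain ⟨u, hu, e⟩ := jjq_pow (y := y) gU qQ (fun x hx => by
    have := mul_mem (LAE.conj_mem_of_mem_normalizer (BU hb) (b'Q x hx)) (lU (h2 x hx))
    rwa [show b * ⁅b', x⁆ * b⁻¹ * ⁅b, x⁆ = ⁅b * b', x⁆ by simp only [commutatorElement_def]; group] at this)
    (by simp only [commutatorElement_def]; group) (2 ^ k)
  rw [hk, mul_one] at e
  have e2 : (b * b') ^ 2 ^ k * (y * y) * ((b * b') ^ 2 ^ k)⁻¹ = y * y := by
    have uu : u * u = 1 := by rw [← sq]; exact (mem_omegaZ.1 (UW hu)).2.2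
    calc (b * b') ^ 2 ^ k * (y * y) * ((b * b') ^ 2 ^ k)⁻¹
        = (b * b') ^ 2 ^ k * y * ((b * b') ^ 2 ^ k)⁻¹ * ((b * b') ^ 2 ^ k * y * ((b * b') ^ 2 ^ k)⁻¹) := by group
      _ = u * (y * u) * y := by rw [e]; group
      _ = _ := by rw [← yU u hu, ← mul_assoc, uu, one_mul]
  have gP : b * (w * b * w⁻¹) ∈ P := mul_mem (BP hb) b1P
  have e3 := D.π_conj _ (P.pow_mem gP (2 ^ k)) _ (WV (UW (lU h4)))
  rw [← actm _ _ (lU h4), e2, D.φ_pow gP] at e3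
  refine Uinj _ (lU h4) (jjq_fix _ (jjq_tr _ ?_ k) e3.symm)
  obtain ⟨t, ht⟩ := mem_upU.1 (n.img.le (D.φ_mem_img (BP hb) hb))
  have t0 : t ≠ 0 := fun e => bQ (n.k1.le ⟨hb, D.mem_ker.2 ⟨BP hb, by rw [ht, uu_eq_one_iff]; exact e⟩⟩)
  have h2 : (2 : F) = 0 := CharTwo.two_eq_zero
  rw [D.φ_mul (BP hb) b1P, D.φ_conj wP (BP hb), φw, ht, ww_conj_uu, SL2.mul_ap, SL2.mul_ap]
  simp only [SL2.uu_00, SL2.uu_01, SL2.uu_10, SL2.uu_11, SL2.ll_00, SL2.ll_01, SL2.ll_10, SL2.ll_11]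
  intro e
  refine t0 (pow_eq_zero_iff two_ne_zero |>.1 ?_)
  linear_combination h2 - e

end CfsgLib.CNil
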