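import Mathlib
import Cfsg.Agent.Lib.CNil.JJq

set_option autoImplicit false
set_option linter.unusedSectionVars false

namespace CfsgLib.CNil

open Subgroup Cfsg CfsgLib.LAE CfsgLib.Push CfsgLib.Blocks CfsgLib.ZJ CfsgLib.OFP CfsgLib.Cop
open scoped commutatorElement

variable {Γ : Type*} [Group Γ] [Finite Γ] {F : Type} [Field F] [Fintype F] [CharP F 2]
  {G M S B Q P V V₀ l B₁ A : Subgroup Γ} {f : Γ} {s c ψ : Γ → F} {μ : Fˣ}

theorem Lf.exists_nd (L : Lf F G M S B Q P V V₀) :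
    ∃ (D : NatData F ⊤ P V V₀) (f : Γ) (μ : Fˣ), ND F G M S B Q P V V₀ D f μ := by
  classical
  have : Fact (Nat.Prime 2) := ⟨Nat.prime_two⟩
  have hT : ∀ T : Subgroup Γ, IsPGroup 2 T → B ≤ T → T ≤ P → T ⊓ 𝒞[Q] ≤ B := fun T pT BT TP x hx => by
    have e := lf_hQ L pT BT (TP.trans L.PG) (TP.trans L.PQ)
    have h1 : zj 2 T ≤ Q := fun y hy => nl_cQ L.toNL ⟨e ▸ zj_le_bau T hy, fun q hq =>
      ((bau_le_centralizer T) (e.ge (nl_QB L.toNL hq)) y hy).symm⟩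
    exact e.le ⟨hx.1, centralizer_le h1 hx.2⟩
  obtain ⟨D, hDB, hDk, hDc⟩ := L.nat
  have hBP : B ≤ P := L.BP
  have hQB : Q ≤ B := hDk ▸ inf_le_left
  have hHP : B ⊔ D.ker ≤ P := sup_le hBP D.ker_le
  have hsyl : IsSylowIn 2 B (B ⊔ D.ker) := ⟨le_sup_left, L.pB, fun T pT BT TH => le_antisymm (fun t ht => by
    obtain ⟨b, hb, x, hx, rfl⟩ :=
      (mem_sup_iff_of_left_le_normalizer (hBP.trans D.le_normalizer_ker)).1 (TH ht)
    obtain ⟨q, hq, c, hc, rfl⟩ := (mem_sup_iff_of_left_le_normalizer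
      (le_normalizer_inf ((hQB.trans hBP).trans le_normalizer) (le_normalizer_centralizer le_normalizer))).1
        (hDc hx)
    have cT : c ∈ T := by simpa using mul_mem (inv_mem (BT (hQB hq))) (mul_mem (inv_mem (BT hb)) ht)
    exact mul_mem hb (mul_mem (hQB hq) (hT T pT BT (TH.trans hHP) ⟨cT, hc.2⟩))) BT⟩
  have hlift : ∀ a : Fˣ, ∃ f ∈ P, f ∈ 𝒩[B] ∧ D.φ f = SL2.dg a := fun a => by
    obtain ⟨f, hf, hφ⟩ := D.φ_surj (SL2.dg a) (mem_top _)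
    have hH : D.img (B ⊔ D.ker) = upU F := by
      refine le_antisymm (fun g hg => ?_) (hDB ▸ D.img_mono le_sup_left)
      obtain ⟨y, hy, hy', rfl⟩ := D.mem_img.1 hg
      obtain ⟨b, hb, x, hx, rfl⟩ :=
        (mem_sup_iff_of_left_le_normalizer (hBP.trans D.le_normalizer_ker)).1 hy'
      rw [D.φ_mul (hBP hb) (D.ker_le hx), (D.mem_ker.1 hx).2, mul_one]
      exact hDB.le (D.φ_mem_img (hBP hb) hb)
    have fN := D.mem_normalizer_of_borel hHP le_sup_right hH hf (hφ ▸ dg_mem_borel _)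
    obtain ⟨y, hy, e⟩ := (hsyl.conj_of_mem_normalizer fN).exists_conj hsyl
    obtain ⟨b, -, hb, eb⟩ := D.mem_img.1 (hDB.ge (inv_mem (hH.le (D.φ_mem_img (hHP hy) hy))))
    refine ⟨b * (y * f), mul_mem (hBP hb) (mul_mem (hHP hy) hf), mul_mem (le_normalizer hb) ?_, ?_⟩
    · rw [mem_normalizer_iff_conjS, conjS_mul, e]
    · rw [D.φ_mul (hBP hb) (mul_mem (hHP hy) hf), D.φ_mul (hHP hy) hf, eb, inv_mul_cancel_left, hφ]
  obtain ⟨l₀, hl₀⟩ := IsCyclic.exists_generator (α := Fˣ)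
  have ho₀ : orderOf l₀ = Fintype.card F - 1 := by
    rw [orderOf_eq_card_of_forall_mem_zpowers hl₀, Nat.card_eq_fintype_card, Fintype.card_units]
  obtain ⟨f₀, hf₀, hf₀B, hφ₀⟩ := hlift l₀
  obtain ⟨k, hk⟩ := exists_odd_pow f₀
  refine ⟨D, f₀ ^ 4 ^ k, l₀ ^ 4 ^ k, L, hDB, hDk, hDc, P.pow_mem hf₀ _, pow_mem hf₀B _, hk, ?_, fun ν => ?_⟩
  · rw [D.φ_pow hf₀, hφ₀, ← SL2.dgHom_apply, ← map_pow, SL2.dgHom_apply]
  · refine zpowers_le.2 (mem_zpowers_pow_iff.2 ?_) (hl₀ ν)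
    obtain ⟨m, -, hm⟩ := FiniteField.card F 2
    have h2 : Even (Fintype.card F) := by rw [hm]; exact (Nat.even_pow' m.ne_zero).2 even_two
    have h3 : Odd (orderOf l₀) := by
      rw [ho₀]; exact Nat.Even.sub_odd Fintype.card_pos h2 odd_one
    exact Nat.Coprime.pow_left k (Nat.Coprime.pow_left 2 (Nat.coprime_two_left.2 h3))

theorem jja_act_dg (a : Fˣ) (v : Fin 2 → F) :
    act (SL2.dg a) v 0 = a * v 0 ∧ act (SL2.dg a) v 1 = (a⁻¹ : Fˣ) * v 1 := by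
  constructor <;> simp [act_apply, SL2.dg_00, SL2.dg_01, SL2.dg_10, SL2.dg_11]

theorem jja_ne_one (hq : 2 < Fintype.card F) (gen : ∀ ν : Fˣ, ν ∈ zpowers μ) : (μ : F) ≠ 1 := fun e => by
  classical
  have h1 : μ = 1 := Units.ext e
  have h2 : orderOf μ = Fintype.card F - 1 := by
    rw [orderOf_eq_card_of_forall_mem_zpowers gen, Nat.card_eq_fintype_card, Fintype.card_units]
  rw [h1, orderOf_one] at h2
  omega

/-- `s w = π w 1`, `c b = φ b 0 1`, `ψ e = π e 0`, `l = {⁅f, e⁆}`. -/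
theorem ND.jd {D : NatData F ⊤ P V V₀} (n : ND F G M S B Q P V V₀ D f μ) (hq : 2 < Fintype.card F)
    (sM : Group.IsSolvable M) :
    ∃ (l : Subgroup Γ) (s c ψ : Γ → F), JD F G B Q l f s c ψ μ ∧ ∃ z ∈ omegaZ 2 S, ψ z ≠ 0 := by
  have : Fact (Nat.Prime 2) := ⟨Nat.prime_two⟩
  obtain ⟨o1, o2, o3, o4, o5⟩ := n.off
  have BP := n.BP
  have QB : Q ≤ B := nl_QB n.toNL
  have EV : omegaZ 2 B ≤ V := n.ZV
  have BQ : B ≤ 𝒩[Q] := BP.trans n.PQ
  have μ1 := jja_ne_one hq n.gen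
  have hu : ∀ b ∈ B, D.φ b = SL2.uu ((D.φ b).1 0 1) := fun b hb => by
    obtain ⟨t, ht⟩ := mem_upU.1 (n.img.le (D.φ_mem_img (BP hb) hb))
    rw [ht]
    rfl
  have hfix : ∀ e ∈ omegaZ 2 B, D.π e 1 = 0 := by
    intro e he
    obtain ⟨t, ht, htB, hu, h1⟩ := D.exists_φ_ne_one (T := B) n.img.ge
    have h0 : ⁅t, e⁆ = 1 := by
      rw [commutatorElement_eq_one_iff_mul_comm]
      exact omegaZ_le_centralizer B he t htB
    exact (D.mem_fix.1 ((D.commutator_mem_iff ht hu h1 (EV he)).1 (h0 ▸ V₀.one_mem))).2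
  have fK : f ∈ pResOf 2 P := mem_pResOf n.fP ((Nat.coprime_two_right).2 n.fo)
  have f0 : f ∈ 𝒞[V₀] := n.K0 fK
  have fW := n.fW n.fP n.fo
  have fE : ∀ e ∈ omegaZ 2 B, f * e * f⁻¹ ∈ omegaZ 2 B := fun e he =>
    LAE.conj_mem_of_mem_normalizer (normalizer_le_normalizer_omegaZ B n.fB) he
  have cE : ∀ e ∈ omegaZ 2 B, ⁅f, e⁆ ∈ omegaZ 2 B := fun e he => mul_mem (fE e he) (inv_mem he)
  have Ec : ∀ e ∈ omegaZ 2 B, ∀ e' ∈ omegaZ 2 B, e * e' = e' * e := fun e he e' he' =>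
    omegaZ_le_centralizer B he' e (omegaZ_le B he)
  have cmul : ∀ v ∈ omegaZ 2 B, ∀ v' ∈ omegaZ 2 B, ⁅f, v⁆ * ⁅f, v'⁆ = ⁅f, v * v'⁆ := fun v hv v' hv' => by
    calc ⁅f, v⁆ * ⁅f, v'⁆ = f * v * f⁻¹ * (v⁻¹ * ⁅f, v'⁆) := by rw [commutatorElement_def f v]; group
      _ = _ := by rw [Ec _ (inv_mem hv) _ (cE v' hv')]; simp only [commutatorElement_def]; group
  let ℓ : Subgroup Γ :=
    { carrier := {w | ∃ v ∈ omegaZ 2 B, w = ⁅f, v⁆}
      one_mem' := ⟨1, one_mem _, by simp⟩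
      mul_mem' := by
        rintro _ _ ⟨v, hv, rfl⟩ ⟨v', hv', rfl⟩
        exact ⟨_, mul_mem hv hv', cmul v hv v' hv'⟩
      inv_mem' := by
        rintro _ ⟨v, hv, rfl⟩
        refine ⟨v⁻¹, inv_mem hv, inv_eq_of_mul_eq_one_right ?_⟩
        rw [cmul v hv _ (inv_mem hv), mul_inv_cancel, commutatorElement_one_right] }
  have lE : ℓ ≤ omegaZ 2 B := by
    rintro _ ⟨v, hv, rfl⟩
    exact cE v hv
  have fx : ∀ e ∈ V, f * e * f⁻¹ = e → D.π e 0 = 0 := fun e he h => by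
    have h1 := congrFun (D.π_conj f n.fP e he) 0
    rw [h, n.φf, (jja_act_dg _ _).1] at h1
    by_contra h0
    exact μ1 (mul_right_cancel₀ h0 (h1.symm.trans (one_mul _).symm))
  have fq : ∀ x ∈ Q, ∃ a, (∀ y ∈ Q, Commute a y) ∧ a ∈ Q ∧ a * a = 1 ∧ f * x * f⁻¹ = a * x := fun x hx =>
    ⟨⁅f, x⁆, fun y hy => (omegaZ_le_centralizer Q (fW x hx) y hy).symm, omegaZ_le Q (fW x hx),
      by rw [← sq]; exact (mem_omegaZ.1 (fW x hx)).2.2, by rw [commutatorElement_def]; group⟩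
  have bad : ∀ {R H : Subgroup Γ}, omegaZ 2 Q ≤ R → R ≤ Q → Group.IsSolvable H → ¬ G ⊓ 𝒩[R] ≤ CM H R :=
    fun {R H} h1 h2 h3 h4 => n.nsol hq h1 h2 h3 fun g g1 g2 => by
      obtain ⟨a, ha, m, hm, -, e⟩ := mem_CM.1 (h4 ⟨g1, g2⟩)
      exact ⟨a, ha, m, hm, e⟩
  refine ⟨ℓ, fun w => D.π w 1, fun b => (D.φ b).1 0 1, fun e => D.π e 0,
    ⟨⟨n.pB, QB, BQ, nl_cQ n.toNL, fun x hx y hy => ?_, fun x hx => ⟨o2 x hx, hfix x⟩, fun t => ?_,
      fun x hx y hy => ?_, fun x hx => ⟨fun h => ?_, fun h => ?_⟩, o5, fun x hx y hy => ?_, fun b hb w hw => ?_,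
      fun x hx y hy h => ?_, fun x hx h => ?_, o4, n.fB, n.PQ n.fP, n.fo, n.gen, fun w hw => ?_,
      fun b hb => ?_, fun e he => ?_, fW, lE, fun e he => ⟨e, he, rfl⟩, ?_⟩,
    n.BS.trans n.syl.le, n.PG n.fP, fun R T h1 h2 pT BT TG TR => ?_, fun R h1 h2 h3 => ?_,
    fun h1 b hb bQ h2 y yG yB yQ py h3 h4 => n.q1 hq lE (fun x hx => hx) h1 hb bQ h2 yG yB yQ py h3 h4⟩, ?_⟩
  · simp only [D.π_mul x (o1 hx) y (o1 hy), Pi.add_apply]
  · obtain ⟨w, hw, e⟩ := o3 ![0, t]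
    exact ⟨w, hw, by simp [e]⟩
  · have := D.φ_mul (BP hx) (BP hy)
    rw [hu x hx, hu y hy, ← SL2.uu_add] at this
    simp only [this]
    rfl
  · refine n.k1.le ⟨hx, D.mem_ker.2 ⟨BP hx, ?_⟩⟩
    rw [hu x hx, uu_eq_one_iff]
    exact h
  · have := (D.mem_ker.1 (n.k1.ge h).2).2
    rw [hu x hx, uu_eq_one_iff] at this
    exact this
  · simp only [D.π_mul x (EV hx) y (EV hy), Pi.add_apply]
  · have h1 := D.π_commutator (BP hb) (o1 hw)
    rw [hu b hb, act_uu, add_sub_cancel_left] at h1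
    refine ⟨o2 _ (mul_mem (LAE.conj_mem_of_mem_normalizer (normalizer_le_normalizer_omegaZ Q (BQ hb)) hw)
      (inv_mem hw)) (by rw [h1]; simp), ?_⟩
    simp only [h1, Matrix.cons_val_zero, mul_comm]
  · obtain ⟨a, a1, a2, -, a4⟩ := fq x hx
    obtain ⟨a', b1, b2, -, b4⟩ := fq y hy
    refine fx _ (EV h) ?_
    have e1 : f * ⁅x, y⁆ * f⁻¹ = ⁅a * x, a' * y⁆ := by
      rw [← a4, ← b4]; simp only [commutatorElement_def]; group
    have k1 : a * x * (a' * y) = a * a' * (x * y) := by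
      rw [mul_assoc a x, ← mul_assoc x, ← (b1 x hx).eq]; group
    have k2 : a' * y * (a * x) = a * a' * (y * x) := by
      rw [mul_assoc a' y, ← mul_assoc y, ← (a1 y hy).eq, (a1 a' b2).eq]; group
    have hxy : ⁅x, y⁆ ∈ Q := mul_mem (mul_mem (mul_mem hx hy) (inv_mem hx)) (inv_mem hy)
    have k3 : Commute (a * a') ⁅x, y⁆ := (a1 _ hxy).mul_left (b1 _ hxy)
    calc f * ⁅x, y⁆ * f⁻¹ = a * x * (a' * y) * (a' * y * (a * x))⁻¹ := by
          rw [e1]; simp only [commutatorElement_def]; group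
      _ = a * a' * ⁅x, y⁆ * (a * a')⁻¹ := by rw [k1, k2, commutatorElement_def]; group
      _ = _ := by rw [k3.eq, mul_inv_cancel_right]
  · obtain ⟨a, a1, -, a3, a4⟩ := fq x hx
    refine fx _ (EV h) ?_
    calc f * (x * x) * f⁻¹ = (f * x * f⁻¹) * (f * x * f⁻¹) := by group
      _ = a * (x * a) * x := by rw [a4]; group
      _ = _ := by rw [← (a1 x hx).eq, ← mul_assoc, a3, one_mul]
  · simp only [D.π_conj f n.fP w (o1 hw), n.φf, (jja_act_dg _ _).2]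
    rw [← mul_assoc, Units.mul_inv, one_mul]
  · have := D.φ_conj n.fP (BP hb)
    rw [n.φf, hu b hb, dg_conj_uu] at this
    simp only [this]
    rfl
  · simp only [D.π_conj f n.fP e (EV he), n.φf, (jja_act_dg _ _).1]
  · rintro _ ⟨e, he, rfl⟩ h
    have h1 := congrFun (D.π_commutator n.fP (EV he)) 0
    rw [n.φf, Pi.sub_apply, (jja_act_dg _ _).1] at h1
    have h2 : D.π e 0 = 0 := by
      by_contra h0
      exact μ1 (mul_right_cancel₀ h0 ((sub_eq_zero.1 (h1.symm.trans h)).trans (one_mul _).symm))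
    exact commutatorElement_eq_one_iff_mul_comm.2
      (f0 e ((D.π_eq_zero e (EV he)).1 (vec2_ext h2 (hfix e he)))).symm
  · exact n.hm R T (n.pB.to_le (h2.trans QB)) ((h2.trans QB).trans (n.BS.trans n.SM)) (bad h1 h2 sM) pT BT TG TR
  · exact bad h1 h2 h3 (le_CM le_rfl inf_le_right)
  · by_contra hc
    push Not at hc
    exact n.nc (n.K0.trans (centralizer_le fun z hz =>
      (D.π_eq_zero z (EV (n.ZB hz))).1 (vec2_ext (hc z hz) (hfix z (n.ZB hz)))))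

end CfsgLib.CNil
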