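import Mathlib
import Cfsg.Agent.Lib.CNil.Frame

set_option autoImplicit false
set_option linter.unusedSectionVars false

namespace CfsgLib.CNil

open Subgroup Cfsg CfsgLib.LAE CfsgLib.OFP CfsgLib.Cop
open scoped commutatorElement

universe u

variable {X : Type u} [Group X] [Finite X] {A G V l : Subgroup X}

/-- A fixed point free automorphism of a four-group has order three. -/
theorem jje_cube (sq : ∀ v ∈ l, v * v = 1) (l4 : Nat.card l = 4) {m : X} (h1 : ∀ v ∈ l, m * v * m⁻¹ ∈ l)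
    (h2 : ∀ x ∈ l, m * x * m⁻¹ = x → x = 1) {y : X} (hy : y ∈ l) : m ^ 3 * y * (m ^ 3)⁻¹ = y := by
  classical
  by_cases y1 : y = 1
  · simp [y1]
  have cm : ∀ a ∈ l, ∀ b ∈ l, a * b = b * a := fun a ha b hb => MinS.M1.comm_of_sq sq ha hb
  obtain ⟨z, hz⟩ : ∃ z, z = m * y * m⁻¹ := ⟨_, rfl⟩
  obtain ⟨t, ht⟩ : ∃ t, t = m * z * m⁻¹ := ⟨_, rfl⟩
  have zl : z ∈ l := hz ▸ h1 y hy
  have tl : t ∈ l := ht ▸ h1 z zl
  have z1 : z ≠ 1 := fun e => y1 (by rw [e] at hz; simpa using hz.symm)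
  have t1 : t ≠ 1 := fun e => z1 (by rw [e] at ht; simpa using ht.symm)
  have zy : z ≠ y := fun e => y1 (h2 y hy (hz.symm.trans e))
  have tz : t ≠ z := fun e => z1 (h2 z zl (ht.symm.trans e))
  have yz1 : y * z ≠ 1 := fun e => zy (mul_left_cancel (e.trans (sq y hy).symm))
  have cj : m * (y * z) * m⁻¹ = z * t := by rw [ht, hz]; group
  have ty : t ≠ y := fun e => yz1 (h2 _ (mul_mem hy zl) (by rw [cj, e, cm z zl y hy]))
  have e : t = y * z := by
    by_contra e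
    have h5 : ({1, y, z, y * z, t} : Finset X).card ≤ 4 := by
      rw [← l4, ← Set.ncard_coe_finset, ← SetLike.coe_sort_coe, Nat.card_coe_set_eq]
      refine Set.ncard_le_ncard fun x hx => ?_
      simp only [Finset.coe_insert, Finset.coe_singleton, Set.mem_insert_iff, Set.mem_singleton_iff] at hx
      rcases hx with rfl | rfl | rfl | rfl | rfl
      exacts [one_mem _, hy, zl, mul_mem hy zl, tl]
    rw [Finset.card_insert_of_notMem (by simp [Ne.symm y1, z1.symm, yz1.symm, t1.symm]),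
      Finset.card_insert_of_notMem (by simp [zy.symm, z1, ty.symm]),
      Finset.card_insert_of_notMem (by simp [y1, tz.symm]),
      Finset.card_insert_of_notMem (by simpa using fun h => e h.symm), Finset.card_singleton] at h5
    omega
  rw [show m ^ 3 * y * (m ^ 3)⁻¹ = m * (m * (m * y * m⁻¹) * m⁻¹) * m⁻¹ by
      rw [pow_three]; group, ← hz, ← ht, e, cj, e,
    cm y hy z zl, ← mul_assoc, sq z zl, one_mul]

theorem jje_aux (ho : NoOm A G) {P : Subgroup X} (PG : P ≤ G) (PV : P ≤ normalizer (V : Set X))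
    (pP : IsPGroup 3 P) (AP : A ≤ normalizer (P : Set X)) (VG : V ≤ G) (sq : ∀ v ∈ V, v * v = 1)
    (AV : A ≤ normalizer (V : Set X)) {x : X} (xP : x ∈ P) (lV : l ≤ V) (l4 : Nat.card l = 4)
    (h1 : ∀ v ∈ V, ⁅x, v⁆ ∈ l) (h2 : ∀ y ∈ l, ⁅x, y⁆ = 1 → y = 1) (h3 : x ^ 6 ∈ centralizer (V : Set X)) :
    False := by
  have : Fact (Nat.Prime 3) := ⟨Nat.prime_three⟩
  obtain ⟨W, _, _, _, ⟨s⟩⟩ := MinS.exists_sec (H := P ⊔ A) (E := V) (Z := ⊥) (sup_le PV AV)
    le_normalizer_of_normal bot_le le_normalizer_of_normal fun a ha => mem_bot.2 (sq a ha)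
  have pF := s.isPGroup_im pP
  have xH : x ∈ P ⊔ A := mem_sup_left xP
  have xF := s.ρ_mem_im xP xH
  have cm' : ∀ a ∈ V, ∀ b ∈ V, a * b = b * a := fun a ha b hb => MinS.M1.comm_of_sq sq ha hb
  have πc : ∀ a ∈ V, s.ρ x (s.π a) - s.π a = s.π ⁅x, a⁆ := fun a ha => by
    rw [commutatorElement_def, s.π_mul _ (conj_mem_of_mem_normalizer (PV xP) ha) _ (inv_mem ha), s.π_inv ha,
      s.conj x xH a ha, sub_eq_add_neg, ZModModule.neg_eq_self]
  refine ho P V ⊥ W s (s.im P) PG VG AP le_rfl (s.im_le_normalizer AP) ?_ pF.isNilpotent (s.ρ x) ⟨xF, ?_, ?_⟩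
  · obtain ⟨n, hn⟩ := IsPGroup.iff_card.1 pF
    rw [hn]
    exact Odd.pow (by decide)
  · obtain ⟨n, hn⟩ := isPGroup_iff_forall_mem.1 pF _ xF
    have h6 : s.ρ x ^ 6 = 1 := by rw [← s.ρ_pow xH, s.ρ_eq_one_iff_mem_centralizer rfl (pow_mem xH _)]; exact h3
    have hd : orderOf (s.ρ x) ∣ 3 := by
      have a1 : orderOf (s.ρ x) ∣ 3 * 2 := orderOf_dvd_of_pow_eq_one h6
      exact Nat.Coprime.dvd_of_dvd_mul_right (Nat.Coprime.coprime_dvd_left (orderOf_dvd_of_pow_eq_one hn)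
        (Nat.Coprime.pow_left n (by decide))) a1
    rcases (Nat.dvd_prime Nat.prime_three).1 hd with e | e
    · rw [orderOf_eq_one_iff, s.ρ_eq_one_iff xH] at e
      have : l = ⊥ := eq_bot_iff.2 fun y hy => mem_bot.2 (h2 y hy (mem_bot.1 (e y (lV hy))))
      simp [this] at l4
    · exact e
  · have inj : Function.Injective fun y : l => (⟨⁅x, (y : X)⁆, h1 y (lV y.2)⟩ : l) := by
      intro y z e
      have e' : ⁅x, (y : X)⁆ = ⁅x, (z : X)⁆ := congrArg Subtype.val e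
      have : (z : X)⁻¹ * y = 1 := h2 _ (mul_mem (inv_mem z.2) y.2) (by
        rw [show ⁅x, (z : X)⁻¹ * y⁆ = x * (z : X)⁻¹ * x⁻¹ * ⁅x, (y : X)⁆ * (y * (y : X)⁻¹ * z) by
          simp only [commutatorElement_def]; group, e']
        simp only [commutatorElement_def]; group)
      exact Subtype.ext (inv_mul_eq_one.1 this).symm
    have e : MinS.cm ⊤ (s.ρ x) = s.sub l := by
      ext v
      rw [MinS.mem_cm, s.mem_sub]
      refine ⟨fun ⟨w, _, e⟩ => ?_, fun ⟨a, ha, _, e⟩ => ?_⟩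
      · obtain ⟨a, ha, rfl⟩ := s.surj w
        exact ⟨_, h1 a ha, lV (h1 a ha), by rw [← e, πc a ha]⟩
      · obtain ⟨y, hy⟩ := Finite.surjective_of_injective inj ⟨a, ha⟩
        exact ⟨s.π y, Submodule.mem_top, by rw [πc y (lV y.2), ← e, ← show ⁅x, (y : X)⁆ = a from congrArg Subtype.val hy]⟩
    have := s.card_sub lV
    rw [inf_bot_eq, card_bot, one_mul, l4] at this
    rw [e]
    exact Nat.pow_right_injective le_rfl this

/-- No element of `N_G(V)` has a commutator space of order four on which it acts without fixed points. -/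
theorem noOm_four (ho : NoOm A G) (AG : A ≤ normalizer (G : Set X))
    (cop : (Nat.card A).Coprime (Nat.card G)) (VG : V ≤ G) (sq : ∀ v ∈ V, v * v = 1)
    (AV : A ≤ normalizer (V : Set X))
    (sM : Group.IsSolvable (G ⊓ normalizer (V : Set X) : Subgroup X)) {m : X} (mG : m ∈ G) (mV : m ∈ normalizer (V : Set X))
    (lV : l ≤ V) (l4 : Nat.card l = 4) (h1 : ∀ v ∈ V, ⁅m, v⁆ ∈ l) (h2 : ∀ x ∈ l, ⁅m, x⁆ = 1 → x = 1) :
    False := by
  have : Fact (Nat.Prime 3) := ⟨Nat.prime_three⟩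
  have sl : ∀ v ∈ l, v * v = 1 := fun v hv => sq v (lV hv)
  have c1 : ∀ v ∈ l, m * v * m⁻¹ ∈ l := fun v hv => by
    have := mul_mem (h1 v (lV hv)) hv
    rwa [commutatorElement_def, inv_mul_cancel_right] at this
  have c3 := fun y hy => jje_cube sl l4 c1 (fun x hx e => h2 x hx (by
    rw [commutatorElement_def, e, mul_inv_cancel])) (y := y) hy
  have cp : ∀ n : ℕ, ∀ v ∈ V, ⁅m ^ n, v⁆ ∈ l := by
    intro n
    induction n with
    | zero => simp
    | succ n ih =>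
      intro v hv
      rw [show ⁅m ^ (n + 1), v⁆ = m * ⁅m ^ n, v⁆ * m⁻¹ * ⁅m, v⁆ by
        rw [pow_succ']; simp only [commutatorElement_def]; group]
      exact mul_mem (c1 _ (ih v hv)) (h1 v hv)
  have c6 : m ^ 6 ∈ centralizer (V : Set X) := fun v hv => by
    have e : ⁅m ^ 6, v⁆ = m ^ 3 * ⁅m ^ 3, v⁆ * (m ^ 3)⁻¹ * ⁅m ^ 3, v⁆ := by
      rw [show 6 = 3 + 3 from rfl, pow_add]
      generalize m ^ 3 = k
      simp only [commutatorElement_def]; group
    rw [c3 _ (cp 3 v hv), sl _ (cp 3 v hv)] at e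
    exact (commutatorElement_eq_one_iff_mul_comm.1 e).symm
  obtain ⟨k, n, hn, e⟩ := Nat.exists_eq_pow_mul_and_not_dvd (orderOf_pos m).ne' 3 (by decide)
  have fp : ∀ y ∈ l, ⁅m ^ n, y⁆ = 1 → y = 1 := fun y hy h => by
    have a1 : Commute (m ^ n) y := commutatorElement_eq_one_iff_commute.1 h
    have a2 : Commute (m ^ 3) y := mul_inv_eq_iff_eq_mul.1 (c3 y hy)
    have a3 : m ∈ centralizer {y} := mem_of_pow_mem_of_pow_mem
      ((Nat.Prime.coprime_iff_not_dvd Nat.prime_three).2 hn)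
      (mem_centralizer_singleton_iff.2 a2.eq) (mem_centralizer_singleton_iff.2 a1.eq)
    exact h2 y hy (commutatorElement_eq_one_iff_mul_comm.2 (mem_centralizer_singleton_iff.1 a3))
  have AH : A ≤ normalizer ((G ⊓ normalizer (V : Set X) : Subgroup X) : Set X) :=
    le_normalizer_inf AG (AV.trans (normalizer_le_normalizer_normalizer _))
  obtain ⟨P, -, p2, p3, p4, p5⟩ := Coprime.exists_invariant_sylow_ge' (p := 3) AH
    (cop.coprime_dvd_right (card_dvd_of_le inf_le_left)) (Or.inr sM) ⊥ bot_le IsPGroup.of_bot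
    le_normalizer_of_normal
  have mH : m ∈ G ⊓ normalizer (V : Set X) := ⟨mG, mV⟩
  have pz : IsPGroup 3 (zpowers (m ^ n)) := isPGroup_iff_forall_mem.2 fun y hy => ⟨k, by
    obtain ⟨i, rfl⟩ := mem_zpowers_iff.1 hy
    rw [← zpow_natCast, ← zpow_mul, mul_comm, zpow_mul, zpow_natCast, ← pow_mul, mul_comm, ← e,
      pow_orderOf_eq_one, one_zpow]⟩
  obtain ⟨T, hT, xT⟩ := exists_isSylowIn_ge pz (zpowers_le.2 (pow_mem mH n))
  obtain ⟨g, hg, eg⟩ := hT.exists_conj (isSylowIn_of_not_dvd_relIndex p2 p3 p4)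
  have gV : conjS g V = V := mem_normalizer_iff_conjS.1 hg.2
  refine jje_aux (l := conjS g l) (x := g * m ^ n * g⁻¹) ho (p2.trans inf_le_left) (p2.trans inf_le_right) p3 p5
    VG sq AV (eg ▸ conj_mem_conjS.2 (xT (mem_zpowers _))) (gV ▸ conjS_mono lV) (by rw [card_conjS, l4])
    (fun v hv => ?_) (fun y hy h => ?_) ?_
  · rw [show ⁅g * m ^ n * g⁻¹, v⁆ = g * ⁅m ^ n, g⁻¹ * v * g⁆ * g⁻¹ by
      simp only [commutatorElement_def]; group]
    exact conj_mem_conjS.2 (cp n _ (conj_inv_mem_of_mem_normalizer hg.2 hv))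
  · obtain ⟨u, hu, rfl⟩ := exists_of_mem_conjS hy
    rw [← conjugate_commutatorElement, conj_eq_one_iff] at h
    rw [fp u hu h, mul_one, mul_inv_cancel]
  · rw [conj_pow, ← pow_mul, mul_comm n, pow_mul]
    exact conj_mem_of_mem_normalizer (normalizer_le_normalizer_centralizer V hg.2) (pow_mem c6 n)

end CfsgLib.CNil
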