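import Mathlib
import Cfsg.Agent.Lib.CNil.JJDefs

/-! Partners of `W = Ω Z(Q)` inside `B₁`. -/

set_option autoImplicit false
set_option linter.unusedSectionVars false

namespace CfsgLib.CNil

open Subgroup Cfsg CfsgLib.LAE CfsgLib.Push CfsgLib.Blocks CfsgLib.ZJ CfsgLib.OFP CfsgLib.Cop
open scoped commutatorElement

variable {Γ : Type*} [Group Γ] [Finite Γ] {F : Type} [Field F] [Fintype F] [CharP F 2]
  {G M S B Q P V V₀ l B₁ A : Subgroup Γ} {f : Γ} {s c ψ : Γ → F} {μ : Fˣ}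

namespace J0

theorem EW (h : J0 F B Q l f s c ψ μ) : omegaZ 2 B ≤ omegaZ 2 Q := fun e he => by
  obtain ⟨h1, h2, h3⟩ := mem_omegaZ.1 he
  have h4 : e ∈ centralizer (Q : Set Γ) := centralizer_le h.QB h2
  exact mem_omegaZ.2 ⟨h.cQ ⟨h1, h4⟩, h4, h3⟩

theorem ψ_one (h : J0 F B Q l f s c ψ μ) : ψ 1 = 0 := by
  have := h.ψ_add 1 (one_mem _) 1 (one_mem _)
  rw [mul_one] at this
  exact (add_eq_left.1 this.symm)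

theorem ψ_inv (h : J0 F B Q l f s c ψ μ) {e : Γ} (he : e ∈ omegaZ 2 B) : ψ e⁻¹ = ψ e := by
  have := h.ψ_add e⁻¹ (inv_mem he) e he
  rw [inv_mul_cancel, h.ψ_one] at this
  exact CharTwo.add_eq_zero.1 this.symm

theorem c_inv (h : J0 F B Q l f s c ψ μ) {b : Γ} (hb : b ∈ B) : c b⁻¹ = c b := by
  have := h.c_add b⁻¹ (inv_mem hb) b hb
  rw [inv_mul_cancel, (h.c_zero 1 (one_mem _)).2 (one_mem _)] at this
  exact CharTwo.add_eq_zero.1 this.symm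

/-- Elements with the same coordinate differ by an element of `Q`. -/
theorem c_eq (h : J0 F B Q l f s c ψ μ) {x y : Γ} (hx : x ∈ B) (hy : y ∈ B) (e : c x = c y) :
    x⁻¹ * y ∈ Q := by
  rw [← h.c_zero _ (mul_mem (inv_mem hx) hy), h.c_add _ (inv_mem hx) _ hy, h.c_inv hx, e]
  exact CharTwo.add_self_eq_zero _

theorem comm_W {Q : Subgroup Γ} {w x : Γ} (hw : w ∈ omegaZ 2 Q) (hx : x ∈ Q) : x * w = w * x :=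
  omegaZ_le_centralizer Q hw x hx

theorem sq_W {Q : Subgroup Γ} {w : Γ} (hw : w ∈ omegaZ 2 Q) : w * w = 1 := by
  rw [← pow_two]; exact (mem_omegaZ.1 hw).2.2

/-- `C_B(w) = Q` for `w ∈ W \ E`. -/
theorem of_comm (h : J0 F B Q l f s c ψ μ) {b w : Γ} (hb : b ∈ B) (hw : w ∈ omegaZ 2 Q)
    (e : b * w = w * b) : w ∈ omegaZ 2 B ∨ b ∈ Q := by
  have h1 := (h.com b hb w hw).2
  rw [commutatorElement_eq_one_iff_mul_comm.2 e, h.ψ_one] at h1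
  rcases mul_eq_zero.1 h1.symm with h2 | h2
  · exact Or.inl ((h.s_zero w hw).1 h2)
  · exact Or.inr ((h.c_zero b hb).1 h2)

theorem comm_conj {Q R : Subgroup Γ} (RQ : R ≤ Q) {g w x : Γ} (hw : w ∈ conjS g (omegaZ 2 Q))
    (hx : x ∈ conjS g R) : x * w = w * x := by
  obtain ⟨w, hw₀, rfl⟩ := exists_of_mem_conjS hw
  obtain ⟨x, hx₀, rfl⟩ := exists_of_mem_conjS hx
  have := comm_W hw₀ (RQ hx₀)
  calc g * x * g⁻¹ * (g * w * g⁻¹) = g * (x * w) * g⁻¹ := by group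
    _ = g * w * g⁻¹ * (g * x * g⁻¹) := by rw [this]; group

theorem conj_le {B₁ R : Subgroup Γ} (RB : R ≤ B₁) {g : Γ} (hg : g ∈ 𝒩[B₁]) : conjS g R ≤ B₁ := by
  have := conjS_mono (g := g) RB
  rwa [mem_normalizer_iff_conjS.1 hg] at this

theorem W_le (b1 : omegaZ 2 Q ≤ B₁) : omegaZ 2 Q ≤ Q ⊓ B₁ := le_inf (omegaZ_le Q) b1

/-- `W ∩ Q' ≤ E`. -/
theorem inter (h : J0 F B Q l f s c ψ μ) (b1 : omegaZ 2 Q ≤ B₁) (b2 : B₁ ≤ B)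
    {g : Γ} (hg : g ∈ 𝒩[B₁]) (hn : ¬ conjS g (omegaZ 2 Q) ≤ Q) {u : Γ} (hu : u ∈ omegaZ 2 Q)
    (hu' : u ∈ conjS g (Q ⊓ B₁)) : u ∈ omegaZ 2 B := by
  obtain ⟨w, hw, hwQ⟩ := SetLike.not_le_iff_exists.1 hn
  rcases h.of_comm (b2 (conj_le b1 hg hw)) hu (comm_conj inf_le_left hw hu').symm with e | e
  · exact e
  · exact absurd e hwQ

theorem exists_s (h : J0 F B Q l f s c ψ μ) : ∃ u ∈ omegaZ 2 Q, s u = 1 ∧ u ∉ omegaZ 2 B := by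
  obtain ⟨u, hu, e⟩ := h.s_surj 1
  exact ⟨u, hu, e, fun h1 => one_ne_zero (e.symm.trans ((h.s_zero u hu).2 h1))⟩

/-- Being a partner is symmetric. -/
theorem symm (h : J0 F B Q l f s c ψ μ) (b1 : omegaZ 2 Q ≤ B₁) (b2 : B₁ ≤ B)
    {g : Γ} (hg : g ∈ 𝒩[B₁]) (hn : ¬ conjS g (omegaZ 2 Q) ≤ Q) :
    ¬ conjS g⁻¹ (omegaZ 2 Q) ≤ Q := fun h1 => by
  obtain ⟨u, hu, -, hE⟩ := h.exists_s
  refine hE (h.inter b1 b2 hg hn hu (mem_conjS.2 ?_))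
  have h2 : g⁻¹ * u * g ∈ conjS g⁻¹ (omegaZ 2 Q) := by
    rw [mem_conjS]; simpa [mul_assoc] using hu
  exact ⟨h1 h2, conj_le b1 (inv_mem hg) h2⟩

/-- `E ≤ Q'`. -/
theorem E_le (h : J0 F B Q l f s c ψ μ) (b1 : omegaZ 2 Q ≤ B₁) (b2 : B₁ ≤ B)
    {g : Γ} (hg : g ∈ 𝒩[B₁]) : omegaZ 2 B ≤ conjS g (Q ⊓ B₁) := fun e he => by
  obtain ⟨u, hu, -, hE⟩ := h.exists_s
  have h1 : g⁻¹ * e * g ∈ B₁ := by
    have := LAE.conj_mem_of_mem_normalizer (inv_mem hg) (b1 (h.EW he))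
    rwa [inv_inv] at this
  have h2 : g * u * g⁻¹ ∈ B := b2 (LAE.conj_mem_of_mem_normalizer hg (b1 hu))
  have h3 := comm_W he h2
  have h4 : g⁻¹ * e * g * u = u * (g⁻¹ * e * g) := by
    calc g⁻¹ * e * g * u = g⁻¹ * (e * (g * u * g⁻¹)) * g := by group
      _ = u * (g⁻¹ * e * g) := by rw [← h3]; group
  rcases h.of_comm (b2 h1) hu h4 with e | e
  · exact absurd e hE
  · exact mem_conjS.2 ⟨e, h1⟩

/-- A partner covers `B / Q`. -/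
theorem onto (h : J0 F B Q l f s c ψ μ) (b1 : omegaZ 2 Q ≤ B₁) (b2 : B₁ ≤ B)
    {g : Γ} (hg : g ∈ 𝒩[B₁]) (hn : ¬ conjS g (omegaZ 2 Q) ≤ Q) (t : F) :
    ∃ w ∈ conjS g (omegaZ 2 Q), c w = t := by
  choose σ hσ eσ using h.s_surj
  have m : ∀ t, g * σ t * g⁻¹ ∈ B := fun t => b2 (LAE.conj_mem_of_mem_normalizer hg (b1 (hσ t)))
  have inj : Function.Injective fun t => c (g * σ t * g⁻¹) := fun t t' e => by
    have h1 := h.c_eq (m t) (m t') e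
    have h2 : (σ t)⁻¹ * σ t' ∈ omegaZ 2 Q := mul_mem (inv_mem (hσ t)) (hσ t')
    have h3 : (σ t)⁻¹ * σ t' ∈ conjS g⁻¹ (Q ⊓ B₁) := by
      rw [mem_conjS, inv_inv]
      refine ⟨?_, LAE.conj_mem_of_mem_normalizer hg (b1 h2)⟩
      have e1 : g * ((σ t)⁻¹ * σ t') * g⁻¹ = (g * σ t * g⁻¹)⁻¹ * (g * σ t' * g⁻¹) := by group
      rw [e1]; exact h1
    have h4 := h.inter b1 b2 (inv_mem hg) (h.symm b1 b2 hg hn) h2 h3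
    have h5 := h.s_add _ (hσ t) _ h2
    rw [mul_inv_cancel_left, eσ, eσ, (h.s_zero _ h2).2 h4, add_zero] at h5
    exact h5.symm
  obtain ⟨t', e⟩ := Finite.surjective_of_injective inj t
  exact ⟨_, conj_mem_conjS.2 (hσ t'), e⟩

/-- `W` covers `B₁ / Q'`. -/
theorem onto' (h : J0 F B Q l f s c ψ μ) (b1 : omegaZ 2 Q ≤ B₁) (b2 : B₁ ≤ B)
    {g : Γ} (hg : g ∈ 𝒩[B₁]) (hn : ¬ conjS g (omegaZ 2 Q) ≤ Q) {b : Γ} (hb : b ∈ B₁) :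
    ∃ w ∈ omegaZ 2 Q, w⁻¹ * b ∈ conjS g (Q ⊓ B₁) := by
  have h1 : g⁻¹ * b * g ∈ B₁ := by
    have := LAE.conj_mem_of_mem_normalizer (inv_mem hg) hb
    rwa [inv_inv] at this
  obtain ⟨w, hw, e⟩ := h.onto b1 b2 (inv_mem hg) (h.symm b1 b2 hg hn) (c (g⁻¹ * b * g))
  have h2 := conj_le b1 (inv_mem hg) hw
  have h3 := h.c_eq (b2 h2) (b2 h1) e
  obtain ⟨w, hw', rfl⟩ := exists_of_mem_conjS hw
  refine ⟨w, hw', mem_conjS.2 ?_⟩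
  have e1 : g⁻¹ * (w⁻¹ * b) * g = (g⁻¹ * w * g⁻¹⁻¹)⁻¹ * (g⁻¹ * b * g) := by group
  rw [e1]
  exact mem_inf.2 ⟨h3, mul_mem (inv_mem h2) h1⟩

/-- Splitting off the partner. -/
theorem split (h : J0 F B Q l f s c ψ μ) (b1 : omegaZ 2 Q ≤ B₁) (b2 : B₁ ≤ B)
    {g : Γ} (hg : g ∈ 𝒩[B₁]) (hn : ¬ conjS g (omegaZ 2 Q) ≤ Q) {b : Γ} (hb : b ∈ B₁) :
    ∃ w ∈ conjS g (omegaZ 2 Q), w⁻¹ * b ∈ Q ⊓ B₁ := by
  obtain ⟨w, hw, e⟩ := h.onto b1 b2 hg hn (c b)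
  have h2 := conj_le b1 hg hw
  exact ⟨w, hw, mem_inf.2 ⟨h.c_eq (b2 h2) (b2 hb) e, mul_mem (inv_mem h2) hb⟩⟩

/-- `B₁ = W W' (Q ∩ Q')` for a partner `W'`. -/
theorem side (h : J0 F B Q l f s c ψ μ) (b1 : omegaZ 2 Q ≤ B₁) (b2 : B₁ ≤ B)
    (b3 : ∀ t, ∃ x ∈ B₁, c x = t) {g : Γ} (hg : g ∈ 𝒩[B₁]) (hn : ¬ conjS g (omegaZ 2 Q) ≤ Q) :
    ∀ b ∈ B₁, ∃ w ∈ omegaZ 2 Q, ∃ w' ∈ conjS g (omegaZ 2 Q), ∃ x ∈ (Q ⊓ B₁) ⊓ conjS g (Q ⊓ B₁),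
      b = w * w' * x := fun b hb => by
  have _ := b3
  obtain ⟨w, hw, h1⟩ := h.onto' b1 b2 hg hn hb
  obtain ⟨w', hw', h2⟩ := h.split b1 b2 hg hn (mul_mem (inv_mem (b1 hw)) hb)
  refine ⟨w, hw, w', hw', w'⁻¹ * (w⁻¹ * b),
    mem_inf.2 ⟨h2, mul_mem (inv_mem (conjS_mono (W_le b1) hw')) h1⟩, ?_⟩
  group

/-- Involutions of `B₁` lie in `Q` or in its partner. -/
theorem invol (h : J0 F B Q l f s c ψ μ) (b1 : omegaZ 2 Q ≤ B₁) (b2 : B₁ ≤ B)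
    (b3 : ∀ t, ∃ x ∈ B₁, c x = t) {g : Γ} (hg : g ∈ 𝒩[B₁]) (hn : ¬ conjS g (omegaZ 2 Q) ≤ Q)
    {y : Γ} (hy : y ∈ B₁) (yy : y * y = 1) : y ∈ Q ∨ y ∈ conjS g (Q ⊓ B₁) := by
  obtain ⟨w, hw, w', hw', x, ⟨hx, hx'⟩, rfl⟩ := h.side b1 b2 b3 hg hn y hy
  have c1 := comm_W hw hx.1
  have c2 := comm_conj inf_le_left hw' hx'
  have s1 := sq_W hw
  have s2 : w' * w' = 1 := by
    obtain ⟨u, hu, rfl⟩ := exists_of_mem_conjS hw'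
    calc g * u * g⁻¹ * (g * u * g⁻¹) = g * (u * u) * g⁻¹ := by group
      _ = 1 := by rw [sq_W hu]; group
  have i1 : w⁻¹ = w := inv_eq_of_mul_eq_one_right s1
  have i2 : w'⁻¹ = w' := inv_eq_of_mul_eq_one_right s2
  have e : x * x = ⁅w', w⁆ := by
    rw [commutatorElement_def, i1, i2]
    have e1 : w * w' * w * w' * (x * x) = 1 := by
      rw [← yy]
      calc w * w' * w * w' * (x * x) = w * w' * w * (w' * x) * x := by group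
        _ = w * w' * (w * x) * w' * x := by rw [← c2]; group
        _ = w * w' * x * (w * w' * x) := by rw [← c1]; group
    have e2 := eq_inv_of_mul_eq_one_right e1
    rw [e2]
    simp only [mul_inv_rev, i1, i2, mul_assoc]
  have w'B := b2 (conj_le b1 hg hw')
  obtain ⟨m1, m2⟩ := h.com w' w'B w hw
  have m3 := h.φ2 x hx.1 (e ▸ m1)
  rw [e, m2] at m3
  rcases mul_eq_zero.1 m3 with h2 | h2
  · exact Or.inr (mul_mem (mul_mem (h.E_le b1 b2 hg ((h.s_zero w hw).1 h2))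
      (conjS_mono (W_le b1) hw')) hx')
  · exact Or.inl (mul_mem (mul_mem (omegaZ_le Q hw) ((h.c_zero w' w'B).1 h2)) hx.1)

theorem pu_W (h : J0 F B Q l f s c ψ μ) (b1 : omegaZ 2 Q ≤ B₁) (b2 : B₁ ≤ B)
    (b3 : ∀ t, ∃ x ∈ B₁, c x = t) {g g' : Γ} (hg : g ∈ 𝒩[B₁]) (hg' : g' ∈ 𝒩[B₁])
    (hn : ¬ conjS g (omegaZ 2 Q) ≤ Q) (hn' : ¬ conjS g' (omegaZ 2 Q) ≤ Q) :
    conjS g' (omegaZ 2 Q) ≤ conjS g (Q ⊓ B₁) := by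
  have key : ∀ y ∈ conjS g' (omegaZ 2 Q), y ∈ Q ∨ y ∈ conjS g (Q ⊓ B₁) := fun y hy => by
    refine h.invol b1 b2 b3 hg hn (conj_le b1 hg' hy) ?_
    obtain ⟨u, hu, rfl⟩ := exists_of_mem_conjS hy
    calc g' * u * g'⁻¹ * (g' * u * g'⁻¹) = g' * (u * u) * g'⁻¹ := by group
      _ = 1 := by rw [sq_W hu]; group
  obtain ⟨w, hw, hwQ⟩ := SetLike.not_le_iff_exists.1 hn'
  have h1 := (key w hw).resolve_left hwQ
  intro y hy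
  by_cases yQ : y ∈ Q
  · have h2 := (key _ (mul_mem hw hy)).resolve_left fun h3 => hwQ (by
      simpa using mul_mem h3 (inv_mem yQ))
    simpa using mul_mem (inv_mem h1) h2
  · exact (key y hy).resolve_left yQ

theorem pu_le (h : J0 F B Q l f s c ψ μ) (b1 : omegaZ 2 Q ≤ B₁) (b2 : B₁ ≤ B)
    (b3 : ∀ t, ∃ x ∈ B₁, c x = t) {g g' : Γ} (hg : g ∈ 𝒩[B₁]) (hg' : g' ∈ 𝒩[B₁])
    (hn : ¬ conjS g (omegaZ 2 Q) ≤ Q) (hn' : ¬ conjS g' (omegaZ 2 Q) ≤ Q) :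
    conjS g' (Q ⊓ B₁) ≤ conjS g (Q ⊓ B₁) := fun y hy => by
  have hW := h.pu_W b1 b2 b3 hg hg' hn hn'
  have yB := conj_le inf_le_right hg' hy
  obtain ⟨u, hu, xQ⟩ := h.split b1 b2 hg' hn' yB
  have x'' : u⁻¹ * y ∈ conjS g' (Q ⊓ B₁) := mul_mem (inv_mem (conjS_mono (W_le b1) hu)) hy
  suffices u⁻¹ * y ∈ conjS g (Q ⊓ B₁) by simpa using mul_mem (hW hu) this
  generalize u⁻¹ * y = x at xQ x''
  obtain ⟨w₁, hw₁, h1⟩ := h.onto' b1 b2 hg hn xQ.2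
  suffices w₁ ∈ omegaZ 2 B by simpa using mul_mem (h.E_le b1 b2 hg this) h1
  obtain ⟨w'', hw'', nQ⟩ := SetLike.not_le_iff_exists.1 hn'
  have w''B := conj_le b1 hg' hw''
  obtain ⟨w', hw', h2⟩ := h.split b1 b2 hg hn w''B
  have h3 : w'⁻¹ * w'' ∈ conjS g (Q ⊓ B₁) := mul_mem (inv_mem (conjS_mono (W_le b1) hw')) (hW hw'')
  have h4 : x⁻¹ * w₁ ∈ conjS g (Q ⊓ B₁) := by simpa using inv_mem h1
  have h5 : x⁻¹ * w₁ ∈ Q := mul_mem (inv_mem xQ.1) (omegaZ_le Q hw₁)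
  have c1 := comm_conj inf_le_left hw'' x''
  have c2 := comm_conj inf_le_left hw' (mul_mem (mul_mem h3 h4) (inv_mem h3))
  have e : ⁅w'', w₁⁆ = ⁅x * (w'⁻¹ * w'') * x⁻¹, x * (x⁻¹ * w₁) * x⁻¹⁆ := by
    generalize hx₀ : w'⁻¹ * w'' = x₀ at c2
    generalize hx₂ : x⁻¹ * w₁ = x₂ at c2
    have e1 : w'' = w' * x₀ := by rw [← hx₀]; group
    have e2 : w₁ = x * x₂ := by rw [← hx₂]; group
    rw [commutatorElement_def, commutatorElement_def, e2]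
    calc w'' * (x * x₂) * w''⁻¹ * (x * x₂)⁻¹ = (w'' * x) * x₂ * w''⁻¹ * (x * x₂)⁻¹ := by group
      _ = x * (w' * (x₀ * x₂ * x₀⁻¹)) * w'⁻¹ * x₂⁻¹ * x⁻¹ := by rw [← c1, e1]; group
      _ = _ := by rw [← c2]; group
  obtain ⟨m1, m2⟩ := h.com w'' (b2 w''B) w₁ hw₁
  have m3 := h.φ1 _ (mul_mem (mul_mem xQ.1 h2.1) (inv_mem xQ.1)) _
    (mul_mem (mul_mem xQ.1 h5) (inv_mem xQ.1)) (e ▸ m1)
  rw [← e, m2] at m3
  rcases mul_eq_zero.1 m3 with h6 | h6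
  · exact (h.s_zero _ hw₁).1 h6
  · exact absurd ((h.c_zero _ (b2 w''B)).1 h6) nQ

/-- The partner is unique. -/
theorem pu (h : J0 F B Q l f s c ψ μ) (b1 : omegaZ 2 Q ≤ B₁) (b2 : B₁ ≤ B)
    (b3 : ∀ t, ∃ x ∈ B₁, c x = t) {g g' : Γ} (hg : g ∈ 𝒩[B₁]) (hg' : g' ∈ 𝒩[B₁])
    (hn : ¬ conjS g (omegaZ 2 Q) ≤ Q) (hn' : ¬ conjS g' (omegaZ 2 Q) ≤ Q) :
    conjS g (Q ⊓ B₁) = conjS g' (Q ⊓ B₁) :=
  le_antisymm (h.pu_le b1 b2 b3 hg' hg hn' hn) (h.pu_le b1 b2 b3 hg hg' hn hn')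

theorem μ_ne (h : J0 F B Q l f s c ψ μ) (hq : 2 < Fintype.card F) : (μ : F) ≠ 1 := fun e => by
  have e1 : μ = 1 := Units.ext e
  have : Subsingleton Fˣ := ⟨fun a b => by
    have ha := h.gen a
    have hb := h.gen b
    rw [e1, zpowers_one_eq_bot, mem_bot] at ha hb
    rw [ha, hb]⟩
  classical
  have h1 := Fintype.card_le_one_iff_subsingleton.2 this
  rw [Fintype.card_units] at h1
  omega

/-- Commutators with an element of `Q ∩ Q'` have coordinate zero. -/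
theorem ψ_mid (h : J0 F B Q l f s c ψ μ) (b1 : omegaZ 2 Q ≤ B₁) (b2 : B₁ ≤ B)
    (b3 : ∀ t, ∃ x ∈ B₁, c x = t) {g : Γ} (hg : g ∈ 𝒩[B₁]) (hn : ¬ conjS g (omegaZ 2 Q) ≤ Q)
    {b y : Γ} (hb : b ∈ B₁) (hy : y ∈ Q ⊓ B₁) (hy' : y ∈ conjS g (Q ⊓ B₁))
    (hE : ⁅b, y⁆ ∈ omegaZ 2 B) : ψ ⁅b, y⁆ = 0 := by
  obtain ⟨w, hw, w', hw', x, ⟨hx, hx'⟩, rfl⟩ := h.side b1 b2 b3 hg hn b hb
  have c1 := comm_W hw (mul_mem (mul_mem hx.1 hy.1) (inv_mem hx.1))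
  have c2 := comm_conj inf_le_left hw' (mul_mem (mul_mem hx' hy') (inv_mem hx'))
  have e : ⁅w * w' * x, y⁆ = ⁅x, y⁆ := by
    rw [commutatorElement_def, commutatorElement_def]
    calc w * w' * x * y * (w * w' * x)⁻¹ * y⁻¹
        = w * (w' * (x * y * x⁻¹)) * w'⁻¹ * w⁻¹ * y⁻¹ := by group
      _ = (w * (x * y * x⁻¹)) * w⁻¹ * y⁻¹ := by rw [← c2]; group
      _ = _ := by rw [← c1]; group
  rw [e] at hE ⊢
  exact h.φ1 x hx.1 y hy.1 hE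

/-- An element centralizing `l` permutes `Q ∩ B₁` and its partner. -/
theorem tri (h : J0 F B Q l f s c ψ μ) (hq : 2 < Fintype.card F) (b1 : omegaZ 2 Q ≤ B₁) (b2 : B₁ ≤ B)
    (b3 : ∀ t, ∃ x ∈ B₁, c x = t) (b4 : f ∈ 𝒩[B₁]) {g g' : Γ} (hg : g ∈ 𝒩[B₁]) (hg' : g' ∈ 𝒩[B₁])
    (hE : g' ∈ 𝒩[omegaZ 2 B]) (hn : ¬ conjS g (omegaZ 2 Q) ≤ Q) (hl : g' ∈ 𝒞[l]) :
    conjS g' (Q ⊓ B₁) = Q ⊓ B₁ ∨ conjS g' (Q ⊓ B₁) = conjS g (Q ⊓ B₁) := by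
  by_cases k1 : conjS g' (omegaZ 2 Q) ≤ Q
  swap
  · exact Or.inr (h.pu b1 b2 b3 hg' hg k1 hn)
  by_cases k2 : conjS (g⁻¹ * g') (omegaZ 2 Q) ≤ Q
  swap
  · have := h.pu b1 b2 b3 (mul_mem (inv_mem hg) hg') (inv_mem hg) k2 (h.symm b1 b2 hg hn)
    rw [conjS_mul] at this
    exact Or.inl (conjS_injective _ this)
  exfalso
  have key : ∀ b ∈ B₁, ∀ w ∈ omegaZ 2 Q, g' * ⁅b, w⁆ * g'⁻¹ ∈ omegaZ 2 B ∧
      ψ (g' * ⁅b, w⁆ * g'⁻¹) = 0 := fun b hb w hw => by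
    have m1 := LAE.conj_mem_of_mem_normalizer hE (h.com b (b2 hb) w hw).1
    refine ⟨m1, ?_⟩
    rw [conjugate_commutatorElement] at m1 ⊢
    have m2 : g' * w * g'⁻¹ ∈ conjS g' (omegaZ 2 Q) := conj_mem_conjS.2 hw
    have m3 : g⁻¹ * g' * w * (g⁻¹ * g')⁻¹ ∈ conjS (g⁻¹ * g') (omegaZ 2 Q) := conj_mem_conjS.2 hw
    refine h.ψ_mid b1 b2 b3 hg hn (LAE.conj_mem_of_mem_normalizer hg' hb) ⟨k1 m2, conj_le b1 hg' m2⟩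
      (mem_conjS.2 ?_) m1
    have e : g⁻¹ * (g' * w * g'⁻¹) * g = g⁻¹ * g' * w * (g⁻¹ * g')⁻¹ := by group
    rw [e]
    exact ⟨k2 m3, conj_le b1 (mul_mem (inv_mem hg) hg') m3⟩
  obtain ⟨w, hw, sw, -⟩ := h.exists_s
  obtain ⟨b, hb, cb⟩ := b3 1
  obtain ⟨m1, m2⟩ := h.com b (b2 hb) w hw
  rw [sw, cb, mul_one] at m2
  have v1 := h.fl _ m1
  have fE : f * ⁅b, w⁆ * f⁻¹ ∈ omegaZ 2 B :=
    LAE.conj_mem_of_mem_normalizer (normalizer_le_normalizer_omegaZ B h.fB) m1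
  have v2 : ψ ⁅f, ⁅b, w⁆⁆ = μ + 1 := by
    rw [commutatorElement_def f, h.ψ_add _ fE _ (inv_mem m1), h.fψ _ m1, h.ψ_inv m1, m2, mul_one]
  have fw : f * w * f⁻¹ ∈ omegaZ 2 Q :=
    LAE.conj_mem_of_mem_normalizer (normalizer_le_normalizer_omegaZ Q h.fQ) hw
  obtain ⟨n1, n2⟩ := key _ (LAE.conj_mem_of_mem_normalizer b4 hb) _ fw
  obtain ⟨n3, n4⟩ := key b hb w hw
  have v3 : ⁅f, ⁅b, w⁆⁆ = g' * ⁅f * b * f⁻¹, f * w * f⁻¹⁆ * g'⁻¹ * (g' * ⁅b, w⁆ * g'⁻¹)⁻¹ := by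
    have c1 : ⁅f, ⁅b, w⁆⁆ * g' = g' * ⁅f, ⁅b, w⁆⁆ := hl _ v1
    rw [← conjugate_commutatorElement]
    calc ⁅f, ⁅b, w⁆⁆ = (⁅f, ⁅b, w⁆⁆ * g') * g'⁻¹ := by group
      _ = _ := by rw [c1, commutatorElement_def f]; group
  rw [v3, h.ψ_add _ n1 _ (inv_mem n3), h.ψ_inv n3, n2, n4, add_zero] at v2
  exact h.μ_ne hq (CharTwo.add_eq_zero.1 v2.symm)

end J0

end CfsgLib.CNil
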