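import Mathlib
import Cfsg.Agent.Lib.CNil.JJd

/-! Coordinates for the large field case: elements centralizing `l` act as scalars. -/

set_option autoImplicit false
set_option linter.unusedSectionVars false

namespace CfsgLib.CNil

open Subgroup Cfsg CfsgLib.LAE CfsgLib.Push CfsgLib.Blocks CfsgLib.ZJ CfsgLib.OFP CfsgLib.Cop
open scoped commutatorElement

theorem fld_scalar {F : Type} [Field F] [Fintype F] [CharP F 2] {α β h : F → F} {x : F} (x0 : x ≠ 0) (x1 : x ≠ 1)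
    (hα : ∀ s, α s = 0 → s = 0) (hβ : ∀ c, β c = 0 → c = 0)
    (e : ∀ s c, α s * β c = s * c + h (s ^ 2 * c)) :
    ∃ κ : F, κ ≠ 0 ∧ (∀ s, α s = κ * s) ∧ ∀ c, κ * β c = c := by
  have two : (2 : F) = 0 := CharTwo.two_eq_zero
  have a0 : α 1 ≠ 0 := fun k => one_ne_zero (hα 1 k)
  have hh : ∀ c, h c = α 1 * β c + c := fun c => by
    have := e 1 c
    rw [one_pow, one_mul] at this
    linear_combination (-1 : F) * this - c * two
  have e' : ∀ s c, α s * β c = s * c + α 1 * β (s ^ 2 * c) + s ^ 2 * c := fun s c => by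
    rw [e, hh]; ring
  have k1 : ∀ s, α s = α 1 * s := by
    by_contra! hn
    obtain ⟨s₁, hs⟩ := hn
    have k : ∀ c, β c * (α s₁ * α x - α 1 * α (s₁ * x)) = c * ((α s₁ - α 1 * s₁) * (x ^ 2 + x)) := fun c => by
      have a1 := e' s₁ (x ^ 2 * c)
      have a2 := e' x c
      have a3 := e' (s₁ * x) c
      rw [show (s₁ * x) ^ 2 * c = s₁ ^ 2 * (x ^ 2 * c) by ring] at a3
      linear_combination α s₁ * a2 - α 1 * a3 + α 1 * a1 + (α 1 * s₁ * x ^ 2 * c) * two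
    have d0 : (α s₁ - α 1 * s₁) * (x ^ 2 + x) ≠ 0 := by
      refine mul_ne_zero (sub_ne_zero.2 hs) ?_
      rw [show x ^ 2 + x = x * (x - 1) by linear_combination x * two]
      exact mul_ne_zero x0 (sub_ne_zero.2 x1)
    have n0 : α s₁ * α x - α 1 * α (s₁ * x) ≠ 0 := fun z => d0 (by simpa [z] using (k 1).symm)
    obtain ⟨m, hm⟩ : ∃ m, ∀ c, β c = m * c := ⟨_, fun c => by
      rw [eq_div_of_mul_eq n0 (k c), mul_div_assoc, mul_comm]⟩
    have m0 : m ≠ 0 := fun z => one_ne_zero (hβ 1 (by rw [hm, z, zero_mul]))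
    have k2 : ∀ s, α s * m = s + (α 1 * m + 1) * s ^ 2 := fun s => by
      have := e' s 1
      rw [hm, hm] at this
      linear_combination this
    by_cases z : α 1 * m + 1 = 0
    · refine hs (mul_right_cancel₀ m0 ?_)
      rw [k2, z]
      linear_combination (-s₁) * z + s₁ * two
    · have := k2 (α 1 * m + 1)⁻¹
      rw [show (α 1 * m + 1)⁻¹ + (α 1 * m + 1) * (α 1 * m + 1)⁻¹ ^ 2 = 2 * (α 1 * m + 1)⁻¹ by
        field_simp; ring, two, zero_mul] at this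
      exact inv_ne_zero z (hα _ ((mul_eq_zero.1 this).resolve_right m0))
  have k3 : ∀ s, α 1 * β (s ^ 2) + s ^ 2 = s * (α 1 * β 1 + 1) := fun s => by
    have := e' s 1
    rw [k1 s, mul_one, mul_one] at this
    linear_combination (-1 : F) * this - s * two
  have k4 : α 1 * β 1 + 1 = 0 := by
    have := k3 (α 1 * β 1 + 1)
    have z : β ((α 1 * β 1 + 1) ^ 2) = 0 :=
      (mul_eq_zero.1 (by linear_combination this : α 1 * _ = 0)).resolve_left a0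
    exact pow_eq_zero_iff two_ne_zero |>.1 (hβ _ z)
  refine ⟨α 1, a0, k1, fun c => ?_⟩
  obtain ⟨r, rfl⟩ := FiniteField.isSquare_of_char_two (ringChar.eq F 2) c
  have := k3 r
  rw [k4, mul_zero, sq] at this
  linear_combination this - r * r * two

variable {Γ : Type*} [Group Γ] [Finite Γ] {F : Type} [Field F] [Fintype F] [CharP F 2]
  {G B Q l N Z : Subgroup Γ} {f g x b b' w w' : Γ} {s c ψ : Γ → F} {μ : Fˣ}

/-- An element of odd order that centralizes `Z / N` and `x` modulo `Z` centralizes `x` modulo `N`. -/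
theorem comm_mem_of_odd (go : Odd (orderOf g)) (hN : g ∈ 𝒩[N]) (hZ : ∀ z ∈ Z, ⁅g, z⁆ ∈ N)
    (pZ : IsPGroup 2 Z) (hx : ⁅g, x⁆ ∈ Z) : ⁅g, x⁆ ∈ N := by
  have k : ∀ n : ℕ, g ^ n * x * (g ^ n)⁻¹ * x⁻¹ * (⁅g, x⁆ ^ n)⁻¹ ∈ N := fun n => by
    induction n with
    | zero => simp
    | succ n ih =>
      have := mul_mem (LAE.conj_mem_of_mem_normalizer hN ih) (hZ _ (pow_mem hx n))
      convert this using 1
      rw [pow_succ' g, pow_succ ⁅g, x⁆]
      generalize hy : ⁅g, x⁆ ^ n = y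
      simp only [commutatorElement_def]
      group
  have h1 := inv_mem (k (orderOf g))
  rw [pow_orderOf_eq_one, one_mul, inv_one, mul_one, mul_inv_cancel, one_mul, inv_inv] at h1
  obtain ⟨n, hn⟩ := two_of_mem pZ hx
  exact mem_of_pow_mem_of_coprime (Nat.Coprime.coprime_dvd_left (orderOf_dvd_of_pow_eq_one hn)
    (Nat.Coprime.pow_left n go.coprime_two_left)) h1

theorem oz_sq (hx : x ∈ omegaZ 2 Z) : x * x = 1 := by rw [← sq]; exact (mem_omegaZ.1 hx).2.2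

theorem oz_inv (hx : x ∈ omegaZ 2 Z) : x⁻¹ = x := inv_eq_of_mul_eq_one_right (oz_sq hx)

theorem oz_comm (hx : x ∈ omegaZ 2 Z) (hb : b ∈ Z) : b * x = x * b := (mem_omegaZ.1 hx).2.1 b hb

theorem oz_conj (hg : g ∈ 𝒩[Z]) (hx : x ∈ omegaZ 2 Z) : g * x * g⁻¹ ∈ omegaZ 2 Z :=
  LAE.conj_mem_of_mem_normalizer (normalizer_le_normalizer_omegaZ Z hg) hx

theorem conj_comm (g b w : Γ) : ⁅g * b * g⁻¹, g * w * g⁻¹⁆ = g * ⁅b, w⁆ * g⁻¹ := by
  simp only [commutatorElement_def]; group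

namespace J0

variable (h : J0 F B Q l f s c ψ μ)
include h

theorem WB : omegaZ 2 Q ≤ B := (omegaZ_le Q).trans h.QB

theorem csurj (t : F) : ∃ x ∈ B, c x = t :=
  let ⟨x, hx, e⟩ := h.c_surj t
  ⟨x, PLocal.thompsonSubgroupOf_le B hx, e⟩

theorem s_eq (hw : w ∈ omegaZ 2 Q) (hw' : w' ∈ omegaZ 2 Q) (e : s w = s w') : w * w' ∈ omegaZ 2 B :=
  (h.s_zero _ (mul_mem hw hw')).1 (by rw [h.s_add w hw w' hw', e, CharTwo.add_self_eq_zero])

theorem c_eq' (hb : b ∈ B) (hb' : b' ∈ B) (e : c b = c b') : b'⁻¹ * b ∈ Q :=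
  (h.c_zero _ (mul_mem (inv_mem hb') hb)).1 (by
    rw [h.c_add _ (inv_mem hb') _ hb, h.c_inv hb', e, CharTwo.add_self_eq_zero])

/-- The commutator depends on the coordinates only. -/
theorem com_eq (hb : b ∈ B) (hb' : b' ∈ B) (hw : w ∈ omegaZ 2 Q) (hw' : w' ∈ omegaZ 2 Q)
    (e1 : c b = c b') (e2 : s w = s w') : ⁅b, w⁆ = ⁅b', w'⁆ := by
  have a1 := oz_comm hw (h.c_eq' hb hb' e1)
  have a2 := oz_comm (h.s_eq hw hw' e2) hb'
  have a3 := oz_comm hw (omegaZ_le Q hw')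
  calc ⁅b, w⁆ = b' * (b'⁻¹ * b * w) * b⁻¹ * w⁻¹ := by rw [commutatorElement_def]; group
    _ = b' * (w * w') * w'⁻¹ * b'⁻¹ * w⁻¹ := by rw [a1]; group
    _ = w * w' * (b' * w'⁻¹ * b'⁻¹) * w⁻¹ := by rw [a2]; group
    _ = (w * w') * (b' * w' * b'⁻¹) * w⁻¹ := by rw [oz_inv hw']
    _ = (b' * w' * b'⁻¹) * (w * w') * w⁻¹ := by
      rw [oz_comm (h.s_eq hw hw' e2) (LAE.conj_mem_of_mem_normalizer (le_normalizer hb') (h.WB hw'))]
    _ = _ := by rw [← a3, commutatorElement_def, oz_inv hw']; group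

theorem com_mul (hb : b ∈ B) (hb' : b' ∈ B) (hw : w ∈ omegaZ 2 Q) :
    ⁅b * b', w⁆ = ⁅b', w⁆ * ⁅b, w⁆ := by
  calc ⁅b * b', w⁆ = b * ⁅b', w⁆ * b⁻¹ * ⁅b, w⁆ := by simp only [commutatorElement_def]; group
    _ = _ := by rw [oz_comm (h.com b' hb' w hw).1 hb, mul_inv_cancel_right]

theorem com_one (hb : b ∈ B) (hw : w ∈ omegaZ 2 Q) (e : s w * c b = 0) : ⁅b, w⁆ = 1 := by
  rw [commutatorElement_eq_one_iff_mul_comm]
  rcases mul_eq_zero.1 e with e | e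
  · exact oz_comm ((h.s_zero w hw).1 e) hb
  · exact oz_comm hw ((h.c_zero b hb).1 e)

theorem fl' : f ∈ 𝒩[l] := mem_normalizer_fintype fun x hx => by
  have := mul_mem (h.fl x (h.lE hx)) hx
  rwa [commutatorElement_def, inv_mul_cancel_right] at this

theorem l_eq {x y : Γ} (hx : x ∈ l) (hy : y ∈ l) (e : ψ x = ψ y) : x = y := by
  have := h.linj _ (mul_mem hx hy) (by rw [h.ψ_add x (h.lE hx) y (h.lE hy), e, CharTwo.add_self_eq_zero])
  rw [eq_inv_of_mul_eq_one_left this, oz_inv (h.lE hy)]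

theorem tor (ν : Fˣ) : ∃ g ∈ 𝒩[B], g ∈ 𝒩[Q] ∧ (∀ w ∈ omegaZ 2 Q, (ν : F) * s (g * w * g⁻¹) = s w) ∧
    (∀ b ∈ B, c (g * b * g⁻¹) = (ν : F) ^ 2 * c b) ∧ ∀ e ∈ omegaZ 2 B, ⁅g, e⁆ ∈ l := by
  obtain ⟨n, rfl⟩ := (mem_powers_iff_mem_zpowers.2 (h.gen ν) : ν ∈ Submonoid.powers μ)
  refine ⟨f ^ n, pow_mem h.fB n, pow_mem h.fQ n, ?_⟩
  beta_reduce
  induction n with
  | zero => simp
  | succ n ih =>
    have e : ∀ x, f ^ (n + 1) * x * (f ^ (n + 1))⁻¹ = f * (f ^ n * x * (f ^ n)⁻¹) * f⁻¹ := fun x => by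
      rw [pow_succ']; group
    refine ⟨fun w hw => ?_, fun b hb => ?_, fun x hx => ?_⟩
    · rw [e, pow_succ, Units.val_mul, mul_assoc, h.fs _ (oz_conj (pow_mem h.fQ n) hw), ih.1 w hw]
    · rw [e, h.fc _ (LAE.conj_mem_of_mem_normalizer (pow_mem h.fB n) hb), ih.2.1 b hb]
      simp only [pow_succ, Units.val_mul]; ring
    · have := mul_mem (h.fl _ (oz_conj (pow_mem h.fB n) hx)) (ih.2.2 x hx)
      convert this using 1
      simp only [commutatorElement_def, e]; group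

/-- Modulo `l` the commutator depends on `s² c` only. -/
theorem cong (hb : b ∈ B) (hb' : b' ∈ B) (hw : w ∈ omegaZ 2 Q) (hw' : w' ∈ omegaZ 2 Q)
    (e : s w ^ 2 * c b = s w' ^ 2 * c b') : ⁅b', w'⁆ * ⁅b, w⁆⁻¹ ∈ l := by
  by_cases z : s w * c b = 0
  · have z' : s w' * c b' = 0 := by
      have : s w' * (s w' * c b') = 0 := by linear_combination s w * z - e
      rcases mul_eq_zero.1 this with k | k
      · rw [k, zero_mul]
      · exact k
    rw [h.com_one hb hw z, h.com_one hb' hw' z', mul_inv_cancel]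
    exact one_mem _
  have s0 : s w ≠ 0 := left_ne_zero_of_mul z
  have s1 : s w' ≠ 0 := fun k => z (mul_left_cancel₀ s0 (by rw [k] at e; linear_combination e))
  obtain ⟨g, g1, g2, g3, g4, g5⟩ := h.tor (Units.mk0 _ (div_ne_zero s0 s1))
  rw [Units.val_mk0] at g3 g4
  have := g5 _ (h.com b hb w hw).1
  rwa [commutatorElement_def, ← conj_comm, h.com_eq (LAE.conj_mem_of_mem_normalizer g1 hb) hb'
    (oz_conj g2 hw) hw' (by rw [g4 b hb]; field_simp; exact e)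
    (by have := g3 w hw; field_simp at this; exact this)] at this

theorem s_conj_eq (hg : g ∈ 𝒩[B]) (hg' : g ∈ 𝒩[Q]) (hw : w ∈ omegaZ 2 Q) (hw' : w' ∈ omegaZ 2 Q)
    (e : s w = s w') : s (g * w * g⁻¹) = s (g * w' * g⁻¹) := by
  have := (h.s_zero _ (oz_conj hg' (mul_mem hw hw'))).2 (oz_conj hg (h.s_eq hw hw' e))
  rw [← conj_mul, h.s_add _ (oz_conj hg' hw) _ (oz_conj hg' hw')] at this
  linear_combination this - s (g * w' * g⁻¹) * (CharTwo.two_eq_zero : (2 : F) = 0)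

theorem c_conj_eq (hg : g ∈ 𝒩[B]) (hg' : g ∈ 𝒩[Q]) (hb : b ∈ B) (hb' : b' ∈ B)
    (e : c b = c b') : c (g * b * g⁻¹) = c (g * b' * g⁻¹) := by
  have a := fun {x} (hx : x ∈ B) => LAE.conj_mem_of_mem_normalizer hg hx
  have := (h.c_zero _ (a (mul_mem (inv_mem hb') hb))).2
    (LAE.conj_mem_of_mem_normalizer hg' (h.c_eq' hb hb' e))
  rw [← conj_mul, h.c_add _ (a (inv_mem hb')) _ (a hb), ← conj_inv, h.c_inv (a hb')] at this
  linear_combination this - c (g * b' * g⁻¹) * (CharTwo.two_eq_zero : (2 : F) = 0)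

/-- Elements centralizing `l` act as scalars. -/
theorem scal (hq : 2 < Fintype.card F) (hg : g ∈ 𝒩[B]) (hg' : g ∈ 𝒩[Q]) (hl : g ∈ 𝒞[l]) :
    ∃ κ : F, κ ≠ 0 ∧ (∀ w ∈ omegaZ 2 Q, s (g * w * g⁻¹) = κ * s w) ∧
      ∀ b ∈ B, κ * c (g * b * g⁻¹) = c b := by
  choose σ σ1 σ2 using h.s_surj
  choose τ τ1 τ2 using h.csurj
  have two : (2 : F) = 0 := CharTwo.two_eq_zero
  obtain ⟨κ, k0, k1, k2⟩ := fld_scalar (α := fun t => s (g * σ t * g⁻¹)) (β := fun t => c (g * τ t * g⁻¹))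
    (h := fun t => ψ (g * ⁅τ t, σ 1⁆ * g⁻¹) + ψ ⁅τ t, σ 1⁆) μ.ne_zero (h.μ_ne hq)
    (fun t e => by
      have := oz_conj (inv_mem hg) ((h.s_zero _ (oz_conj hg' (σ1 t))).1 e)
      rw [← σ2 t, h.s_zero _ (σ1 t)]
      simpa [mul_assoc] using this)
    (fun t e => by
      have := LAE.conj_mem_of_mem_normalizer (inv_mem hg')
        ((h.c_zero _ (LAE.conj_mem_of_mem_normalizer hg (τ1 t))).1 e)
      rw [← τ2 t, h.c_zero _ (τ1 t)]
      simpa [mul_assoc] using this)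
    (fun x y => by
      have a1 := (h.com _ (LAE.conj_mem_of_mem_normalizer hg (τ1 y)) _ (oz_conj hg' (σ1 x))).2
      obtain ⟨a2, a3⟩ := h.com _ (τ1 y) _ (σ1 x)
      have a4 := h.cong (τ1 y) (τ1 (x ^ 2 * y)) (σ1 x) (σ1 1) (by simp only [σ2, τ2]; ring)
      rw [conj_comm] at a1
      rw [σ2, τ2] at a3
      generalize ⁅τ y, σ x⁆ = e at a1 a2 a3 a4
      obtain ⟨d, hd, e1⟩ : ∃ d ∈ l, ⁅τ (x ^ 2 * y), σ 1⁆ = d * e := ⟨_, a4, by group⟩
      have a5 : g * (d * e) * g⁻¹ = d * (g * e * g⁻¹) := by rw [← mul_assoc g, ← hl d hd]; group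
      simp only [e1, a5, ← a1]
      rw [h.ψ_add _ (h.lE hd) _ (oz_conj hg a2), h.ψ_add _ (h.lE hd) _ a2, a3]
      linear_combination (-(ψ d) - x * y) * two)
  refine ⟨κ, k0, fun w hw => ?_, fun b hb => ?_⟩
  · rw [← k1, h.s_conj_eq hg hg' hw (σ1 _) (σ2 _).symm]
  · rw [h.c_conj_eq hg hg' hb (τ1 _) (τ2 _).symm, k2]

end J0

end CfsgLib.CNil
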