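import Mathlib
import Cfsg.Agent.Lib.CNil.JJd

/-! The large field case: an element of odd order acting on `B / (Q ∩ Q')` by a nontrivial scalar. -/

set_option autoImplicit false
set_option linter.unusedSectionVars false

namespace CfsgLib.CNil

open Subgroup Cfsg CfsgLib.LAE CfsgLib.Push CfsgLib.Blocks CfsgLib.ZJ CfsgLib.OFP CfsgLib.Cop
open scoped commutatorElement

variable {Γ : Type*} [Group Γ] [Finite Γ] {F : Type} [Field F] [Fintype F] [CharP F 2]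
  {G B Q l H X : Subgroup Γ} {f : Γ} {s c ψ : Γ → F} {μ : Fˣ}

theorem jf1_congr (add : ∀ x ∈ X, ∀ y ∈ X, c (x * y) = c x + c y) {g : Γ} (gX : g ∈ 𝒩[X])
    (ker : ∀ x ∈ X, c x = 0 → c (g * x * g⁻¹) = 0) {x y : Γ} (hx : x ∈ X) (hy : y ∈ X) (e : c x = c y) :
    c (g * x * g⁻¹) = c (g * y * g⁻¹) := by
  have h1 : c (x * y⁻¹) = 0 := by
    have := add _ (mul_mem hx (inv_mem hy)) _ hy
    rw [inv_mul_cancel_right, e] at this
    simpa using this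
  have h2 := add _ (LAE.conj_mem_of_mem_normalizer gX (mul_mem hx (inv_mem hy))) _
    (LAE.conj_mem_of_mem_normalizer gX hy)
  rw [ker _ (mul_mem hx (inv_mem hy)) h1, zero_add] at h2
  rw [← h2]
  congr 1
  group

/-- A group acting on the coordinate by involutions and normalized by the torus acts trivially. -/
theorem jf1_triv (add : ∀ x ∈ X, ∀ y ∈ X, c (x * y) = c x + c y) (surj : ∀ t, ∃ x ∈ X, c x = t)
    (HX : H ≤ 𝒩[X]) (ker : ∀ g ∈ H, ∀ x ∈ X, c x = 0 → c (g * x * g⁻¹) = 0)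
    (sq : ∀ g ∈ H, ∀ x ∈ X, c (g * (g * x * g⁻¹) * g⁻¹) = c x) (fH : f ∈ 𝒩[H]) (fX : f ∈ 𝒩[X]) {ν : F}
    (act : ∀ x ∈ X, c (f * x * f⁻¹) = ν * c x) (gen : ∀ t : F, t ≠ 0 → ∃ n : ℕ, ν ^ n = t) :
    ∀ g ∈ H, ∀ x ∈ X, c (g * x * g⁻¹) = c x := by
  classical
  have cj : ∀ g ∈ H, ∀ x ∈ X, g * x * g⁻¹ ∈ X := fun g hg x hx => LAE.conj_mem_of_mem_normalizer (HX hg) hx
  have cg : ∀ g ∈ H, ∀ x ∈ X, ∀ y ∈ X, c x = c y → c (g * x * g⁻¹) = c (g * y * g⁻¹) :=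
    fun g hg x hx y hy e => jf1_congr add (HX hg) (ker g hg) hx hy e
  have com : ∀ g ∈ H, ∀ k ∈ H, ∀ x ∈ X,
      c (g * (k * x * k⁻¹) * g⁻¹) = c (k * (g * x * g⁻¹) * k⁻¹) := by
    intro g hg k hk x hx
    have y1 := cj k hk _ (cj g hg x hx)
    have a1 := sq (g * k) (mul_mem hg hk) _ y1
    have a2 : c (k * (k * (g * x * g⁻¹) * k⁻¹) * k⁻¹) = c (g * x * g⁻¹) := sq k hk _ (cj g hg x hx)
    have a3 := cg g hg _ (cj k hk _ y1) _ (cj g hg x hx) a2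
    rw [sq g hg x hx] at a3
    have a4 := cg (g * k) (mul_mem hg hk) _ (cj g hg _ (cj k hk _ y1)) _ hx a3
    rw [← a1]
    convert a4.symm using 2 <;> group
  have fix : ∀ T : Finset Γ, (∀ g ∈ T, g ∈ H) → ∃ x ∈ X, c x ≠ 0 ∧ ∀ g ∈ T, c (g * x * g⁻¹) = c x := by
    intro T
    induction T using Finset.induction_on with
    | empty =>
      intro _
      obtain ⟨x, hx, e⟩ := surj 1
      exact ⟨x, hx, by rw [e]; exact one_ne_zero, by simp⟩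
    | insert k T _ ih =>
      intro hT
      have hk : k ∈ H := hT k (Finset.mem_insert_self _ _)
      obtain ⟨x, hx, x0, e⟩ := ih fun g hg => hT g (Finset.mem_insert_of_mem hg)
      by_cases h : c (k * x * k⁻¹) = c x
      · refine ⟨x, hx, x0, fun g hg => ?_⟩
        rcases Finset.mem_insert.1 hg with rfl | hg
        exacts [h, e g hg]
      have kx := cj k hk x hx
      refine ⟨x * (k * x * k⁻¹), mul_mem hx kx, ?_, fun g hg => ?_⟩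
      · rw [add _ hx _ kx]
        exact fun h0 => h (by rw [CharTwo.add_eq_zero] at h0; exact h0.symm)
      have hg' : g ∈ H := hT g hg
      rw [show g * (x * (k * x * k⁻¹)) * g⁻¹ = g * x * g⁻¹ * (g * (k * x * k⁻¹) * g⁻¹) by group,
        add _ (cj g hg' x hx) _ (cj g hg' _ kx), add _ hx _ kx]
      rcases Finset.mem_insert.1 hg with rfl | hg
      · rw [sq g hg' x hx, add_comm]
      · rw [com g hg' k hk x hx, e g hg, cg k hk _ (cj g hg' x hx) _ hx (e g hg)]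
  obtain ⟨x₀, hx₀, x0, e⟩ := fix (Set.toFinite (H : Set Γ)).toFinset fun g hg => by simpa using hg
  have sp : ∀ n : ℕ, ∃ y ∈ X, c y = ν ^ n * c x₀ ∧ ∀ g ∈ H, c (g * y * g⁻¹) = c y := by
    intro n
    induction n with
    | zero => exact ⟨x₀, hx₀, by simp, fun g hg => e g (by simpa using hg)⟩
    | succ n ih =>
      obtain ⟨y, hy, e1, e2⟩ := ih
      refine ⟨f * y * f⁻¹, LAE.conj_mem_of_mem_normalizer fX hy, by rw [act y hy, e1]; ring, fun g hg => ?_⟩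
      have hg' : f⁻¹ * g * f ∈ H := LAE.conj_inv_mem_of_mem_normalizer fH hg
      rw [show g * (f * y * f⁻¹) * g⁻¹ = f * (f⁻¹ * g * f * y * (f⁻¹ * g * f)⁻¹) * f⁻¹ by group,
        act _ (cj _ hg' y hy), e2 _ hg', act y hy]
  intro g hg x hx
  by_cases h0 : c x = 0
  · rw [ker g hg x hx h0, h0]
  obtain ⟨n, hn⟩ := gen (c x / c x₀) (div_ne_zero h0 x0)
  obtain ⟨y, hy, e1, e2⟩ := sp n
  rw [hn, div_mul_cancel₀ _ x0] at e1
  rw [cg g hg x hx y hy e1.symm, e2 g hg, e1]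

theorem jf1_gen (gen : ∀ ν : Fˣ, ν ∈ zpowers μ) (t : F) (ht : t ≠ 0) : ∃ n : ℕ, (μ : F) ^ n = t := by
  obtain ⟨n, hn⟩ := mem_powers_iff_mem_zpowers.2 (gen (Units.mk0 t ht))
  exact ⟨n, by simpa using congrArg Units.val hn⟩

theorem jf1_gen2 (gen : ∀ ν : Fˣ, ν ∈ zpowers μ) (t : F) (ht : t ≠ 0) : ∃ n : ℕ, ((μ : F) ^ 2) ^ n = t := by
  have : Fact (Nat.Prime 2) := ⟨Nat.prime_two⟩
  obtain ⟨u, hu⟩ := (bijective_frobenius F 2).2 t
  rw [frobenius_def] at hu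
  obtain ⟨n, hn⟩ := jf1_gen gen u fun e => ht (by rw [← hu, e]; simp)
  exact ⟨n, by rw [← pow_mul, mul_comm, pow_mul, hn, hu]⟩

/-- `x ↦ x⁻²` is not additive. -/
theorem jf1_four (hq : 4 < Fintype.card F) : ∃ x : F, x ≠ 0 ∧ x + 1 ≠ 0 ∧ x ^ 2 + x + 1 ≠ 0 := by
  classical
  by_contra! hh
  have hp : (Polynomial.X ^ 4 - Polynomial.X : Polynomial F) ≠ 0 := by
    intro e
    have := congrArg Polynomial.natDegree e
    rw [FiniteField.X_pow_card_sub_X_natDegree_eq F (by norm_num : 1 < 4)] at this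
    simp at this
  have h1 : (Finset.univ : Finset F).val ⊆ (Polynomial.X ^ 4 - Polynomial.X : Polynomial F).roots := by
    intro x _
    rw [Polynomial.mem_roots hp, Polynomial.IsRoot.def]
    simp only [Polynomial.eval_sub, Polynomial.eval_pow, Polynomial.eval_X]
    have two : (2 : F) = 0 := CharTwo.two_eq_zero
    have : x ^ 4 - x = x * (x + 1) * (x ^ 2 + x + 1) := by linear_combination (-x ^ 3 - x ^ 2 - x) * two
    rw [this]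
    by_cases a : x = 0
    · simp [a]
    by_cases b : x + 1 = 0
    · simp [b]
    simp [hh x a b]
  have h2 := Polynomial.card_le_degree_of_subset_roots h1
  rw [FiniteField.X_pow_card_sub_X_natDegree_eq F (by norm_num : 1 < 4), Finset.card_univ] at h2
  omega

namespace J0

variable {a g : Γ}

theorem nW (g : Γ) (hg : g ∈ 𝒩[Q]) {w : Γ} (hw : w ∈ omegaZ 2 Q) : g * w * g⁻¹ ∈ omegaZ 2 Q :=
  LAE.conj_mem_of_mem_normalizer (normalizer_le_normalizer_omegaZ Q hg) hw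

theorem cB (h : J0 F B Q l f s c ψ μ) (t : F) : ∃ x ∈ B, c x = t := by
  obtain ⟨x, hx, e⟩ := h.c_surj t
  exact ⟨x, PLocal.thompsonSubgroupOf_le _ hx, e⟩

theorem WB1 (h : J0 F B Q l f s c ψ μ) : omegaZ 2 Q ≤ B := (omegaZ_le Q).trans h.QB

/-- `N(B) ∩ N(Q)` normalizes the partner. -/
theorem n_partner (h : J0 F B Q l f s c ψ μ) (aB : a ∈ 𝒩[B]) (hn : ¬ conjS a (omegaZ 2 Q) ≤ Q)
    (gB : g ∈ 𝒩[B]) (gQ : g ∈ 𝒩[Q]) : g ∈ 𝒩[conjS a Q] := by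
  have := h.pu h.WB1 le_rfl h.cB (mul_mem gB aB) aB (fun e => hn (by
    rw [conjS_mul, conjS_le_iff, mem_normalizer_iff_conjS.1 (inv_mem gQ)] at e
    exact e)) hn
  rw [inf_eq_left.2 h.QB, conjS_mul] at this
  exact mem_normalizer_iff_conjS.2 this

theorem inf_partner (h : J0 F B Q l f s c ψ μ) (aB : a ∈ 𝒩[B]) (hn : ¬ conjS a (omegaZ 2 Q) ≤ Q) {w : Γ}
    (hw : w ∈ omegaZ 2 Q) (hw' : w ∈ conjS a Q) : w ∈ omegaZ 2 B := by
  refine mem_omegaZ.2 ⟨h.WB1 hw, fun b hb => ?_, (mem_omegaZ.1 hw).2.2⟩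
  obtain ⟨u, hu, u', hu', x, hx, rfl⟩ := h.side h.WB1 le_rfl h.cB aB hn b hb
  have c1 : Commute u w := (mem_omegaZ.1 hw).2.1 u (omegaZ_le Q hu)
  have c2 : Commute x w := (mem_omegaZ.1 hw).2.1 x hx.1.1
  rw [conjS_omegaZ] at hu'
  have c3 : Commute w u' := (mem_omegaZ.1 hu').2.1 w hw'
  exact ((c1.mul_left c3.symm).mul_left c2).eq

theorem sq_E {e : Γ} (he : e ∈ omegaZ 2 B) : e * e = 1 := by
  simpa [sq] using (mem_omegaZ.1 he).2.2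

theorem f_l (h : J0 F B Q l f s c ψ μ) {x : Γ} (hx : x ∈ l) : f * x * f⁻¹ ∈ l := by
  have := mul_mem (h.fl x (h.lE hx)) hx
  rwa [commutatorElement_def, inv_mul_cancel_right] at this

theorem f_nl (h : J0 F B Q l f s c ψ μ) : f ∈ 𝒩[l] :=
  mem_normalizer_of_conjS_le (conjS_le_iff_forall.2 fun _ hx => h.f_l hx)

/-- `⁅f, Q ∩ Q'⁆ ≤ l`. -/
theorem f_Q0 (h : J0 F B Q l f s c ψ μ) (aB : a ∈ 𝒩[B]) (hn : ¬ conjS a (omegaZ 2 Q) ≤ Q) {x : Γ}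
    (hx : x ∈ Q ⊓ conjS a Q) : ⁅f, x⁆ ∈ l := by
  have hE : ⁅f, x⁆ ∈ omegaZ 2 B := h.inf_partner aB hn (h.fW x hx.1) (by
    rw [commutatorElement_def]
    exact mul_mem (LAE.conj_mem_of_mem_normalizer (h.n_partner aB hn h.fB h.fQ) hx.2) (inv_mem hx.2))
  have key : ∀ n : ℕ, ⁅f ^ n, x⁆ * (⁅f, x⁆ ^ n)⁻¹ ∈ l := by
    intro n
    induction n with
    | zero => simp
    | succ n ih =>
      have e : ⁅f ^ (n + 1), x⁆ * (⁅f, x⁆ ^ (n + 1))⁻¹ =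
          f * (⁅f ^ n, x⁆ * (⁅f, x⁆ ^ n)⁻¹) * f⁻¹ * ⁅f, ⁅f, x⁆ ^ n⁆ := by
        rw [pow_succ' f, pow_succ ⁅f, x⁆]
        generalize ⁅f, x⁆ ^ n = y
        simp only [commutatorElement_def]
        group
      rw [e]
      exact mul_mem (h.f_l ih) (h.fl _ (pow_mem hE n))
  have := key (orderOf f)
  obtain ⟨k, hk⟩ := h.fo
  rw [pow_orderOf_eq_one, commutatorElement_one_left, one_mul, hk, pow_succ, pow_mul, sq, sq_E hE, one_pow,
    one_mul] at this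
  simpa using inv_mem this

/-- Elements centralizing `E` act by scalars. -/
theorem scalar (h : J0 F B Q l f s c ψ μ) (gB : g ∈ 𝒩[B]) (gQ : g ∈ 𝒩[Q]) (gE : g ∈ 𝒞[omegaZ 2 B]) :
    ∃ κ : F, κ ≠ 0 ∧ (∀ w ∈ omegaZ 2 Q, s (g * w * g⁻¹) = κ * s w) ∧
      ∀ b ∈ B, κ * c (g * b * g⁻¹) = c b := by
  have k : ∀ b ∈ B, ∀ w ∈ omegaZ 2 Q, s (g * w * g⁻¹) * c (g * b * g⁻¹) = s w * c b := by
    intro b hb w hw
    obtain ⟨h1, h2⟩ := h.com b hb w hw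
    rw [← (h.com _ (LAE.conj_mem_of_mem_normalizer gB hb) _ (nW g gQ hw)).2, ← h2, ← conjugate_commutatorElement,
      ← gE _ h1, mul_inv_cancel_right]
  obtain ⟨w₁, hw₁, e₁⟩ := h.s_surj 1
  obtain ⟨b₁, hb₁, e₂⟩ := h.cB 1
  have k1 := k b₁ hb₁ w₁ hw₁
  rw [e₁, e₂, one_mul] at k1
  refine ⟨s (g * w₁ * g⁻¹), left_ne_zero_of_mul_eq_one k1, fun w hw => ?_, fun b hb => ?_⟩
  · have := k b₁ hb₁ w hw
    rw [e₂, mul_one] at this
    rw [← this]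
    linear_combination (-s (g * w * g⁻¹)) * k1
  · rw [k b hb w₁ hw₁, e₁, one_mul]

end J0

/-- The elements of `N_G(B) ∩ N(Q)` centralizing `l` and `Q₀ / l`. -/
def jfO (G B Q Q₀ l : Subgroup Γ) : Subgroup Γ where
  carrier := {g | g ∈ G ⊓ 𝒩[B] ⊓ 𝒩[Q] ⊓ 𝒞[l] ∧ ∀ x ∈ Q₀, ⁅g, x⁆ ∈ l}
  one_mem' := ⟨one_mem _, fun x _ => by simp⟩
  mul_mem' := fun {g k} hg hk => ⟨mul_mem hg.1 hk.1, fun x hx => by
    have : ⁅g * k, x⁆ = g * ⁅k, x⁆ * g⁻¹ * ⁅g, x⁆ := by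
      simp only [commutatorElement_def]; group
    rw [this, ← hg.1.2 _ (hk.2 x hx), mul_inv_cancel_right]
    exact mul_mem (hk.2 x hx) (hg.2 x hx)⟩
  inv_mem' := fun {g} hg => ⟨inv_mem hg.1, fun x hx => by
    have : ⁅g⁻¹, x⁆ = g⁻¹ * (⁅g, x⁆⁻¹ * g) := by
      simp only [commutatorElement_def]; group
    rw [this, hg.1.2 _ (inv_mem (hg.2 x hx)), inv_mul_cancel_left]
    exact inv_mem (hg.2 x hx)⟩

theorem JD.omega (h : JD F G B Q l f s c ψ μ) (hq : 4 < Fintype.card F) {a : Γ} (aG : a ∈ G)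
    (aB : a ∈ 𝒩[B]) (aa : a * a = 1) (al : a ∈ 𝒞[l]) (hn : ¬ conjS a (omegaZ 2 Q) ≤ Q) :
    ∃ ω ∈ G, ω ∈ 𝒩[B] ∧ ω ∈ 𝒩[Q] ∧ Odd (orderOf ω) ∧ ω ∈ 𝒞[(Q ⊓ conjS a Q : Subgroup Γ)] ∧
      ∃ κ : F, κ ≠ 0 ∧ κ ≠ 1 ∧ (∀ w ∈ omegaZ 2 Q, s (ω * w * ω⁻¹) = κ * s w) ∧
        ∀ b ∈ B, κ * c (ω * b * ω⁻¹) = c b := by
  have j := h.toJ0
  have ai : a⁻¹ = a := inv_eq_of_mul_eq_one_right aa
  have caa : ∀ K : Subgroup Γ, conjS a (conjS a K) = K := fun K => by rw [← conjS_mul, aa, conjS_one]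
  have EQ : omegaZ 2 B ≤ Q ⊓ conjS a Q := by
    refine le_inf (j.EW.trans (omegaZ_le Q)) ?_
    rw [← mem_normalizer_iff_conjS.1 (normalizer_le_normalizer_omegaZ B aB)]
    exact conjS_mono (j.EW.trans (omegaZ_le Q))
  by_contra hh
  have tr : ∀ g ∈ G, g ∈ 𝒩[B] → g ∈ 𝒩[Q] → g ∈ 𝒞[(Q ⊓ conjS a Q : Subgroup Γ)] →
      ∀ b ∈ B, c (g * b * g⁻¹) = c b := by
    intro g gG gB gQ gC
    obtain ⟨k, m, hm, e⟩ := Nat.exists_eq_two_pow_mul_odd (orderOf_pos g).ne'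
    have o : Odd (orderOf (g ^ 2 ^ k)) := by
      refine Odd.of_dvd_nat hm (orderOf_dvd_of_pow_eq_one ?_)
      rw [← pow_mul, ← e, pow_orderOf_eq_one]
    obtain ⟨κ, κ0, -, h2⟩ := j.scalar gB gQ (centralizer_anti EQ gC)
    obtain ⟨κ', κ0', h1', h2'⟩ := j.scalar (pow_mem gB (2 ^ k)) (pow_mem gQ (2 ^ k))
      (centralizer_anti EQ (pow_mem gC (2 ^ k)))
    have e1 : κ' = 1 := by
      by_contra e1
      exact hh ⟨_, pow_mem gG _, pow_mem gB _, pow_mem gQ _, o, pow_mem gC _, κ', κ0', e1, h1', h2'⟩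
    have pw : ∀ n : ℕ, ∀ b ∈ B, κ ^ n * c (g ^ n * b * (g ^ n)⁻¹) = c b := by
      intro n
      induction n with
      | zero => simp
      | succ n ih =>
        intro b hb
        rw [show g ^ (n + 1) * b * (g ^ (n + 1))⁻¹ = g * (g ^ n * b * (g ^ n)⁻¹) * g⁻¹ by rw [pow_succ']; group,
          pow_succ, mul_assoc, h2 _ (LAE.conj_mem_of_mem_normalizer (pow_mem gB n) hb), ih b hb]
    obtain ⟨b₁, hb₁, e₂⟩ := j.cB 1
    have e3 := pw (2 ^ k) b₁ hb₁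
    have e4 := h2' b₁ hb₁
    rw [e1, one_mul] at e4
    rw [e4, e₂, mul_one] at e3
    have e5 : κ = 1 := by
      have : Fact (Nat.Prime 2) := ⟨Nat.prime_two⟩
      have := sub_pow_char_pow κ 1 (p := 2) (n := k)
      rw [e3, one_pow, sub_self] at this
      exact sub_eq_zero.1 (pow_eq_zero_iff (by positivity) |>.1 this)
    intro b hb
    simpa [e5] using h2 b hb
  have fQ' : f ∈ 𝒩[conjS a Q] := j.n_partner aB hn j.fB j.fQ
  have fQ0 : f ∈ 𝒩[(Q ⊓ conjS a Q : Subgroup Γ)] := le_normalizer_inf inf_le_left inf_le_right ⟨j.fQ, fQ'⟩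
  have aQ0 : ∀ x ∈ Q ⊓ conjS a Q, a * x * a⁻¹ ∈ Q ⊓ conjS a Q := fun x hx =>
    ⟨by have := mem_conjS.1 hx.2; rwa [ai, ← ai, ai] at this ⊢, conj_mem_conjS.2 hx.1⟩
  have tv := jf1_triv (H := jfO G B Q (Q ⊓ conjS a Q) l) j.c_add j.cB (fun g hg => hg.1.1.1.2)
    (fun g hg x hx e => (j.c_zero _ (LAE.conj_mem_of_mem_normalizer hg.1.1.1.2 hx)).2
      (LAE.conj_mem_of_mem_normalizer hg.1.1.2 ((j.c_zero x hx).1 e)))
    (fun g hg x hx => by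
      have g2 := mul_mem hg hg
      rw [show g * (g * x * g⁻¹) * g⁻¹ = g * g * x * (g * g)⁻¹ by group]
      refine tr _ g2.1.1.1.1 g2.1.1.1.2 g2.1.1.2 (fun y hy => ?_) x hx
      have e : ⁅g * g, y⁆ = g * ⁅g, y⁆ * g⁻¹ * ⁅g, y⁆ := by
        simp only [commutatorElement_def]; group
      rw [← hg.1.2 _ (hg.2 y hy), mul_inv_cancel_right, J0.sq_E (j.lE (hg.2 y hy))] at e
      exact (commutatorElement_eq_one_iff_mul_comm.1 e).symm)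
    (f := f) (mem_normalizer_of_conjS_le (conjS_le_iff_forall.2 fun g hg =>
      ⟨⟨⟨⟨G.mul_mem (G.mul_mem h.fG hg.1.1.1.1) (G.inv_mem h.fG),
        (𝒩[B]).mul_mem ((𝒩[B]).mul_mem j.fB hg.1.1.1.2) ((𝒩[B]).inv_mem j.fB)⟩,
        (𝒩[Q]).mul_mem ((𝒩[Q]).mul_mem j.fQ hg.1.1.2) ((𝒩[Q]).inv_mem j.fQ)⟩,
        LAE.conj_mem_of_mem_normalizer (normalizer_le_normalizer_centralizer l j.f_nl) hg.1.2⟩, fun x hx => by
        have e : ⁅f * g * f⁻¹, x⁆ = f * ⁅g, f⁻¹ * x * f⁆ * f⁻¹ := by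
          simp only [commutatorElement_def]; group
        rw [e]
        exact j.f_l (hg.2 _ (LAE.conj_inv_mem_of_mem_normalizer fQ0 hx))⟩))
    j.fB j.fc (jf1_gen2 j.gen)
  have cl : ∀ x ∈ l, a * x * a⁻¹ = x := fun x hx => by rw [← al x hx, mul_inv_cancel_right]
  have f'B : a * f * a⁻¹ ∈ 𝒩[B] := mul_mem (mul_mem aB j.fB) (inv_mem aB)
  have f'Q : a * f * a⁻¹ ∈ 𝒩[Q] := by
    rw [← caa Q, ← conjS_normalizer]
    exact conj_mem_conjS.2 fQ'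
  have om : f⁻¹ * (a * f * a⁻¹) ∈ jfO G B Q (Q ⊓ conjS a Q) l := by
    refine ⟨⟨⟨⟨G.mul_mem (G.inv_mem h.fG) (G.mul_mem (G.mul_mem aG h.fG) (G.inv_mem aG)),
      (𝒩[B]).mul_mem ((𝒩[B]).inv_mem j.fB) f'B⟩, (𝒩[Q]).mul_mem ((𝒩[Q]).inv_mem j.fQ) f'Q⟩,
      fun x hx => ?_⟩, fun x hx => ?_⟩
    · have e1 := al x hx
      have e2 := al _ (j.f_l hx)
      rw [ai]
      calc x * (f⁻¹ * (a * f * a)) = f⁻¹ * (f * x * f⁻¹ * a) * f * a := by group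
        _ = f⁻¹ * (a * f) * (x * a) := by rw [e2]; group
        _ = _ := by rw [e1]; group
    · have e : ⁅f⁻¹ * (a * f * a⁻¹), x⁆ =
          f⁻¹ * (a * ⁅f, a⁻¹ * x * a⁆ * a⁻¹ * ⁅f, x⁆⁻¹) * f := by
        simp only [commutatorElement_def]
        group
      have hx' : a⁻¹ * x * a ∈ Q ⊓ conjS a Q := by
        have := aQ0 x hx
        rwa [ai] at this ⊢
      rw [e, cl _ (j.f_Q0 aB hn hx')]
      exact LAE.conj_inv_mem_of_mem_normalizer j.f_nl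
        (mul_mem (j.f_Q0 aB hn hx') (inv_mem (j.f_Q0 aB hn hx)))
  have aW : ∀ w ∈ omegaZ 2 Q, a * w * a⁻¹ ∈ B := fun w hw => LAE.conj_mem_of_mem_normalizer aB (j.WB1 hw)
  have τf : ∀ w ∈ omegaZ 2 Q, c (a * (f * w * f⁻¹) * a⁻¹) = (μ : F) ^ 2 * c (a * w * a⁻¹) := by
    intro w hw
    rw [← tv _ om _ (aW w hw), ← j.fc _ (LAE.conj_mem_of_mem_normalizer om.1.1.1.2 (aW w hw))]
    congr 1
    group
  have τa : ∀ x ∈ omegaZ 2 Q, ∀ y ∈ omegaZ 2 Q,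
      c (a * (x * y) * a⁻¹) = c (a * x * a⁻¹) + c (a * y * a⁻¹) := fun x hx y hy => by
    rw [← j.c_add _ (aW x hx) _ (aW y hy)]
    congr 1
    group
  have τ0 : ∀ w ∈ omegaZ 2 Q, s w = 0 → c (a * w * a⁻¹) = 0 := fun w hw e =>
    (j.c_zero _ (aW w hw)).2 (aQ0 w (EQ ((j.s_zero w hw).1 e))).1
  have τc : ∀ x ∈ omegaZ 2 Q, ∀ y ∈ omegaZ 2 Q, s x = s y → c (a * x * a⁻¹) = c (a * y * a⁻¹) := by
    intro x hx y hy e
    have h1 := τ0 _ (mul_mem hx hy) (by rw [j.s_add x hx y hy, e, CharTwo.add_self_eq_zero])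
    rwa [τa x hx y hy, CharTwo.add_eq_zero] at h1
  obtain ⟨w₁, hw₁, e₁⟩ := j.s_surj 1
  have sp : ∀ n : ℕ, ∃ w ∈ omegaZ 2 Q, (μ : F) ^ n * s w = 1 ∧
      c (a * w * a⁻¹) = ((μ : F) ^ n) ^ 2 * c (a * w₁ * a⁻¹) := by
    intro n
    induction n with
    | zero => exact ⟨w₁, hw₁, by simp [e₁], by simp⟩
    | succ n ih =>
      obtain ⟨w, hw, e1, e2⟩ := ih
      refine ⟨_, J0.nW f j.fQ hw, ?_, by rw [τf w hw, e2]; ring⟩
      rw [pow_succ, mul_assoc, j.fs w hw, e1]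
  have τ : ∀ w ∈ omegaZ 2 Q, s w ≠ 0 → s w ^ 2 * c (a * w * a⁻¹) = c (a * w₁ * a⁻¹) := by
    intro w hw e
    obtain ⟨n, hn⟩ := jf1_gen j.gen (s w)⁻¹ (inv_ne_zero e)
    obtain ⟨y, hy, e1, e2⟩ := sp n
    rw [hn] at e1 e2
    have : s y = s w := by field_simp at e1; exact e1
    rw [τc w hw y hy this.symm, e2]
    field_simp
  have t0 : c (a * w₁ * a⁻¹) ≠ 0 := fun e => hn (conjS_le_iff_forall.2 fun w hw =>
    (j.c_zero _ (aW w hw)).1 (by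
      by_cases e' : s w = 0
      · exact τ0 w hw e'
      · have := τ w hw e'
        rw [e] at this
        exact (mul_eq_zero.1 this).resolve_left (pow_ne_zero _ e')))
  obtain ⟨x, x0, x1, x2⟩ := jf1_four hq
  obtain ⟨w, hw, rfl⟩ := j.s_surj x
  have a1 := τ w hw x0
  have a2 := τ _ (mul_mem hw hw₁) (by rwa [j.s_add w hw w₁ hw₁, e₁])
  rw [j.s_add w hw w₁ hw₁, e₁, τa w hw w₁ hw₁] at a2
  have two : (2 : F) = 0 := CharTwo.two_eq_zero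
  refine t0 ((mul_eq_zero.1 (?_ : (s w ^ 2 + s w + 1) ^ 2 * c (a * w₁ * a⁻¹) = 0)).resolve_left
    (pow_ne_zero _ x2))
  linear_combination s w ^ 2 * a2 - (s w + 1) ^ 2 * a1 + s w ^ 2 * c (a * w₁ * a⁻¹) * two

end CfsgLib.CNil
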