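import Mathlib
import Cfsg.Agent.Lib.CNil.JJf0
import Cfsg.Agent.Lib.CNil.JJf1

/-! The large field case: an involution interchanging `Q` and its partner. -/

set_option autoImplicit false
set_option linter.unusedSectionVars false

namespace CfsgLib.CNil

open Subgroup Cfsg CfsgLib.LAE CfsgLib.Push CfsgLib.Blocks CfsgLib.ZJ CfsgLib.OFP CfsgLib.Cop
open scoped commutatorElement

variable {Γ : Type*} [Group Γ] [Finite Γ] {F : Type} [Field F] [Fintype F] [CharP F 2]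
  {G M S B Q P V V₀ l B₁ A : Subgroup Γ} {f : Γ} {s c ψ : Γ → F} {μ : Fˣ} {a d g t w : Γ}

namespace J0

theorem jf_nQ (h : J0 F B Q l f s c ψ μ) (aB : a ∈ 𝒩[B]) (hn : ¬ conjS a (omegaZ 2 Q) ≤ Q)
    (hg : g ∈ 𝒩[B]) (hg' : g ∈ 𝒩[Q]) : g ∈ 𝒩[conjS a Q] := by
  have := h.pu h.WB le_rfl h.csurj (mul_mem hg aB) aB (fun e => hn (by
    rw [conjS_mul, ← mem_normalizer_iff_conjS.1 hg', conjS_le_conjS_iff,
      mem_normalizer_iff_conjS.1 hg'] at e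
    exact e)) hn
  rwa [inf_eq_left.2 h.QB, conjS_mul, ← mem_normalizer_iff_conjS] at this

theorem jf_dec (h : J0 F B Q l f s c ψ μ) (aB : a ∈ 𝒩[B]) (hn : ¬ conjS a (omegaZ 2 Q) ≤ Q) :
    ∀ b ∈ B, ∃ w ∈ omegaZ 2 Q, ∃ w₁ ∈ omegaZ 2 Q, ∃ x ∈ Q ⊓ conjS a Q, b = w * (a * w₁ * a⁻¹) * x := by
  intro b hb
  obtain ⟨w, hw, w', hw', x, hx, e⟩ := h.side h.WB le_rfl h.csurj aB hn b hb
  obtain ⟨w₁, h1, rfl⟩ := exists_of_mem_conjS hw'
  rw [inf_eq_left.2 h.QB] at hx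
  exact ⟨w, hw, w₁, h1, x, hx, e⟩

theorem jf_E (h : J0 F B Q l f s c ψ μ) (aB : a ∈ 𝒩[B]) (aa : a * a = 1)
    (hn : ¬ conjS a (omegaZ 2 Q) ≤ Q) (hw : w ∈ omegaZ 2 Q) (e : a * w * a⁻¹ ∈ Q) : w ∈ omegaZ 2 B := by
  rw [conjS_le_iff_forall] at hn
  push Not at hn
  obtain ⟨w₀, h0, h1⟩ := hn
  have b0 : a * w₀ * a⁻¹ ∈ B := LAE.conj_mem_of_mem_normalizer aB (h.WB h0)
  have k : ⁅a * w₀ * a⁻¹, w⁆ = 1 := by
    have k1 : ⁅w₀, a * w * a⁻¹⁆ = 1 := commutatorElement_eq_one_iff_mul_comm.2 (oz_comm h0 e).symm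
    have k2 : w = a * (a * w * a⁻¹) * a⁻¹ := by
      calc w = (a * a) * w * (a * a)⁻¹ := by rw [aa]; group
        _ = _ := by group
    rw [k2, conj_comm, k1]; group
  have := (h.com _ b0 w hw).2
  rw [k, h.ψ_one] at this
  exact (h.s_zero w hw).1 ((mul_eq_zero.1 this.symm).resolve_right fun z => h1 ((h.c_zero _ b0).1 z))

theorem jf_EQ (h : J0 F B Q l f s c ψ μ) (aB : a ∈ 𝒩[B]) : omegaZ 2 B ≤ Q ⊓ conjS a Q := fun _ hx =>
  ⟨omegaZ_le Q (h.EW hx), mem_conjS.2 (omegaZ_le Q (h.EW (by simpa using oz_conj (inv_mem aB) hx)))⟩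

end J0

/-- An element centralizing `Q ∩ Q'` and `B / Q ∩ Q'` induces an inner automorphism. -/
theorem JD.jf_inn (h : JD F G B Q l f s c ψ μ) (aB : a ∈ 𝒩[B]) (aa : a * a = 1)
    (hn : ¬ conjS a (omegaZ 2 Q) ≤ Q) (dG : d ∈ G) (dB : d ∈ 𝒩[B]) (dQ : d ∈ 𝒩[Q])
    (dC : d ∈ 𝒞[(Q ⊓ conjS a Q : Subgroup Γ)]) (ds : ∀ w ∈ omegaZ 2 Q, s (d * w * d⁻¹) = s w)
    (dc : ∀ b ∈ B, c (d * b * d⁻¹) = c b) : ∃ b₀ ∈ B, ∀ x ∈ B, d * x * d⁻¹ = b₀ * x * b₀⁻¹ := by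
  have j := h.toJ0
  have EQ := j.jf_EQ aB
  have dE : d ∈ 𝒩[omegaZ 2 B] := normalizer_le_normalizer_omegaZ B dB
  have c1 : d ∈ cz (omegaZ 2 Q) (omegaZ 2 B) := ⟨normalizer_le_normalizer_omegaZ Q dQ, dE, fun w hw => by
    rw [commutatorElement_def, oz_inv hw]
    exact j.s_eq (oz_conj dQ hw) hw (ds w hw)⟩
  have dW : d ∈ 𝒩[conjS a (omegaZ 2 Q)] := by
    rw [conjS_omegaZ]; exact normalizer_le_normalizer_omegaZ _ (j.jf_nQ aB hn dB dQ)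
  have WB' : conjS a (omegaZ 2 Q) ≤ B := (conjS_mono j.WB).trans (mem_normalizer_iff_conjS.1 aB).le
  have c2 : d ∈ cz (conjS a (omegaZ 2 Q)) (omegaZ 2 B) := ⟨dW, dE, fun w hw => by
    have k1 : ⁅d, w⁆ ∈ conjS a (omegaZ 2 Q) := mul_mem (LAE.conj_mem_of_mem_normalizer dW hw) (inv_mem hw)
    have k2 : ⁅d, w⁆ ∈ Q := (j.c_zero _ (WB' k1)).1 (by
      rw [commutatorElement_def, j.c_add _ (LAE.conj_mem_of_mem_normalizer dB (WB' hw)) _ (inv_mem (WB' hw)),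
        dc w (WB' hw), j.c_inv (WB' hw), CharTwo.add_self_eq_zero])
    obtain ⟨w₂, h2, e⟩ := exists_of_mem_conjS k1
    rw [e] at k2 ⊢
    exact oz_conj aB (j.jf_E aB aa hn h2 k2)⟩
  obtain ⟨u, v, hu, hv, e, -, u1, v1⟩ := exists_two_odd d
  have zp : ∀ {K : Subgroup Γ}, d ∈ K → zpowers d ≤ K := fun hK => zpowers_le.2 hK
  have uB : u ∈ B := by
    have pT : IsPGroup 2 (zpowers u ⊔ B : Subgroup Γ) :=
      isPGroup_sup hu.isPGroup j.pB (zpowers_le.2 (zp dB u1))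
    have eT := h.hb Q _ (omegaZ_le Q) le_rfl pT le_sup_right (sup_le (zpowers_le.2 (zp dG u1)) h.BG)
      (sup_le (zpowers_le.2 (zp dQ u1)) j.nQ)
    have z1 : zj 2 (zpowers u ⊔ B) ≤ omegaZ 2 B := le_omegaZ (elemAb_zj _) ((zj_le_bau _).trans eT.le)
      (le_centralizer_iff.1 (eT.ge.trans (bau_le_centralizer _)))
    exact eT.le ⟨mem_sup_left (mem_zpowers u), centralizer_le (z1.trans EQ) (zp dC u1)⟩
  have vC : ∀ x ∈ B, Commute v x := fun x hx => by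
    obtain ⟨w, hw, w₁, h1, y, hy, rfl⟩ := j.jf_dec aB hn x hx
    have k : ∀ z, ⁅v, z⁆ ∈ omegaZ 2 B → Commute v z := fun z hz =>
      commute_of_odd hv (two_of_mem j.pB (omegaZ_le B hz)) (zp dC v1 _ (EQ hz)).symm
    exact ((k w ((zp c1 v1).2.2 w hw)).mul_right (k _ ((zp c2 v1).2.2 _ (conj_mem_conjS.2 h1)))).mul_right
      (zp dC v1 y hy).symm
  refine ⟨u, uB, fun x hx => ?_⟩
  calc d * x * d⁻¹ = u * (v * x) * v⁻¹ * u⁻¹ := by rw [e]; group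
    _ = _ := by rw [(vC x hx).eq]; group

/-- The core: an involution `a` swapping `Q` and its partner. -/
theorem JD.core (h : JD F G B Q l f s c ψ μ) (hq : 4 < Fintype.card F) {a : Γ} (aG : a ∈ G)
    (aB : a ∈ 𝒩[B]) (aa : a * a = 1) (al : a ∈ 𝒞[l]) (hn : ¬ conjS a (omegaZ 2 Q) ≤ Q) :
    ∃ U ≤ omegaZ 2 Q, (∀ t, ∃ u ∈ U, s u = t) ∧ ∀ y ∈ G, y ∈ 𝒩[B] → y ∈ 𝒩[Q] → y * y = 1 →
      Commute a y → y ∈ 𝒞[l] → y ∈ 𝒞[U] := by
  have j := h.toJ0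
  have two : (2 : F) = 0 := CharTwo.two_eq_zero
  have hq2 : 2 < Fintype.card F := by omega
  have EQ := j.jf_EQ aB
  have cB := fun {g x : Γ} (hg : g ∈ 𝒩[B]) (hx : x ∈ B) => LAE.conj_mem_of_mem_normalizer hg hx
  obtain ⟨t, tG, tB, tQ, -, tC, κ, κ0, κ1, ts, tc⟩ := h.omega hq aG aB aa al hn
  have κ2 : κ + 1 ≠ 0 := fun e => κ1 (by linear_combination e - two)
  have tE : ∀ e ∈ omegaZ 2 B, t * e * t⁻¹ = e := fun e he => by rw [← tC e (EQ he), mul_inv_cancel_right]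
  -- `[B, W] ≤ l`
  have hI : ∀ b ∈ B, ∀ w ∈ omegaZ 2 Q, ⁅b, w⁆ ∈ l := fun b hb w hw => by
    obtain ⟨b₁, h1, e1⟩ := j.csurj (c b / (κ + 1))
    obtain ⟨b₂, h2, e2⟩ := j.csurj (κ * c b₁)
    have k1 := j.cong (cB tB h1) h2 (oz_conj tQ hw) hw (by
      rw [ts w hw, e2, ← tc b₁ h1]; ring)
    rw [conj_comm, tE _ (j.com b₁ h1 w hw).1, oz_inv (j.com b₁ h1 w hw).1, ← j.com_mul h1 h2 hw] at k1
    rwa [j.com_eq hb (mul_mem h1 h2) hw hw (by rw [j.c_add _ h1 _ h2, e2, e1]; field_simp; ring) rfl]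
  have tW : ∀ w ∈ omegaZ 2 Q, ⁅t, w⁆ ∈ omegaZ 2 Q := fun w hw => mul_mem (oz_conj tQ hw) (inv_mem hw)
  have sW : ∀ w ∈ omegaZ 2 Q, s ⁅t, w⁆ = (κ + 1) * s w := fun w hw => by
    rw [commutatorElement_def, oz_inv hw, j.s_add _ (oz_conj tQ hw) _ hw, ts w hw]; ring
  let U : Subgroup Γ :=
    { carrier := {u | ∃ w ∈ omegaZ 2 Q, u = ⁅t, w⁆}
      one_mem' := ⟨1, one_mem _, by simp⟩
      mul_mem' := by
        rintro _ _ ⟨w, hw, rfl⟩ ⟨w', hw', rfl⟩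
        refine ⟨w' * w, mul_mem hw' hw, ?_⟩
        calc ⁅t, w⁆ * ⁅t, w'⁆ = ⁅t, w⁆ * (t * w' * t⁻¹) * w'⁻¹ := by rw [commutatorElement_def t w']; group
          _ = _ := by
            rw [oz_comm (oz_conj tQ hw') (omegaZ_le Q (tW w hw))]
            simp only [commutatorElement_def]; group
      inv_mem' := by
        rintro _ ⟨w, hw, rfl⟩
        exact ⟨w, hw, oz_inv (tW w hw)⟩ }
  have UW : U ≤ omegaZ 2 Q := by rintro _ ⟨w, hw, rfl⟩; exact tW w hw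
  have Us : ∀ r, ∃ u ∈ U, s u = r := fun r => by
    obtain ⟨w, hw, e⟩ := j.s_surj (r / (κ + 1))
    exact ⟨_, ⟨w, hw, rfl⟩, by rw [sW w hw, e]; field_simp⟩
  -- commutators of `t` with elements acting as scalars
  have inn : ∀ g ∈ G, g ∈ 𝒩[B] → g ∈ 𝒩[Q] → ∀ α β : F, (∀ w ∈ omegaZ 2 Q, α * s (g * w * g⁻¹) = s w) →
      (∀ b ∈ B, c (g * b * g⁻¹) = β * c b) →
      ∃ b₀ ∈ B, ∀ x ∈ B, g * t * g⁻¹ * x * (g * t * g⁻¹)⁻¹ = b₀ * (t * x * t⁻¹) * b₀⁻¹ := by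
    intro g gG gB gQ α β gs gc
    have n := fun {K : Subgroup Γ} (h1 : g ∈ K) (h2 : t ∈ K) =>
      mul_mem (mul_mem (mul_mem h1 h2) (inv_mem h1)) (inv_mem h2)
    have e : ∀ x, g * t * g⁻¹ * t⁻¹ * x * (g * t * g⁻¹ * t⁻¹)⁻¹ =
        g * (t * (g⁻¹ * (t⁻¹ * x * t⁻¹⁻¹) * g⁻¹⁻¹) * t⁻¹) * g⁻¹ := fun x => by group
    have e' : ∀ {g x : Γ}, g * (g⁻¹ * x * g⁻¹⁻¹) * g⁻¹ = x := fun {g x} => by group
    obtain ⟨b₀, h0, k⟩ := h.jf_inn aB aa hn (n gG tG) (n gB tB) (n gQ tQ)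
      (mul_mem (bas1_conj (mem_normalizer_iff_conjS.2 (by
        rw [conjS_inf, mem_normalizer_iff_conjS.1 gQ,
          mem_normalizer_iff_conjS.1 (j.jf_nQ aB hn gB gQ)])) tC) (inv_mem tC))
      (fun w hw => by
        have a1 := oz_conj (inv_mem tQ) hw
        have a2 := oz_conj (inv_mem gQ) a1
        have a3 := gs _ (oz_conj tQ a2)
        have a4 := ts _ a2
        have a5 := gs _ a2
        have a6 := ts _ a1
        rw [e'] at a5 a6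
        obtain ⟨w₁, h1, e1⟩ := j.s_surj 1
        have α0 : α ≠ 0 := fun z => by simpa [z, e1] using gs w₁ h1
        rw [e]
        refine mul_left_cancel₀ α0 ?_
        rw [a3, a4, ← a5, a6]; ring)
      (fun b hb => by
        have a1 := cB (inv_mem tB) hb
        have a2 := cB (inv_mem gB) a1
        have a3 := gc _ (cB tB a2)
        have a4 := tc _ a2
        have a5 := gc _ a2
        have a6 := tc _ a1
        rw [e'] at a5 a6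
        rw [e]
        refine mul_left_cancel₀ κ0 ?_
        rw [a3, a6, a5, ← a4]; ring)
    refine ⟨b₀, h0, fun x hx => ?_⟩
    rw [← k _ (cB tB hx)]; group
  refine ⟨U, UW, Us, fun y yG yB yQ yy ay yl => ?_⟩
  have yi : y⁻¹ = y := inv_eq_of_mul_eq_one_right yy
  have ai : a⁻¹ = a := inv_eq_of_mul_eq_one_right aa
  have y2 : ∀ x, y * (y * x * y⁻¹) * y⁻¹ = x := fun x => by
    calc _ = (y * y) * x * (y * y)⁻¹ := by group
      _ = x := by rw [yy]; group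
  obtain ⟨κ', -, ys, yc⟩ := j.scal hq2 yB yQ yl
  obtain rfl : κ' = 1 := by
    obtain ⟨w₁, h1, e1⟩ := j.s_surj 1
    have := ys _ (oz_conj yQ h1)
    rw [y2, ys w₁ h1, e1] at this
    exact sub_eq_zero.1 (pow_eq_zero_iff two_ne_zero |>.1 (by
      linear_combination (-1 : F) * this + (1 - κ') * two : (κ' - 1) ^ 2 = 0))
  simp only [one_mul] at ys yc
  obtain ⟨b₀, h0, k0⟩ := inn y yG yB yQ 1 1 (by simpa using ys) (by simpa using yc)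
  have yU : ∀ u ∈ U, ⁅y, u⁆ ∈ l ∧ ψ ⁅y, u⁆ = s u * (κ * c b₀ / (κ + 1)) := by
    rintro _ ⟨w, hw, rfl⟩
    obtain ⟨φ, hφ, e⟩ : ∃ φ ∈ omegaZ 2 B, y * w * y⁻¹ = φ * w :=
      ⟨_, j.s_eq (oz_conj yQ hw) hw (ys w hw), by rw [mul_assoc _ w w, oz_sq hw, mul_one]⟩
    have a1 := k0 _ (cB yB (j.WB hw))
    have a2 : y * φ * y⁻¹ = φ := by
      have := y2 w
      rw [e, ← conj_mul, e, ← mul_assoc, mul_eq_right] at this
      rw [eq_inv_of_mul_eq_one_left this, oz_inv hφ]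
    have a3 : ⁅y, ⁅t, w⁆⁆ = ⁅b₀, t * w * t⁻¹⁆ := by
      have b1 : y * (t * w * t⁻¹) * y⁻¹ = φ * (b₀ * (t * w * t⁻¹) * b₀⁻¹) := by
        calc _ = y * t * y⁻¹ * (y * w * y⁻¹) * (y * t * y⁻¹)⁻¹ := by group
          _ = b₀ * (t * φ * t⁻¹) * (t * w * t⁻¹) * b₀⁻¹ := by rw [a1, e]; group
          _ = _ := by rw [tE φ hφ, oz_comm hφ h0]; group
      have b2 := oz_conj tQ hw
      have b3 := oz_conj (j.nQ h0) b2
      calc ⁅y, ⁅t, w⁆⁆ = y * (t * w * t⁻¹) * y⁻¹ * (y * w * y⁻¹)⁻¹ * w * (t * w * t⁻¹)⁻¹ := by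
            simp only [commutatorElement_def]; group
        _ = φ * (b₀ * (t * w * t⁻¹) * b₀⁻¹) * (w⁻¹ * φ⁻¹) * w * (t * w * t⁻¹)⁻¹ := by
            rw [b1, e, mul_inv_rev]
        _ = _ := by
            rw [← oz_comm hφ (j.WB b3), oz_comm (inv_mem hφ) (inv_mem (j.WB hw)), commutatorElement_def]
            group
    rw [a3, (j.com _ h0 _ (oz_conj tQ hw)).2, ts w hw, sW w hw]
    exact ⟨hI _ h0 _ (oz_conj tQ hw), by field_simp⟩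
  generalize κ * c b₀ / (κ + 1) = r at yU
  obtain ⟨u₁, u1, ur⟩ : ∃ u ∈ U, c (a * u * a⁻¹) = r := by
    obtain ⟨b, hb, e⟩ := j.csurj r
    obtain ⟨w, hw, w₁, h1, x, hx, rfl⟩ := j.jf_dec aB hn b hb
    obtain ⟨u, hu, e1⟩ := Us (s w₁)
    have a1 := cB aB (j.WB h1)
    have a2 := (j.c_zero _ (cB aB (j.WB (mul_mem (UW hu) h1)))).2
      (EQ (oz_conj aB (j.s_eq (UW hu) h1 e1))).1
    rw [← conj_mul, j.c_add _ (cB aB (j.WB (UW hu))) _ a1] at a2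
    rw [j.c_add _ (mul_mem (j.WB hw) a1) _ (j.QB hx.1), j.c_add _ (j.WB hw) _ a1,
      (j.c_zero _ (j.WB hw)).2 (omegaZ_le Q hw), (j.c_zero _ (j.QB hx.1)).2 hx.1] at e
    exact ⟨u, hu, by linear_combination a2 + e - c (a * w₁ * a⁻¹) * two⟩
  have w1 := UW u1
  have u1B := j.WB w1
  have u1' := cB aB u1B
  have k1 : ∀ u ∈ U, y * u * y⁻¹ = a * u₁ * a⁻¹ * u * (a * u₁ * a⁻¹)⁻¹ := fun u hu => by
    have := j.l_eq (yU u hu).1 (hI _ u1' u (UW hu)) (by rw [(yU u hu).2, (j.com _ u1' u (UW hu)).2, ur])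
    simpa only [commutatorElement_def, mul_left_inj] using this
  set u' := a * u₁ * a⁻¹ with hu'
  have au' : a * u' * a⁻¹ = u₁ := by
    calc _ = (a * a) * u₁ * (a * a)⁻¹ := by rw [hu']; group
      _ = _ := by rw [aa]; group
  have u'u' : u' * u' = 1 := by rw [hu', conj_mul, oz_sq w1]; group
  have k2 : ∀ u ∈ U, Commute ((u₁ * u')⁻¹ * y) u := fun u hu => by
    have b1 := oz_conj (j.nQ u1') (UW hu)
    refine mul_inv_eq_iff_eq_mul.1 ?_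
    calc _ = u'⁻¹ * (u₁⁻¹ * (y * u * y⁻¹)) * u₁ * u' := by group
      _ = _ := by rw [k1 u hu, oz_comm b1 (inv_mem (omegaZ_le Q w1))]; group
  have k3 : Commute ((u₁ * u')⁻¹ * y) u' := by
    have b1 : y * u' * y⁻¹ = u₁ * u' * u₁⁻¹ := by
      calc _ = (y * a) * u₁ * (y * a)⁻¹ := by rw [hu']; group
        _ = a * (y * u₁ * y⁻¹) * a⁻¹ := by rw [← ay.eq]; group
        _ = (a * u' * a⁻¹) * (a * u₁ * a⁻¹) * (a * u' * a⁻¹)⁻¹ := by rw [k1 u₁ u1]; group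
        _ = _ := by rw [au']
    refine mul_inv_eq_iff_eq_mul.1 ?_
    calc _ = u'⁻¹ * (u₁⁻¹ * (y * u' * y⁻¹)) * u₁ * u' := by group
      _ = _ := by rw [b1]; group
  have bB : u₁ * u' ∈ B := mul_mem u1B u1'
  have k4 : (u₁ * u')⁻¹ * y * ((u₁ * u')⁻¹ * y) = ⁅u', u₁⁆ := by
    have b1 := ((k2 u₁ u1).mul_right k3).inv_right.eq
    calc _ = ((u₁ * u')⁻¹ * y * (u₁ * u')⁻¹) * y := by group
      _ = (u₁ * u')⁻¹ * (u₁ * u')⁻¹ * (y * y) := by rw [b1]; group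
      _ = _ := by
        rw [yy, mul_one, mul_inv_rev, commutatorElement_def, oz_inv w1, inv_eq_of_mul_eq_one_right u'u']
        group
  have yl' : (u₁ * u')⁻¹ * y ∈ 𝒞[l] :=
    mul_mem (inv_mem (centralizer_le j.lE (le_centralizer_omegaZ B bB))) yl
  obtain ⟨bf, hf, kf⟩ := inn f h.fG j.fB j.fQ μ (μ ^ 2) j.fs j.fc
  have k5 : ∀ w ∈ omegaZ 2 Q, Commute ((u₁ * u')⁻¹ * y) ⁅f, w⁆ := fun w hw => by
    obtain ⟨_, ⟨w₀, h0, rfl⟩, e⟩ := Us (s w)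
    have a0 : ⁅t, w₀⁆ ∈ U := ⟨w₀, h0, rfl⟩
    have a1 := j.s_eq (tW w₀ h0) hw e
    have a2 := oz_conj j.fQ h0
    have a3 : f * ⁅t, w₀⁆ * f⁻¹ = ⁅bf, t * (f * w₀ * f⁻¹) * t⁻¹⁆ * ⁅t, f * w₀ * f⁻¹⁆ := by
      rw [← conj_comm, commutatorElement_def, kf _ (j.WB a2)]
      simp only [commutatorElement_def]; group
    have a4 : ⁅f, w⁆ = f * ⁅t, w₀⁆ * f⁻¹ * ⁅f, ⁅t, w₀⁆ * w⁆ * ⁅t, w₀⁆⁻¹ := by
      have : w = ⁅t, w₀⁆ * (⁅t, w₀⁆ * w) := by rw [← mul_assoc, oz_sq (tW w₀ h0), one_mul]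
      generalize ⁅t, w₀⁆ * w = x at this
      rw [this]
      generalize ⁅t, w₀⁆ = u
      simp only [commutatorElement_def]; group
    have cl : ∀ x ∈ l, Commute ((u₁ * u')⁻¹ * y) x := fun x hx => (yl' x hx).symm
    rw [a4, a3]
    exact (((cl _ (hI _ hf _ (oz_conj tQ a2))).mul_right (k2 _ ⟨_, a2, rfl⟩)).mul_right
      (cl _ (j.fl _ a1))).mul_right (k2 _ a0).inv_right
  obtain ⟨w₀, h0', hw0⟩ : ∃ w₀ ∈ omegaZ 2 Q, a * w₀ * a⁻¹ ∉ Q := by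
    rw [conjS_le_iff_forall] at hn
    push Not at hn
    exact hn
  have b0 := cB aB (j.WB h0')
  have k6 := h.q1 hI _ b0 hw0 (fun x hx => by
      obtain ⟨w, hw, w₁, h1, z, hz, rfl⟩ := j.jf_dec aB hn x (j.QB hx)
      have a1 : a * w₀ * a⁻¹ ∈ omegaZ 2 (conjS a Q) := conjS_omegaZ (p := 2) a Q ▸ conj_mem_conjS.2 h0'
      have a2 := oz_comm a1 (mul_mem (conj_mem_conjS.2 (omegaZ_le Q h1)) hz.2)
      have a3 : ⁅a * w₀ * a⁻¹, w * (a * w₁ * a⁻¹) * z⁆ = ⁅a * w₀ * a⁻¹, w⁆ := by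
        rw [mul_assoc w]
        generalize a * w₁ * a⁻¹ * z = p at a2
        generalize a * w₀ * a⁻¹ = q at a2
        calc ⁅q, w * p⁆ = q * w * q⁻¹ * (q * p) * q⁻¹ * p⁻¹ * w⁻¹ := by rw [commutatorElement_def]; group
          _ = _ := by rw [← a2, commutatorElement_def]; group
      rw [a3]
      exact hI _ b0 w hw)
    _ (mul_mem (inv_mem (h.BG bB)) yG) (mul_mem (inv_mem (le_normalizer bB)) yB)
    (mul_mem (inv_mem (j.nQ bB)) yQ)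
    ((isPGroup_sup (Two.isPGroup ⟨1, by rw [pow_one, sq, yy]⟩) j.pB (zpowers_le.2 yB)).to_le
      (sup_le le_sup_right (zpowers_le.2 (mul_mem (inv_mem (mem_sup_right bB))
        (mem_sup_left (mem_zpowers y))))))
    k5 (k4 ▸ hI _ u1' _ w1)
  have r0 : r = 0 := by
    have a1 := (j.com _ u1' _ w1).2
    rw [← k4, k6, j.ψ_one, ur] at a1
    refine (mul_eq_zero.1 a1.symm).elim (fun z => ?_) id
    rw [← ur]
    exact (j.c_zero _ u1').2 (EQ (oz_conj aB ((j.s_zero _ w1).1 z))).1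
  intro u hu
  exact (commutatorElement_eq_one_iff_mul_comm.1
    (j.linj _ (yU u hu).1 (by rw [(yU u hu).2, r0, mul_zero]))).symm

end CfsgLib.CNil
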