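import Mathlib
import Cfsg.Agent.Lib.CNil.JJf

set_option autoImplicit false
set_option linter.unusedSectionVars false

namespace CfsgLib.CNil

open Subgroup Cfsg CfsgLib.LAE CfsgLib.Push CfsgLib.Blocks CfsgLib.ZJ CfsgLib.OFP CfsgLib.Cop
open scoped commutatorElement

variable {Γ : Type*} [Group Γ] [Finite Γ] {F : Type} [Field F] [Fintype F] [CharP F 2]
  {G M S B Q P V V₀ l B₁ A : Subgroup Γ} {f : Γ} {s c ψ : Γ → F} {μ : Fˣ}

theorem jjg_memQ (h : J0 F B Q l f s c ψ μ) {b : Γ} (hb : b ∈ B) (hc : b ∈ 𝒞[omegaZ 2 Q]) : b ∈ Q := by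
  obtain ⟨w, hw, e⟩ := h.s_surj 1
  have h1 := (h.com b hb w hw).2
  have h0 : ψ 1 = 0 := by simpa using h.ψ_add 1 (one_mem _) 1 (one_mem _)
  rw [commutatorElement_eq_one_iff_mul_comm.2 (hc w hw).symm, h0, e, one_mul] at h1
  exact (h.c_zero b hb).1 h1.symm

/-- The relation `W ^ g ≤ Q` is symmetric. -/
theorem jjg_symm (h : J0 F B Q l f s c ψ μ) {g g' : Γ} (hg : g ∈ 𝒩[thompsonSubgroupOf 2 B])
    (hg' : g' ∈ 𝒩[thompsonSubgroupOf 2 B]) (hn : conjS g (omegaZ 2 Q) ≤ conjS g' Q) :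
    conjS g' (omegaZ 2 Q) ≤ conjS g Q := by
  have h1 : conjS g (omegaZ 2 Q) ≤ 𝒞[conjS g' (omegaZ 2 Q)] := by
    rw [← conjS_centralizer]
    exact hn.trans (conjS_mono (le_centralizer_omegaZ Q))
  have h2 := le_centralizer_iff.1 h1
  rw [← conjS_centralizer, le_conjS_iff] at h2
  rw [le_conjS_iff]
  intro x hx
  refine jjg_memQ h (PLocal.thompsonSubgroupOf_le (p := 2) B ?_) (h2 hx)
  rw [← conjS_mul] at hx
  exact (mem_normalizer_iff_conjS.1 (mul_mem (inv_mem hg) hg')).le (conjS_mono h.WJ hx)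

theorem jjg_leJ (h : J0 F B Q l f s c ψ μ) {g : Γ} (hg : g ∈ 𝒩[thompsonSubgroupOf 2 B]) :
    conjS g (omegaZ 2 Q) ≤ thompsonSubgroupOf 2 B :=
  (conjS_mono h.WJ).trans (mem_normalizer_iff_conjS.1 hg).le

theorem jjg_WQJ (h : J0 F B Q l f s c ψ μ) : omegaZ 2 Q ≤ Q ⊓ thompsonSubgroupOf 2 B :=
  le_inf (omegaZ_le Q) h.WJ

/-- Moving `W` out of `Q` is not affected by the normalizer of `Q ⊓ J`. -/
theorem jjg_out (h : J0 F B Q l f s c ψ μ) {g t : Γ} (hg : g ∈ 𝒩[thompsonSubgroupOf 2 B])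
    (tJ : t ∈ 𝒩[thompsonSubgroupOf 2 B]) (ht : t ∈ 𝒩[Q ⊓ thompsonSubgroupOf 2 B])
    (hn : conjS (t * g) (omegaZ 2 Q) ≤ Q) : conjS g (omegaZ 2 Q) ≤ Q := by
  have h1 := le_inf hn (jjg_leJ h (mul_mem tJ hg))
  rw [conjS_mul, conjS_le_iff, mem_normalizer_iff_conjS.1 (inv_mem ht)] at h1
  exact h1.trans inf_le_left

theorem jjg_card {A₁ T : Subgroup Γ} {a : Γ} (h : ∀ y ∈ A₁, y ∈ T ∨ a⁻¹ * y ∈ T) (ha : a ∈ A₁) :
    Nat.card A₁ ≤ Nat.card (A₁ ⊓ T : Subgroup Γ) * 2 := by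
  have e : Nat.card ((A₁ ⊓ T : Subgroup Γ) × Bool) = Nat.card (A₁ ⊓ T : Subgroup Γ) * 2 := by
    rw [Nat.card_prod, Nat.card_eq_fintype_card (α := Bool), Fintype.card_bool]
  rw [← e]
  refine Nat.card_le_card_of_surjective
    (fun p => if p.2 then ⟨p.1.1, p.1.2.1⟩ else ⟨a * p.1.1, mul_mem ha p.1.2.1⟩) fun y => ?_
  rcases h y.1 y.2 with h1 | h1
  · exact ⟨(⟨y.1, y.2, h1⟩, true), rfl⟩
  · exact ⟨(⟨a⁻¹ * y.1, A₁.mul_mem (inv_mem ha) y.2, h1⟩, false), Subtype.ext (mul_inv_cancel_left _ _)⟩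

theorem JD.jj0 (h : JD F G B Q l f s c ψ μ) (hq : 4 < Fintype.card F) {T : Subgroup Γ} (pT : IsPGroup 2 T)
    (BT : B ≤ T) (TG : T ≤ G) (TJ : T ≤ 𝒩[thompsonSubgroupOf 2 B])
    (hl : ∀ A₁ ∈ PLocal.maxElemIn 2 T, A₁ ≤ 𝒞[l]) :
    thompsonSubgroupOf 2 T = thompsonSubgroupOf 2 B := by
  have h0 := h.toJ0
  have JB : thompsonSubgroupOf 2 B ≤ B := PLocal.thompsonSubgroupOf_le B
  have WQ : omegaZ 2 Q ≤ Q := omegaZ_le Q
  have WB : omegaZ 2 Q ≤ B := WQ.trans h.QB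
  have nJ : 𝒩[B] ≤ 𝒩[thompsonSubgroupOf 2 B] := PLocal.normalizer_le_normalizer_thompsonSubgroupOf B
  by_cases h1 : ∀ g ∈ T, conjS g (omegaZ 2 Q) ≤ Q
  · rw [← h.hb _ T (le_nclIn _ T) (nclIn_le_iff.2 h1) pT BT TG (le_normalizer_nclIn _ _), J_bau]
  push Not at h1
  obtain ⟨g, gT, hg⟩ := h1
  have bB : bau 2 B = B := h.hb Q B WQ le_rfl h.pB le_rfl h.BG h.nQ
  have eE : omegaZ 2 (thompsonSubgroupOf 2 B) = omegaZ 2 B := by
    change zj 2 B = omegaZ 2 B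
    exact le_antisymm (le_omegaZ (elemAb_zj B) (zj_le B)
      (le_centralizer_iff.1 (bB.ge.trans (bau_le_centralizer B)))) (omegaZ_le_zj B)
  have nE : 𝒩[thompsonSubgroupOf 2 B] ≤ 𝒩[omegaZ 2 B] := eE ▸ normalizer_le_normalizer_omegaZ _
  set T' := T ⊓ 𝒩[Q ⊓ thompsonSubgroupOf 2 B] with hT'
  have BT' : B ≤ T' := le_inf BT (le_normalizer_inf h.nQ (le_normalizer.trans nJ))
  have bT' : bau 2 T' = B := h.hb _ T' (jjg_WQJ h0) inf_le_left (pT.to_le inf_le_left) BT'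
    (inf_le_left.trans TG) inf_le_right
  suffices hs : thompsonSubgroupOf 2 T ≤ T' by
    rw [← PLocal.thompsonSubgroupOf_eq_of_le inf_le_left hs, ← J_bau, bT']
  refine PLocal.thompsonSubgroupOf_le_iff.2 fun A₁ hA a aA => ?_
  by_contra aT
  have AT := hA.1
  have tri : ∀ y ∈ A₁, conjS y (Q ⊓ thompsonSubgroupOf 2 B) = Q ⊓ thompsonSubgroupOf 2 B ∨
      conjS y (Q ⊓ thompsonSubgroupOf 2 B) = conjS g (Q ⊓ thompsonSubgroupOf 2 B) := fun y hy =>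
    h0.tri (by omega) h.WJ JB h.c_surj (nJ h.fB) (TJ gT) (TJ (AT hy)) (nE (TJ (AT hy))) hg (hl A₁ hA hy)
  have ea := (tri a aA).resolve_left fun e => aT ⟨AT aA, mem_normalizer_iff_conjS.2 e⟩
  have aJ := TJ (AT aA)
  have ha : ¬ conjS a (omegaZ 2 Q) ≤ Q := fun e => by
    have e1 := jjg_symm h0 aJ (one_mem _) (by rwa [conjS_one])
    have e2 : conjS 1 (omegaZ 2 Q) ≤ conjS a (Q ⊓ thompsonSubgroupOf 2 B) := by
      rw [conjS_inf, mem_normalizer_iff_conjS.1 aJ]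
      exact le_inf e1 (jjg_leJ h0 (one_mem _))
    rw [ea] at e2
    have e3 := jjg_symm h0 (one_mem _) (TJ gT) (e2.trans (conjS_mono inf_le_left))
    rw [conjS_one] at e3
    exact hg e3
  have aa : a * a = 1 := by rw [← sq]; exact hA.2.1.2 a aA
  have ia : a⁻¹ = a := inv_eq_of_mul_eq_one_right aa
  have aN : a ∈ 𝒩[T'] := mem_normalizer_of_conjS_le (conjS_le_iff_forall.2 fun t ht => by
    refine ⟨T.mul_mem (mul_mem (AT aA) ht.1) (inv_mem (AT aA)), mem_normalizer_iff_conjS.2 ?_⟩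
    have e1 := h0.pu h.WJ JB h.c_surj (mul_mem (TJ ht.1) aJ) aJ
      (fun e => ha (jjg_out h0 aJ (TJ ht.1) ht.2 e)) ha
    rw [ia, mul_assoc, conjS_mul, e1, ← conjS_mul, aa, conjS_one])
  have aB : a ∈ 𝒩[B] := bT' ▸ normalizer_le_normalizer_bau _ aN
  obtain ⟨U, UW, Us, hU⟩ := h.core hq (TG (AT aA)) aB aa (hl A₁ hA aA) ha
  have cU : A₁ ⊓ T' ≤ 𝒞[U] := fun y hy => by
    have yB : y ∈ 𝒩[B] := bT' ▸ le_normalizer_bau _ hy.2
    have yJ := nJ yB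
    refine hU y (TG hy.2.1) yB ?_ (by rw [← sq]; exact hA.2.1.2 y hy.1) (PLocal.elemAb_comm hA.2.1 aA hy.1)
      (hl A₁ hA hy.1)
    have e1 := h0.tri (by omega) WB le_rfl (fun t => (h.c_surj t).imp fun x hx => ⟨JB hx.1, hx.2⟩) h.fB aB yB
      (nE yJ) ha (hl A₁ hA hy.1)
    rw [inf_eq_left.2 h.QB] at e1
    rcases e1 with e1 | e1
    · exact mem_normalizer_iff_conjS.2 e1
    · refine absurd (jjg_out h0 aJ (inv_mem yJ) (inv_mem hy.2.2) ?_) ha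
      rw [conjS_mul, ← le_conjS_iff, e1]
      exact conjS_mono WQ
  have eW := elemAb_omegaZ (p := 2) Q
  have k1 := hA.2.2 ((A₁ ⊓ T') ⊔ U) (sup_le (inf_le_left.trans AT) (UW.trans (WB.trans BT)))
    (PLocal.elemAb_sup (PLocal.elemAb_mono hA.2.1 inf_le_left) (PLocal.elemAb_mono eW UW) cU)
  have k2 : Nat.card A₁ ≤ Nat.card (A₁ ⊓ T' : Subgroup Γ) * 2 := jjg_card (fun y hy => (tri y hy).imp
    (fun e => ⟨AT hy, mem_normalizer_iff_conjS.2 e⟩) fun e => ⟨T.mul_mem (inv_mem (AT aA)) (AT hy),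
      mem_normalizer_iff_conjS.2 (by rw [conjS_mul, e, ← ea, conjS_inv_conjS])⟩) aA
  have s0 : ∀ x ∈ A₁, x ∈ omegaZ 2 Q → s x = 0 := fun x hx xW => by
    obtain ⟨b, hb, bQ⟩ := SetLike.not_le_iff_exists.1 ha
    have bB := JB (jjg_leJ h0 aJ hb)
    have x' : x ∈ conjS a (omegaZ 2 Q) := by
      rw [mem_conjS, mul_assoc, ← PLocal.elemAb_comm hA.2.1 aA hx, inv_mul_cancel_left]
      exact xW
    have c1 : b * x = x * b := by
      rw [conjS_omegaZ] at hb x'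
      exact PLocal.elemAb_comm (elemAb_omegaZ _) hb x'
    have h1 := (h.com b bB x xW).2
    have h0 : ψ 1 = 0 := by simpa using h.ψ_add 1 (one_mem _) 1 (one_mem _)
    rw [commutatorElement_eq_one_iff_mul_comm.2 c1, h0] at h1
    exact (mul_eq_zero.1 h1.symm).resolve_right fun e => bQ ((h.c_zero b bB).1 e)
  choose σ σU σs using Us
  have k3 : Nat.card ((A₁ ⊓ T' : Subgroup Γ) × F) ≤ Nat.card ((A₁ ⊓ T') ⊔ U : Subgroup Γ) := by
    refine Nat.card_le_card_of_injective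
      (fun p => ⟨p.1.1 * σ p.2, mul_mem (mem_sup_left p.1.2) (mem_sup_right (σU _))⟩) ?_
    rintro ⟨y, t⟩ ⟨y', t'⟩ e
    have e1 : y.1 * σ t = y'.1 * σ t' := congrArg Subtype.val e
    have i1 : (σ t)⁻¹ = σ t := inv_eq_of_mul_eq_one_right (by rw [← sq]; exact eW.2 _ (UW (σU t)))
    have e2 : y'.1⁻¹ * y.1 = σ t' * σ t := by
      rw [← i1, eq_mul_inv_iff_mul_eq, mul_assoc, e1, inv_mul_cancel_left]
    have e3 := s0 _ (e2 ▸ mul_mem (inv_mem y'.2.1) y.2.1) (mul_mem (UW (σU t')) (UW (σU t)))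
    rw [h.s_add _ (UW (σU t')) _ (UW (σU t)), σs, σs] at e3
    have e4 : t = t' := by rw [eq_neg_of_add_eq_zero_right e3, CharTwo.neg_eq]
    subst e4
    exact Prod.ext (Subtype.ext (mul_right_cancel e1)) rfl
  rw [Nat.card_prod, Nat.card_eq_fintype_card (α := F)] at k3
  have k4 : 0 < Nat.card (A₁ ⊓ T' : Subgroup Γ) := Nat.card_pos
  nlinarith

/-- `J(S) = J(B)`. -/
theorem JD.jj (h : JD F G B Q l f s c ψ μ) (hq : 4 < Fintype.card F) (pS : IsPGroup 2 S) (BS : B ≤ S)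
    (SG : S ≤ G) (hl : ∀ T : Subgroup Γ, B ≤ T → T ≤ S → ∀ A₁ ∈ PLocal.maxElemIn 2 T, A₁ ≤ 𝒞[l]) :
    thompsonSubgroupOf 2 S = thompsonSubgroupOf 2 B := by
  have BT : B ≤ S ⊓ 𝒩[thompsonSubgroupOf 2 B] :=
    le_inf BS (le_normalizer.trans (PLocal.normalizer_le_normalizer_thompsonSubgroupOf B))
  have e := h.jj0 hq (pS.to_le inf_le_left) BT (inf_le_left.trans SG) inf_le_right (hl _ BT inf_le_left)
  have e' : S ⊓ 𝒩[thompsonSubgroupOf 2 B] = S := by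
    by_contra hne
    obtain ⟨t, ht, h1, h2⟩ := Tech.exists_mem_normalizer_of_lt pS (lt_of_le_of_ne inf_le_left hne)
    exact h1 ⟨ht, e ▸ PLocal.normalizer_le_normalizer_thompsonSubgroupOf _ h2⟩
  rwa [e'] at e

/-- An odd operator group normalizing `J(B)`. -/
theorem JD.fin (h : JD F G B Q l f s c ψ μ) (oA : Odd (Nat.card A))
    (AJ : A ≤ 𝒩[thompsonSubgroupOf 2 B])
    (sol : ∀ C ≤ B, C ≠ ⊥ → A ≤ 𝒩[C] → Group.IsSolvable (G ⊓ 𝒩[C] : Subgroup Γ)) : False := by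
  have h0 := h.toJ0
  have JB : thompsonSubgroupOf 2 B ≤ B := PLocal.thompsonSubgroupOf_le B
  have h1 : ∀ α ∈ A, conjS α (omegaZ 2 Q) ≤ Q := fun α hα => by
    by_contra hn
    have hn' : ¬ conjS α⁻¹ (omegaZ 2 Q) ≤ Q := fun e => by
      have e1 := jjg_symm h0 (inv_mem (AJ hα)) (one_mem _) (by rwa [conjS_one])
      rw [conjS_one, ← conjS_le_iff] at e1
      exact hn e1
    have e1 := h0.pu h.WJ JB h.c_surj (AJ hα) (inv_mem (AJ hα)) hn hn'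
    have e2 : α ^ 2 ∈ 𝒩[Q ⊓ thompsonSubgroupOf 2 B] := by
      rw [mem_normalizer_iff_conjS, sq, conjS_mul, e1, conjS_conjS_inv]
    have e3 : α ∈ zpowers (α ^ 2) := mem_zpowers_pow_iff.2 (Nat.Coprime.coprime_dvd_right
      (A.orderOf_dvd_natCard hα) (Nat.coprime_two_left.2 oA))
    exact hn (((conjS_mono (jjg_WQJ h0)).trans
      (mem_normalizer_iff_conjS.1 (zpowers_le.2 e2 e3)).le).trans inf_le_left)
  have h2 : nclIn (omegaZ 2 Q) A ≤ Q := nclIn_le_iff.2 h1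
  refine h.ns _ (le_nclIn _ A) h2 (sol _ (h2.trans h.QB) (fun e => ?_) (le_normalizer_nclIn _ _))
  obtain ⟨w, hw, e1⟩ := h.s_surj 1
  rw [mem_bot.1 (e.le (le_nclIn _ A hw)), (h.s_zero 1 (one_mem _)).2 (one_mem _)] at e1
  exact zero_ne_one e1

end CfsgLib.CNil
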