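import Mathlib
import Cfsg.Agent.Lib.CNil.JJa
import Cfsg.Agent.Lib.CNil.JJe
import Cfsg.Agent.Lib.CNil.JJg

set_option autoImplicit false
set_option linter.unusedSectionVars false

namespace CfsgLib.CNil

open Subgroup Cfsg CfsgLib.LAE CfsgLib.OFP CfsgLib.Cop
open scoped commutatorElement

universe u

variable {X : Type u} [Group X] [Finite X] {A G S : Subgroup X}

theorem FN.big (h : FN A G S) {F : Type} [Field F] [Fintype F] [CharP F 2] {B Q P V V₀ : Subgroup X}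
    (l : Lf F G (G ⊓ normalizer (vv G S : Set X)) S B Q P V V₀) (hq : 2 < Fintype.card F) : False := by
  classical
  have : Fact (Nat.Prime 2) := ⟨Nat.prime_two⟩
  obtain ⟨D, f, μ, n⟩ := Lf.exists_nd l
  obtain ⟨ℓ, s, c, ψ, j, z, hz, ψz⟩ := n.jd hq h.solvM
  have pS := h.syl.isPGroup
  have μ1 := jja_ne_one hq j.gen
  obtain ⟨u, hu, su⟩ := j.s_surj 1
  have VE : vv G S ≤ omegaZ 2 B := vv_le_omegaZ h.vV pS l.BS j.QB (omegaZ_le Q hu)
    (omegaZ_le_centralizer Q hu) (by rw [← sq]; exact (mem_omegaZ.1 hu).2.2)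
    (fun v hv y hy y' hy' e => by
      obtain ⟨h1, h2⟩ := j.com v hv u hu
      rw [e, j.φ1 y hy y' hy' (e ▸ h1), su, one_mul] at h2
      exact (j.c_zero v hv).1 h2.symm) j.nQ
    fun T TS BT TQ => lf_hQ l (pS.to_le TS) BT (TS.trans h.syl.le) TQ
  have fV : f ∈ normalizer (vv G S : Set X) := by
    obtain ⟨a, ha, m, hm, -, e⟩ := mem_CM.1 (l.ovr B l.pB le_rfl (l.BS.trans l.SM) ⟨j.fG, j.fB⟩)
    rw [e]
    exact Subgroup.mul_mem _ (centralizer_le_normalizer _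
      (centralizer_le (VE.trans (omegaZ_le B)) ha)) hm.2
  have ψ1 : ψ 1 = 0 := by simpa using j.ψ_add 1 (one_mem _) 1 (one_mem _)
  have iE : ∀ e ∈ omegaZ 2 B, e⁻¹ = e := fun e he =>
    inv_eq_of_mul_eq_one_right (by rw [← sq]; exact (mem_omegaZ.1 he).2.2)
  have fE : ∀ e ∈ omegaZ 2 B, f * e * f⁻¹ ∈ omegaZ 2 B := fun e he =>
    LAE.conj_mem_of_mem_normalizer (normalizer_le_normalizer_omegaZ B j.fB) he
  have ψc : ∀ e ∈ omegaZ 2 B, ψ ⁅f, e⁆ = (μ + 1) * ψ e := fun e he => by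
    rw [commutatorElement_def, j.ψ_add _ (fE e he) _ (inv_mem he), j.fψ e he, iE e he, add_mul, one_mul]
  have μ2 : (μ : F) + 1 ≠ 0 := fun e => μ1 (by rw [eq_neg_of_add_eq_zero_left e, CharTwo.neg_eq])
  have zV : z ∈ vv G S := omegaZ_le_vv G S hz
  have step : ∀ i : ℕ, ∃ x ∈ ℓ, x ∈ vv G S ∧ ψ x = (μ : F) ^ i * ((μ + 1) * ψ z) := fun i => by
    induction i with
    | zero => exact ⟨⁅f, z⁆, j.fl z (VE zV), mul_mem (LAE.conj_mem_of_mem_normalizer fV zV) (inv_mem zV),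
        by rw [ψc z (VE zV), pow_zero, one_mul]⟩
    | succ i ih =>
      obtain ⟨x, x1, x2, x3⟩ := ih
      refine ⟨f * x * f⁻¹, ?_, LAE.conj_mem_of_mem_normalizer fV x2, by
        rw [j.fψ x (j.lE x1), x3, pow_succ', mul_assoc]⟩
      have := mul_mem (j.fl x (j.lE x1)) x1
      rwa [commutatorElement_def, inv_mul_cancel_right] at this
  have surj : ∀ t : F, ∃ x ∈ ℓ, x ∈ vv G S ∧ ψ x = t := fun t => by
    by_cases t0 : t = 0
    · exact ⟨1, one_mem _, one_mem _, ψ1.trans t0.symm⟩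
    have h0 : (μ + 1) * ψ z ≠ 0 := mul_ne_zero μ2 ψz
    obtain ⟨i, hi⟩ := mem_powers_iff_mem_zpowers.2 (j.gen (Units.mk0 (t / ((μ + 1) * ψ z)) (div_ne_zero t0 h0)))
    have hi' : (μ : F) ^ i = t / ((μ + 1) * ψ z) := by simpa using congrArg Units.val hi
    obtain ⟨x, x1, x2, x3⟩ := step i
    exact ⟨x, x1, x2, by rw [x3, hi', div_mul_cancel₀ _ h0]⟩
  have inj : ∀ x ∈ ℓ, ∀ y ∈ ℓ, ψ x = ψ y → x = y := fun x hx y hy e => by
    have := j.linj _ (mul_mem hx hy) (by rw [j.ψ_add _ (j.lE hx) _ (j.lE hy), e, CharTwo.add_self_eq_zero])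
    rw [← iE y (j.lE hy)]
    exact eq_inv_of_mul_eq_one_left this
  have lV : ℓ ≤ vv G S := fun x hx => by
    obtain ⟨y, y1, y2, y3⟩ := surj (ψ x)
    rwa [inj x hx y y1 y3.symm]
  have lc : Nat.card ℓ = Fintype.card F := by
    rw [← Nat.card_eq_fintype_card]
    refine Nat.card_eq_of_bijective (fun x : ℓ => ψ x) ⟨fun x y e => Subtype.ext (inj _ x.2 _ y.2 e), fun t => ?_⟩
    obtain ⟨y, y1, -, y3⟩ := surj t
    exact ⟨⟨y, y1⟩, y3⟩
  have h3 : Fintype.card F ≠ 3 := fun e => by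
    obtain ⟨m, -, hm⟩ := FiniteField.card F 2
    have h2 : Even (Fintype.card F) := by rw [hm]; exact (Nat.even_pow' m.ne_zero).2 even_two
    rw [e] at h2
    exact absurd h2 (by decide)
  rcases (show Fintype.card F = 4 ∨ 4 < Fintype.card F by omega) with h4 | h4
  · refine noOm_four h.om h.AG h.cop (h.vV.le.trans h.syl.le) h.vV.sq h.vV.AV h.solvM j.fG fV lV (lc.trans h4)
      (fun v hv => j.fl v (VE hv)) fun x hx e => j.linj x hx ?_
    have := ψc x (j.lE hx)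
    rw [e, ψ1] at this
    exact (mul_eq_zero.1 this.symm).resolve_left μ2
  have eJ := j.jj h4 pS l.BS h.syl.le fun T BT TS A₁ h0 => by
    refine le_trans ?_ (centralizer_le lV)
    have e1 := h.vV.q2 A₁ (h0.1.trans TS) fun b hb => by rw [← sq]; exact h0.2.1.2 b hb
    have e2 := offender_le h0 ((VE.trans (omegaZ_le B)).trans BT) h.vV.sq
    have e3 : (centralizer (vv G S : Set X)).relIndex A₁ ≠ 0 := FiniteIndex.index_ne_zero
    exact relIndex_eq_one.1 (by nlinarith [Nat.pos_of_ne_zero e3])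
  refine j.fin h.odd (eJ ▸ h.AS.trans (PLocal.normalizer_le_normalizer_thompsonSubgroupOf S))
    fun C CB C1 AC => h.solv_norm (CB.trans j.BG) (j.pB.to_le CB) C1 AC

end CfsgLib.CNil
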