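import Cfsg.Agent.Lib.Cop.S1Cop
import Cfsg.Agent.Lib.Cop.S1Quad
import Cfsg.Agent.Lib.PD.CountA
import Cfsg.Agent.Lib.PD.Basic

/-! Linear groups over `𝔽₂` with a coprime operator group whose fixed points are nilpotent. -/

set_option autoImplicit false

open Subgroup Cfsg CfsgLib.LAE CfsgLib.ZN CfsgLib.MinS CfsgLib.Cop Module
open scoped commutatorElement

namespace CfsgLib.CNil

/-- The product of a commuting orbit. -/
theorem orb_prod {Γ : Type*} [Group Γ] [Finite Γ] {L K D : Subgroup Γ} {w : Γ}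
    (hc : ∀ g ∈ L, ∀ g' ∈ L, Commute (g * w * g⁻¹) (g' * w * g'⁻¹))
    (hK : ∀ g ∈ L, g * w * g⁻¹ ∈ K) (hD : ∀ g ∈ L, g * w * g⁻¹ ≠ w → g * w * g⁻¹ ∈ D) :
    ∃ d ∈ D, w * d ∈ K ∧ ∀ g ∈ L, Commute g (w * d) := by
  classical
  set O : Finset Γ := (Set.toFinite {y | ∃ g ∈ L, g * w * g⁻¹ = y}).toFinset with hO
  have mO : ∀ {y : Γ}, y ∈ O ↔ ∃ g ∈ L, g * w * g⁻¹ = y := fun {y} => by simp [hO]
  have cO : (O : Set Γ).Pairwise (Function.onFun Commute id) := by
    intro x hx y hy _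
    obtain ⟨g, hg, rfl⟩ := mO.1 hx
    obtain ⟨g', hg', rfl⟩ := mO.1 hy
    exact hc g hg g' hg'
  have wO : w ∈ O := mO.2 ⟨1, L.one_mem, by simp⟩
  have e0 : w * _ = _ := Finset.mul_noncommProd_erase O wO id cO
  refine ⟨_, D.noncommProd_mem _ fun y hy => ?_, e0 ▸ (?_ : O.noncommProd id cO ∈ K),
    fun g hg => e0 ▸ (?_ : Commute g (O.noncommProd id cO))⟩
  · obtain ⟨y1, hy⟩ := Finset.mem_erase.1 hy
    obtain ⟨g, hg, rfl⟩ := mO.1 hy
    exact hD g hg y1
  · refine K.noncommProd_mem _ fun y hy => ?_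
    obtain ⟨g, hg, rfl⟩ := mO.1 hy
    exact hK g hg
  · refine mul_inv_eq_iff_eq_mul.1 ?_
    have e : O.map (MulAut.conj g).toEquiv.toEmbedding = O := by
      ext y
      rw [Finset.mem_map_equiv, mO, mO]
      constructor
      · rintro ⟨k, hk, e⟩
        refine ⟨g * k, L.mul_mem hg hk, ?_⟩
        have : y = g * (k * w * k⁻¹) * g⁻¹ := by rw [e]; simp [mul_assoc]
        rw [this]; group
      · rintro ⟨k, hk, rfl⟩
        refine ⟨g⁻¹ * k, L.mul_mem (L.inv_mem hg) hk, ?_⟩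
        simp [mul_assoc]
    have e2 : (O.val.map id).map (MulAut.conj g) = O.val.map id := by
      rw [Multiset.map_id]
      exact congrArg Finset.val e
    change MulAut.conj g (O.noncommProd id cO) = _
    unfold Finset.noncommProd
    rw [Multiset.map_noncommProd]
    congr 1

variable {V : Type*} [AddCommGroup V] [Module (ZMod 2) V] [Finite V]
variable {B F Q Y : Subgroup (GLv V)} {s t d y z g : GLv V}

/-- The sum of an orbit. -/
theorem orb_sum {w : V} {W : Submodule (ZMod 2) V} (h : ∀ α ∈ B, α w ≠ w → α w ∈ W) :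
    ∃ u ∈ W, ∀ α ∈ B, α (w + u) = w + u := by
  classical
  let O : Finset V := (Set.toFinite {v : V | ∃ α ∈ B, α w = v}).toFinset
  have hO : ∀ v, v ∈ O ↔ ∃ α ∈ B, α w = v := fun v => Set.Finite.mem_toFinset _
  refine ⟨∑ v ∈ O.erase w, v, W.sum_mem fun v hv => ?_, fun α hα => ?_⟩
  · obtain ⟨h1, h2⟩ := Finset.mem_erase.1 hv
    obtain ⟨α, hα, rfl⟩ := (hO v).1 h2
    exact h α hα h1
  · rw [Finset.add_sum_erase O (fun v => v) ((hO w).2 ⟨1, one_mem _, rfl⟩), map_sum]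
    refine Finset.sum_nbij' (fun v => α v) (fun v => α⁻¹ v) (fun v hv => ?_) (fun v hv => ?_)
      (fun v _ => ginv α v) (fun v _ => ginv' α v) (fun v _ => rfl)
    · obtain ⟨β, hβ, rfl⟩ := (hO v).1 hv
      exact (hO _).2 ⟨α * β, mul_mem hα hβ, rfl⟩
    · obtain ⟨β, hβ, rfl⟩ := (hO v).1 hv
      exact (hO _).2 ⟨α⁻¹ * β, mul_mem (inv_mem hα) hβ, rfl⟩

/-- `B` acts coprimely on `Y` and `V`, and the fixed points of odd order centralize the fixed
involutions. -/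
structure LN (B Y : Subgroup (GLv V)) : Prop where
  odd : ∀ α ∈ B, Odd (orderOf α)
  cop : ∀ α ∈ B, ∀ y ∈ Y, (orderOf y).Coprime (orderOf α)
  g1 : ∀ p ∈ Y, p * p = 1 → ∀ n ∈ Y, Odd (orderOf n) → (∀ α ∈ B, Commute α p) →
    (∀ α ∈ B, Commute α n) → Commute p n
  g2 : ∀ n ∈ Y, Odd (orderOf n) → (∀ α ∈ B, Commute α n) → ∀ u : V, (∀ α ∈ B, α u = u) → n u = u

theorem LN.orb (h : LN B Y) (hF : F ≤ Y) (hodd : Odd (Nat.card F)) {w : V}
    (hK : ∀ α ∈ B, α * y * α⁻¹ ∈ F)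
    (hc : ∀ α ∈ B, ∀ β ∈ B, Commute (α * y * α⁻¹) (β * y * β⁻¹))
    (h1 : ∀ α ∈ B, (α * y * α⁻¹ = y ∧ α w = w) ∨ ((α * y * α⁻¹) w = w ∧ y (α w) = α w)) :
    y w = w := by
  obtain ⟨d, hd, h2, h3⟩ := orb_prod (D := MulAction.stabilizer (GLv V) w ⊓ centralizer {y}) hc hK
    fun α hα e => ⟨((h1 α hα).resolve_left fun k => e k.1).1,
      mem_centralizer_singleton_iff.2 (by simpa using (hc α hα 1 (one_mem _)).eq)⟩
  obtain ⟨u, hu, h4⟩ := orb_sum (B := B) (W := fx y) fun α hα e =>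
    mem_fx.2 ((h1 α hα).resolve_left fun k => e k.2).2
  have h5 := h.g2 _ (hF h2) (M1.odd_orderOf_of_mem hodd h2) h3 _ h4
  have h6 : d w = w := hd.1
  have h7 : d u ∈ fx y := Inv.fx_comm (mem_centralizer_singleton_iff.1 hd.2) u hu
  rw [gmul, map_add, h6, map_add, mem_fx.1 h7] at h5
  have yo : Odd (orderOf y) := M1.odd_orderOf_of_mem hodd (by simpa using hK 1 (one_mem _))
  have h8 : y w - w ∈ cm ⊤ y ⊓ fx y := ⟨sub_mem_cm y trivial, by
    rw [show y w - w = u - d u by rw [sub_eq_sub_iff_add_eq_add, h5, add_comm]]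
    exact sub_mem hu h7⟩
  rwa [cm_inf_fx yo, Submodule.mem_bot, sub_eq_zero] at h8

theorem LN.noOm (h : LN B Y) (hF : F ≤ Y) (hodd : Odd (Nat.card F)) (hn : Group.IsNilpotent F)
    (hB : B ≤ normalizer (F : Set (GLv V))) (x : GLv V) : ¬ Om F x := fun hx => by
  obtain ⟨w, hw, w0, hxw⟩ := om_exists hx
  refine hxw (h.orb hF hodd (fun α hα => (Om.conj hB hx hα).1.mem)
    (fun α hα β hβ => Om.comm hn (Om.conj hB hx hα).1 (Om.conj hB hx hβ).1) fun α hα => ?_)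
  obtain ⟨h2, h3⟩ := Om.conj hB hx hα
  rcases Om.pair hodd hn hx h2 with h4 | h4
  · refine .inl ⟨h4.elim id fun e => ?_, om_fix_of_coprime hx (h.odd α hα)
      (hx.ord ▸ h.cop α hα x (hF hx.mem)) h4 hw w0⟩
    exact mul_inv_eq_iff_eq_mul.2 (comm_of_odd_of_inv (h.odd α hα) e)
  · exact .inr ⟨mem_fx.1 (h4.1 hw), mem_fx.1 (h4.2.1 (h3 ▸ Submodule.mem_map_of_mem hw))⟩

/-- The hypotheses on the quadratic group `Q`. -/
structure QH (F Q : Subgroup (GLv V)) : Prop where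
  odd : Odd (Nat.card F)
  nil : Group.IsNilpotent F
  nrm : Q ≤ normalizer (F : Set (GLv V))
  om : ∀ x, ¬ Om F x
  quad : cmS ⊤ Q ≤ fxS Q

/-- The small involutions of `Q`. -/
def Sm (Q : Subgroup (GLv V)) (s : GLv V) : Prop := s ∈ Q ∧ s ≠ 1 ∧ finrank (ZMod 2) (cm ⊤ s) ≤ 2

omit [Finite V] in
theorem Sm.conj (h : Sm Q s) (hg : g ∈ normalizer (Q : Set (GLv V))) : Sm Q (g * s * g⁻¹) :=
  ⟨conj_mem_of_mem_normalizer hg h.1, fun e => h.2.1 (conj_eq_one_iff.1 e), by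
    rw [cm_top_conj, finrank_map_gl]; exact h.2.2⟩

namespace QH

omit [Finite V] in
theorem qq (h : QH F Q) (hs : s ∈ Q) (ht : t ∈ Q) : cm ⊤ s ≤ fx t :=
  (cm_le_cmS ⊤ hs).trans (h.quad.trans (fxS_le ht))

omit [Finite V] in
theorem sq (h : QH F Q) (hs : s ∈ Q) : s * s = 1 := LinearEquiv.ext fun v => by
  have := mem_fx.1 (h.qq hs hs (sub_mem_cm s (Submodule.mem_top (x := v))))
  rw [map_sub, sub_eq_iff_eq_add, sub_add_eq_add_sub, add_self_v, zero_sub, neg_v] at this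
  exact this

theorem dims (h : QH F Q) (hs : Sm Q s) (hd : d ∈ invertedBy F s) (d0 : d ≠ 1) :
    finrank (ZMod 2) (cm ⊤ d) = 4 ∧ finrank (ZMod 2) (cm ⊤ s) = 2 ∧
      cm ⊤ s ⊔ (cm ⊤ s).map (d : V →ₗ[ZMod 2] V) = cm ⊤ d := by
  have d1 := M1.odd_orderOf_of_mem h.odd hd.1
  obtain ⟨a1, -, a7⟩ := free_top (h.sq hs.1) d1 hd.2 (Inv.top s) (Inv.top d)
  have a2 : cm (cm ⊤ d) s ≤ cm ⊤ s := cm_mono le_top s
  have a3 := Submodule.finrank_mono a2
  have a4 : finrank (ZMod 2) (cm ⊤ d) ≠ 0 := fun e =>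
    d0 (fx_eq_top.1 (top_le_iff.1 (cm_eq_bot.1 (Submodule.finrank_eq_zero.1 e))))
  have a5 : finrank (ZMod 2) (cm ⊤ d) ≠ 2 := fun e => h.om d (om_of_two hd.1 d1 e)
  have a6 := hs.2.2
  have a8 := Submodule.eq_of_le_of_finrank_le a2 (by omega)
  rw [a8] at a7
  exact ⟨by omega, by omega, a7⟩

theorem eq_of_inv (h : QH F Q) (hs : Sm Q s) (ht : Sm Q t) (h1 : d ∈ invertedBy F s)
    (h2 : d ∈ invertedBy F t) (d0 : d ≠ 1) : s = t := by
  have d1 := M1.odd_orderOf_of_mem h.odd h1.1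
  have e : t * s⁻¹ * d = d * (t * s⁻¹) :=
    mul_inv_eq_iff_eq_mul.1 (M1.conj_mm h2.2 (M1.inv_conj_m h1.2))
  have a1 : cm ⊤ (t * s⁻¹) ≤ fx d := le_fx_of_inv d1 h2.2 (Inv.cm_comm e.symm (Inv.top d))
    (h.qq (mul_mem ht.1 (inv_mem hs.1)) ht.1)
  have a2 : cm ⊤ d ≤ fx (t * s⁻¹) := cm_eq_bot.1 (le_bot_iff.1
    ((le_inf (Inv.cm_comm e (Inv.top _)).cm_le ((cm_mono le_top _).trans a1)).trans
      (cm_inf_fx d1 ⊤).le))
  have a3 : fx d ≤ fx (t * s⁻¹) := (le_inf (qd_small h.om h1.1 d0 d1 (h.sq ht.1) h2.2 ht.2.2)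
    ((qd_small h.om h1.1 d0 d1 (h.sq hs.1) h1.2 hs.2.2).trans (fx_inv s).ge)).trans
      (inf_fx_le_mul _ _)
  exact (mul_inv_eq_one.1 (fx_eq_top.1 (top_le_iff.1 ((cm_sup_fx d1).ge.trans (sup_le a2 a3))))).symm

theorem comm_inv (h : QH F Q) (hs : Sm Q s) (ht : Sm Q t) (hne : s ≠ t) (hd : d ∈ invertedBy F t) :
    Commute s d := by
  have o : ∀ {x}, Sm Q x → orderOf x = 2 := fun hx =>
    orderOf_eq_prime (by rw [pow_two, h.sq hx.1]) hx.2.1
  have h1 := PD.wielandt_inv_mul h.odd (o hs) (o ht) hne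
    (M1.comm_of_sq (fun _ => h.sq) hs.1 ht.1) (h.nrm hs.1) (h.nrm ht.1)
  have h2 : invertedBy (F ⊓ centralizer {s * t}) t = {1} := by
    refine Set.eq_singleton_iff_unique_mem.2 ⟨⟨one_mem _, by simp⟩, fun x hx => ?_⟩
    by_contra x0
    refine hne (h.eq_of_inv hs ht ⟨hx.1.1, ?_⟩ ⟨hx.1.1, hx.2⟩ x0)
    have := M1.conj_pm (mul_inv_eq_iff_eq_mul.2 (mem_centralizer_singleton_iff.1 hx.1.2).symm) hx.2
    rwa [mul_assoc s, h.sq ht.1, mul_one] at this
  rw [h2, Set.ncard_singleton, mul_one] at h1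
  have h3 : invertedBy (F ⊓ centralizer {s}) t = invertedBy F t :=
    Set.eq_of_subset_of_ncard_le (fun x hx => ⟨hx.1.1, hx.2⟩) h1.le
  rw [← h3] at hd
  exact (mem_centralizer_singleton_iff.1 hd.1.2).symm

theorem comm_cl (h : QH F Q) (hs : Sm Q s) (ht : Sm Q t) (hne : s ≠ t)
    (hd : d ∈ closure (invertedBy F t)) : Commute s d :=
  (mem_centralizer_singleton_iff.1 ((closure_le (centralizer {s})).2 (fun _ hx =>
    mem_centralizer_singleton_iff.2 (h.comm_inv hs ht hne hx).symm) hd)).symm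

theorem fix_cl (h : QH F Q) (hs : Sm Q s) (ht : Sm Q t) (hne : s ≠ t)
    (hd : d ∈ closure (invertedBy F t)) {v : V} (hv : v ∈ cm ⊤ s) : d v = v :=
  (closure_le (MulAction.stabilizer (GLv V) v)).2 (fun x hx => mem_fx.1
    (le_fx_of_inv (M1.odd_orderOf_of_mem h.odd hx.1) hx.2
      (Inv.cm_comm (h.comm_inv hs ht hne hx).symm (Inv.top x)) (h.qq hs.1 ht.1) hv)) hd

theorem comm_zs (h : QH F Q) (hs : Sm Q s) (ht : Sm Q t)
    (hz : z ∈ closure (invertedBy F s) ⊓ centralizer (invertedBy F s))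
    (hd : d ∈ closure (invertedBy F t)) : Commute z d := by
  refine (mem_centralizer_singleton_iff.1 ((closure_le (centralizer {z})).2 (fun x hx =>
    mem_centralizer_singleton_iff.2 ?_) hd)).symm
  by_cases e : s = t
  · exact hz.2 x (e ▸ hx)
  refine mem_centralizer_singleton_iff.1 ((closure_le (centralizer {x})).2 (fun c hc =>
    mem_centralizer_singleton_iff.2 ?_) hz.1) |>.symm
  have c1 := h.comm_inv ht hs (Ne.symm e) hc
  have c2 := h.comm_inv hs ht e hx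
  have c3 := h.comm_inv ht hs (Ne.symm e) (d := x * c * x⁻¹)
    ⟨mul_mem (mul_mem hx.1 hc.1) (inv_mem hx.1), by
      calc s * (x * c * x⁻¹) * s⁻¹ = (s * x * s⁻¹) * (s * c * s⁻¹) * (s * x * s⁻¹)⁻¹ := by group
        _ = _ := by rw [hc.2, c2.eq]; group⟩
  have c4 : Commute (x * x) c := by
    have : x * c * x⁻¹ = x⁻¹ * c * x := by
      calc x * c * x⁻¹ = t * (x * c * x⁻¹) * t⁻¹ := by rw [c3.eq]; group
        _ = (t * x * t⁻¹) * (t * c * t⁻¹) * (t * x * t⁻¹)⁻¹ := by group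
        _ = _ := by rw [hx.2, c1.eq]; group
    calc x * x * c = x * (x * c * x⁻¹) * x := by group
      _ = c * (x * x) := by rw [this]; group
  obtain ⟨n, hn⟩ := mem_zpowers_sq (M1.odd_orderOf_of_mem h.odd hx.1)
  rw [← hn]
  exact (c4.zpow_left n).symm

end QH

omit [Finite V] in
theorem conj_iv (hg : g ∈ normalizer (F : Set (GLv V))) (hd : d ∈ invertedBy F s) :
    g * d * g⁻¹ ∈ invertedBy F (g * s * g⁻¹) :=
  ⟨conj_mem_of_mem_normalizer hg hd.1, by
    calc _ = g * (s * d * s⁻¹) * g⁻¹ := by group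
      _ = _ := by rw [hd.2]; group⟩

omit [Finite V] in
theorem conj_zs (hg : g ∈ normalizer (F : Set (GLv V)))
    (hz : z ∈ closure (invertedBy F s) ⊓ centralizer (invertedBy F s)) :
    g * z * g⁻¹ ∈ closure (invertedBy F (g * s * g⁻¹)) ⊓ centralizer (invertedBy F (g * s * g⁻¹)) := by
  refine ⟨conj_mem_conjS.1 (?_ : _ ∈ conjS g⁻¹ _), fun x hx => ?_⟩
  · rw [show g⁻¹ * (g * z * g⁻¹) * g⁻¹⁻¹ = z by group]
    refine (closure_le _).2 (fun x hx => mem_conjS.2 (subset_closure ?_)) hz.1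
    simpa using conj_iv hg hx
  · have := hz.2 _ (by simpa [mul_assoc] using conj_iv (inv_mem hg) hx : g⁻¹ * x * g ∈ _)
    calc x * (g * z * g⁻¹) = g * (g⁻¹ * x * g * z) * g⁻¹ := by group
      _ = _ := by rw [this]; group

/-- The elements of `Z([F, t])` inverted by `t` are centralized by the operators of odd order. -/
theorem QH.cent_inv (h : QH F Q) (ht : Sm Q t)
    (hy : y ∈ closure (invertedBy F t) ⊓ centralizer (invertedBy F t)) (hi : t * y * t⁻¹ = y⁻¹)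
    (hg : g ∈ normalizer (F : Set (GLv V))) (gt : g * t * g⁻¹ = t) (go : Odd (orderOf g)) :
    g * y * g⁻¹ = y := by
  have PF : closure (invertedBy F t) ≤ F := (closure_le F).2 fun x hx => hx.1
  let J : Subgroup (GLv V) :=
    { carrier := {x | x ∈ closure (invertedBy F t) ⊓ centralizer (invertedBy F t) ∧
        t * x * t⁻¹ = x⁻¹}
      one_mem' := ⟨one_mem _, by simp⟩
      mul_mem' := fun {a b} ha hb => ⟨mul_mem ha.1 hb.1, by
        rw [← conj_mul, ha.2, hb.2, ← mul_inv_rev, (h.comm_zs ht ht ha.1 hb.1.1).eq]⟩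
      inv_mem' := fun {a} ha => ⟨inv_mem ha.1, by rw [← conj_inv, ha.2]⟩ }
  by_cases y0 : y = 1
  · simp [y0]
  have yI : ∀ x ∈ J, x ∈ invertedBy F t := fun x hx => ⟨PF hx.1.1, hx.2⟩
  obtain ⟨d1, -, d3⟩ := h.dims ht (yI y ⟨hy, hi⟩) y0
  have hJ : Nat.card J ∣ 15 := by
    have := PD.card_dvd_of_free_set J ((cm ⊤ y : Set V) \ {0}) (fun x hx v hv =>
      ⟨Inv.cm_comm (h.comm_zs ht ht hx.1 hy.1).eq (Inv.top x) v hv.1,
        fun e => hv.2 (x.map_eq_zero_iff.1 e)⟩) fun x hx v hv e => by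
      by_contra x0
      obtain ⟨-, -, e3⟩ := h.dims ht (yI x hx) x0
      have l1 : cm ⊤ t ≤ cm ⊤ x := e3 ▸ le_sup_left
      have l2 : cm ⊤ y ≤ cm ⊤ x := d3 ▸ sup_le l1 ((Submodule.map_mono l1).trans
        (Inv.cm_comm (h.comm_zs ht ht hy hx.1.1).eq (Inv.top y)).map_le)
      exact hv.2 ((Submodule.mem_bot _).1 ((cm_inf_fx (M1.odd_orderOf_of_mem h.odd (yI x hx).1) ⊤).le
        ⟨l2 hv.1, mem_fx.2 e⟩))
    rwa [Set.ncard_sdiff_singleton_of_mem (cm ⊤ y).zero_mem, ← Nat.card_coe_set_eq,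
      show Nat.card ((cm ⊤ y : Submodule (ZMod 2) V) : Set V) = 2 ^ 4 by
        rw [← d1]
        simpa [Nat.card_zmod] using Module.natCard_eq_pow_finrank (K := ZMod 2) (V := cm ⊤ y)] at this
  have z1 : IsZGroup J := IsZGroup.of_squarefree
    (Squarefree.squarefree_of_dvd hJ (by decide +kernel))
  have z2 := h.nil
  have z3 : Group.IsNilpotent J := Group.nilpotent_of_mulEquiv
    (subgroupOfEquivOfLe (fun x hx => (yI x hx).1 : J ≤ F))
  have gJ : g ∈ normalizer (J : Set (GLv V)) := mem_normalizer_fintype fun x hx =>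
    ⟨by simpa only [gt] using conj_zs hg hx.1, by
      simpa only [gt] using (conj_iv hg (yI x hx)).2⟩
  let φ := J.normalizerMonoidHom ⟨g, gJ⟩
  have o1 : orderOf φ ∣ 8 := (orderOf_dvd_natCard φ).trans (by
    rw [IsCyclic.card_mulAut]
    have : Nat.card J ∈ Nat.divisors 15 := Nat.mem_divisors.2 ⟨hJ, by norm_num⟩
    generalize Nat.card J = n at this
    revert n; decide +kernel)
  have o2 : orderOf φ ∣ orderOf g :=
    (orderOf_map_dvd _ _).trans (by rw [← orderOf_coe])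
  have o3 : φ = 1 := orderOf_eq_one_iff.1 (Nat.eq_one_of_dvd_coprimes
    (by simpa using (Nat.coprime_two_left.2 go).pow_left 3 : Nat.Coprime 8 (orderOf g)) o1 o2)
  exact congrArg Subtype.val (show φ ⟨y, hy, hi⟩ = ⟨y, hy, hi⟩ by rw [o3]; rfl)

/-- An invariant quadratic group contains no small involution. -/
theorem LN.quad (l : LN B Y) (h : QH F Q) (FY : F ≤ Y) (QY : Q ≤ Y)
    (BF : B ≤ normalizer (F : Set (GLv V))) (BQ : B ≤ normalizer (Q : Set (GLv V)))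
    (hf : Q ⊓ centralizer (F : Set (GLv V)) = ⊥) : ¬ Sm Q t := fun ht => by
  have PF : ∀ s, closure (invertedBy F s) ≤ F := fun s => (closure_le F).2 fun x hx => hx.1
  have t2 := h.sq ht.1
  have ti : t⁻¹ = t := inv_eq_of_mul_eq_one_right t2
  have ci : ∀ f, t * ⁅f, t⁆ * t⁻¹ = ⁅f, t⁆⁻¹ := fun f => by
    rw [commutatorElement_inv, commutatorElement_def, commutatorElement_def, ti, mul_assoc,
      mul_assoc (f * t * f⁻¹), t2]; group
  obtain ⟨d, hd, d0⟩ : ∃ d ∈ invertedBy F t, d ≠ 1 := by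
    by_contra! hh
    refine ht.2.1 (mem_bot.1 (hf.le ⟨ht.1, fun f hf' =>
      commutatorElement_eq_one_iff_mul_comm.1 (hh _ ⟨?_, ci f⟩)⟩))
    rw [commutatorElement_def, mul_assoc, mul_assoc, ← mul_assoc t]
    exact mul_mem hf' (conj_mem_of_mem_normalizer (h.nrm ht.1) (inv_mem hf'))
  have sm := fun α (hα : α ∈ B) => ht.conj (BQ hα)
  have zc := fun α (hα : α ∈ B) {z} => conj_zs (s := t) (z := z) (BF hα)
  by_cases hb : ∃ z ∈ closure (invertedBy F t) ⊓ centralizer (invertedBy F t), ⁅z, t⁆ ≠ 1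
  · obtain ⟨z, hz, y0⟩ := hb
    have hy : ⁅z, t⁆ ∈ closure (invertedBy F t) ⊓ centralizer (invertedBy F t) := by
      have := conj_zs (h.nrm ht.1) (inv_mem hz)
      rw [mul_inv_cancel_right] at this
      rw [commutatorElement_def, mul_assoc, mul_assoc, ← mul_assoc t]
      exact mul_mem hz this
    have hi := ci z
    generalize ⁅z, t⁆ = y at hy hi y0
    obtain ⟨c, hc, n1, n2⟩ := orb_prod (L := B) (K := F) (D := centralizer {t}) (w := y)
      (fun α hα β hβ => h.comm_zs (sm α hα) (sm β hβ) (zc α hα hy) (zc β hβ hy).1)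
      (fun α hα => PF _ (zc α hα hy).1) fun α hα e => mem_centralizer_singleton_iff.2
        (h.comm_cl ht (sm α hα) (fun k => e (h.cent_inv ht hy hi (BF hα) k.symm (l.odd α hα)))
          (zc α hα hy).1).symm
    obtain ⟨c', hc', p1, p2⟩ := orb_prod (L := B) (K := Q) (D := centralizer {y}) (w := t)
      (fun α hα β hβ => M1.comm_of_sq (fun _ => h.sq) (sm α hα).1 (sm β hβ).1)
      (fun α hα => (sm α hα).1) fun α hα e => mem_centralizer_singleton_iff.2
        (h.comm_cl (sm α hα) ht e hy.1)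
    have k1 := l.g1 _ (QY p1) (h.sq p1) _ (FY n1) (M1.odd_orderOf_of_mem h.odd n1) p2 n2
    have k2 : Commute (t * c') t := M1.comm_of_sq (fun _ => h.sq) p1 ht.1
    have k3 : y * c * (t * (y * c)⁻¹ * t⁻¹) = y * y := by
      rw [← conj_inv, ← conj_mul, hi, ← mem_centralizer_singleton_iff.1 hc]; group
    have yo := M1.odd_orderOf_of_mem h.odd (PF t hy.1)
    obtain ⟨n, hn⟩ := mem_zpowers_sq yo
    have k4 : Commute (t * c') y := by
      rw [← hn, ← k3]
      exact (k1.mul_right ((k2.mul_right k1.inv_right).mul_right k2.inv_right)).zpow_right n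
    refine y0 (M1.eq_one_of_odd_of_inv yo ?_)
    calc y = t * c' * y * (t * c')⁻¹ := by rw [k4.eq]; group
      _ = y⁻¹ := by rw [mul_assoc t, mem_centralizer_singleton_iff.1 hc', ← hi]; group
  push Not at hb
  obtain ⟨-, l2, -⟩ := h.dims ht hd d0
  have zl : ∀ z ∈ closure (invertedBy F t) ⊓ centralizer (invertedBy F t), Inv (cm ⊤ t) z :=
    fun z hz => Inv.cm_comm (commutatorElement_eq_one_iff_mul_comm.1 (hb z hz)) (Inv.top z)
  have key : ∀ z ∈ closure (invertedBy F t) ⊓ centralizer (invertedBy F t), ∀ v ∈ cm ⊤ t, v ≠ 0 →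
      z v = v → z = 1 := fun z hz v hv v0 e => by
    have zo := M1.odd_orderOf_of_mem h.odd (PF t hz.1)
    have k1 : cm ⊤ t ≤ fx z := fun u hu => mem_fx.2 (by
      by_cases u0 : u = 0
      · rw [u0, map_zero]
      by_cases uv : u = v
      · rw [uv, e]
      rcases two_dim l2 hv hu v0 u0 uv (zl z hz u hu) with k | k | k | k
      · exact absurd (z.map_eq_zero_iff.1 k) u0
      · exact absurd (z.injective (k.trans e.symm)) uv
      · exact k
      · exact fix_of_sq zo (by rw [k, map_add, e, k, ← add_assoc, add_self_v, zero_add]))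
    let R : Subgroup (GLv V) :=
      { carrier := {x | cm ⊤ x ≤ fx z}
        one_mem' := (cm_eq_bot.2 (fx_eq_top.2 rfl).ge).le.trans bot_le
        mul_mem' := fun {a b} ha hb => (cm_mul_le a b).trans (sup_le ha hb)
        inv_mem' := fun {a} ha => (cm_top_inv a).le.trans ha }
    refine eq_one_of_cm_le zo ((closure_le R).2 (fun x hx => ?_) hz.1)
    by_cases x0 : x = 1
    · exact x0 ▸ R.one_mem
    obtain ⟨-, -, e3⟩ := h.dims ht hx x0
    exact e3.ge.trans (sup_le k1 ((Submodule.map_mono k1).trans (Inv.fx_comm (hz.2 x hx)).map_le))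
  obtain ⟨z, hz, z0⟩ : ∃ z ∈ closure (invertedBy F t) ⊓ centralizer (invertedBy F t), z ≠ 1 := by
    have := h.nil
    have : Group.IsNilpotent (closure (invertedBy F t)) :=
      Group.nilpotent_of_mulEquiv (subgroupOfEquivOfLe (PF t))
    have : Nontrivial (closure (invertedBy F t)) :=
      ⟨⟨⟨d, subset_closure hd⟩, 1, fun e => d0 (congrArg Subtype.val e)⟩⟩
    obtain ⟨⟨z, hz⟩, z0⟩ := ne_bot_iff_exists_ne_one.1
      (Group.IsNilpotent.center_ne_bot (G := closure (invertedBy F t)))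
    exact ⟨z, ⟨z.2, fun x hx => congrArg Subtype.val
      (mem_center_iff.1 hz ⟨x, subset_closure hx⟩)⟩, fun e => z0 (Subtype.ext (Subtype.ext e))⟩
  obtain ⟨w, hw, w0⟩ := (Submodule.ne_bot_iff (cm ⊤ t)).1 fun e => by
    rw [e, finrank_bot] at l2; omega
  have zw : z w ≠ w := fun e => z0 (key z hz w hw w0 e)
  have fp : cm ⊤ t ⊓ fx z = ⊥ := eq_bot_iff.2 fun v hv => by
    by_contra v0
    exact z0 (key z hz v hv.1 v0 (mem_fx.1 hv.2))
  have sq := sq_of_two_dim l2 (zl z hz) fp hw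
  have z3 : z * z * z = 1 := key _ (mul_mem (mul_mem hz hz) hz) w hw w0 (cube_of_sq sq)
  have o3 : orderOf z = 3 := orderOf_eq_prime (by rw [pow_three', z3]) z0
  have zw0 : z w ≠ 0 := fun e => w0 (z.map_eq_zero_iff.1 e)
  refine zw (l.orb FY h.odd (fun α hα => PF _ (zc α hα hz).1)
    (fun α hα β hβ => h.comm_zs (sm α hα) (sm β hβ) (zc α hα hz) (zc β hβ hz).1) fun α hα => ?_)
  by_cases e : α * t * α⁻¹ = t
  swap
  · refine .inr ⟨h.fix_cl ht (sm α hα) (Ne.symm e) (zc α hα hz).1 hw,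
      h.fix_cl (sm α hα) ht e hz.1 ?_⟩
    rw [cm_top_conj]; exact Submodule.mem_map_of_mem hw
  have hz' := zc α hα hz
  rw [e] at hz'
  have e1 : α * z * α⁻¹ = z := by
    rcases two_dim l2 hw (zl z hz w hw) w0 zw0 zw (zl _ hz' w hw) with k | k | k | k
    · exact absurd ((α * z * α⁻¹).map_eq_zero_iff.1 k) w0
    · exact absurd (conj_eq_one_iff.1 (key _ hz' w hw w0 k)) z0
    · exact (inv_mul_eq_one.1 (key _ (mul_mem (inv_mem hz) hz') w hw w0
        (by rw [gmul, k, ginv]))).symm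
    · refine mul_inv_eq_iff_eq_mul.2 (comm_of_odd_of_inv (l.odd α hα)
        (eq_inv_of_mul_eq_one_right (key _ (mul_mem hz hz') w hw w0 ?_)))
      rw [gmul, k, ← sq]; exact cube_of_sq sq
  have c := mul_inv_eq_iff_eq_mul.1 e1
  have k3 : (α ^ 3) w = w → α w = w := fun k =>
    mem_fx.1 (fx_le_zpowers (mem_zpowers_pow_iff.2 (o3 ▸ l.cop α hα z (FY (PF t hz.1))))
      (mem_fx.2 k))
  have a1 : ∀ v, α (z v) = z (α v) := gcomm c
  refine .inl ⟨e1, ?_⟩
  rcases two_dim l2 hw (zl z hz w hw) w0 zw0 zw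
    (Inv.cm_comm (mul_inv_eq_iff_eq_mul.1 e) (Inv.top α) w hw) with k | k | k | k
  · exact absurd (α.map_eq_zero_iff.1 k) w0
  · exact k
  · exact k3 (by rw [pow_three', gmul, gmul]; simp only [a1, k]; exact cube_of_sq sq)
  · rw [← sq] at k
    exact k3 (by rw [pow_three', gmul, gmul]; simp only [a1, k, cube_of_sq sq])

end CfsgLib.CNil
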