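import Cfsg.Agent.Lib.CNil.Main0
import Cfsg.Agent.Lib.CNil.JJMain
import Cfsg.Agent.Lib.FPD.Main

/-!
Coprime operator groups with nilpotent fixed point subgroup: the theorem.
-/

set_option autoImplicit false

namespace CfsgLib.CNil

universe u

theorem coreM : FPD.CoreM.{u} := coreM_of_end fun _ _ _ _ _ _ h _ _ _ _ _ _ _ _ _ l hq => h.big l hq

end CfsgLib.CNil
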