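import Cfsg.Agent.Lib.CNil.Q2
import Cfsg.Agent.Lib.CNil.Nc
import Cfsg.Agent.Lib.OFP.T2Gen

/-!
Coprime operator groups with nilpotent fixed point subgroup: reduction to the case of the larger fields.
-/

set_option autoImplicit false

open Subgroup Cfsg CfsgLib.LAE CfsgLib.OFP CfsgLib.Cop CfsgLib.Blocks

universe u

namespace CfsgLib.CNil

variable {X : Type u} [Group X] [Finite X] {A G S : Subgroup X}

/-- The endgame for the larger fields. -/
def EndQ (G S : Subgroup X) : Prop :=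
  ∀ (F : Type) [Field F] [Fintype F] [CharP F 2] (B Q P V V₀ : Subgroup X),
    Lf F G (G ⊓ 𝒩[vv G S]) S B Q P V V₀ → 2 < Fintype.card F → False

theorem FN.false_of_end (h : FN A G S) (eq : EndQ G S) : False := by
  refine h.false_of_good (step2g h.syl h.SM inf_le_left h.AS (fun _ h1 h2 h3 h4 => h.loc_inv h1 h2 h3 h4)
    (fun _ h1 => h.loc_cz h1) (fun F _ _ _ B Q P V V₀ a w k b _ _ _ s => ?_)
    fun F _ _ _ B Q P V V₀ l hq _ => eq F B Q P V V₀ l hq)
  refine h.cf2 s.toSm s.BS s.kG s.hm s.hc fun C h1 h2 h3 h4 => ?_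
  exact s.bad C h1 h2 h3 (s.BS.trans (le_sup_left.trans h4))
    (h.loc_inv (h2.trans (s.QB.trans s.BS)) (fun e => s.w1 (mem_bot.1 (e ▸ h1 (right_mem_WW _ _))))
      (le_sup_left.trans h4) (le_sup_right.trans h4))

theorem coreM_of_end
    (eq : ∀ (X : Type u) [Group X] [Finite X] (A G S : Subgroup X), FN A G S → EndQ G S) :
    FPD.CoreM.{u} :=
  coreM_of (fun _ _ _ _ _ a b c => NC.noOm ⟨a, b, c⟩) (fun _ _ _ _ _ _ a b c => NC.vv ⟨a, b, c⟩)
    fun X _ _ A G S h => h.false_of_end (eq X A G S h)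

end CfsgLib.CNil
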