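import Cfsg.Agent.Lib.CNil.Frame
import Cfsg.Agent.Lib.CNil.Tr
import Cfsg.Agent.Lib.Cop.Cf2
import Cfsg.Agent.Lib.OFP.EndN

/-!
Coprime operator groups with nilpotent fixed point subgroup: the field with two elements.
-/

set_option autoImplicit false
set_option linter.unusedSectionVars false

namespace CfsgLib.CNil

open Subgroup Cfsg CfsgLib.LAE CfsgLib.Push CfsgLib.Blocks CfsgLib.ZJ CfsgLib.OFP CfsgLib.Cop
open scoped commutatorElement

universe u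

theorem blk_map {Γ Δ : Type*} [Group Γ] [Group Δ] [Finite Γ] [Finite Δ] {f : Γ →* Δ} {Q : Subgroup Γ}
    {a w k : Γ} (hf : Function.Injective f) (h : Blk Q a w k) : Blk (Q.map f) (f a) (f w) (f k) := by
  refine ⟨mem_map_of_mem f h.aQ, mem_map_of_mem f h.wQ, cf2_cent' h.ac, cf2_cent' h.wc,
    by rw [← map_mul, h.aa, map_one], by rw [← map_mul, h.ww, map_one],
    fun e => h.w1 (hf (by rw [e, map_one])), fun e => h.aw (hf e),
    le_normalizer_map f (mem_map_of_mem f h.kN), by rw [← map_inv, ← map_mul, ← map_mul, h.kw],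
    by rw [← map_inv, ← map_mul, ← map_mul, h.ka, map_mul], ?_⟩
  rintro _ ⟨x, hx, rfl⟩
  rw [← cf2_WW, ← map_commutatorElement]
  exact mem_map_of_mem f (h.kQ x hx)

variable {X : Type u} [Group X] [Finite X] {A G S B Q R D : Subgroup X} {a w k b t σ n : X}

/-- The conjugates of `W` under `A` do not all lie in the block `R`. -/
theorem FN.q2_end (h : FN A G S) (l : Blk R a w k) (RS : R ≤ S) (kG : k ∈ G) (bG : b ∈ G)
    (bb : b * b = 1) (ba : b * a * b⁻¹ = a * w) (bw : Commute b w)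
    (hb : ∀ x ∈ R, Commute b (x * a) ∨ Commute b x) (hU : nclIn (WW a w) A ≤ R) : False := by
  set U := nclIn (WW a w) A with eU
  have WU : WW a w ≤ U := le_nclIn _ _
  have aU : a ∈ U := WU (left_mem_WW a w)
  have wU : w ∈ U := WU (right_mem_WW a w)
  have AU : A ≤ 𝒩[U] := le_normalizer_nclIn _ _
  have UZ : U ≤ omegaZ 2 U := nclIn_le (fun x hx => mem_omegaZ.2 ⟨WU hx,
    centralizer_le (SetLike.coe_subset_coe.2 hU) (l.Wc hx), by
      rcases l.mem.1 hx with rfl | rfl | rfl | rfl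
      · simp
      · rw [sq, l.aa]
      · rw [sq, l.ww]
      · rw [l.comm.mul_pow, sq, sq, l.aa, l.ww, one_mul]⟩) (AU.trans (normalizer_le_normalizer_omegaZ U))
  have kU : k ∈ 𝒩[U] := mem_normalizer_of_conjS_le (conjS_le_iff_forall.2 fun x hx => by
    have := mul_mem (WU (l.kQ x (hU hx))) hx
    rwa [commutatorElement_def, inv_mul_cancel_right] at this)
  have bU : b ∈ 𝒩[U] := mem_normalizer_of_conjS_le (conjS_le_iff_forall.2 fun x hx => by
    rcases hb x (hU hx) with e | e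
    · rw [show b * x * b⁻¹ = b * (x * a) * b⁻¹ * (b * a * b⁻¹)⁻¹ by group, e.mul_inv_cancel, ba]
      exact mul_mem (mul_mem hx aU) (inv_mem (mul_mem aU wU))
    · rwa [e.mul_inv_cancel])
  have i1 : (centralizer {b}).relIndex U ≤ 3 := (Nat.le_of_dvd two_pos (relIndex_dvd_two_iff.2
    ⟨a, aU, fun x hx => (hb x (hU hx)).imp (fun e => mem_centralizer_singleton_iff.2 e.symm)
      fun e => mem_centralizer_singleton_iff.2 e.symm⟩)).trans (by norm_num)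
  have i2 : (centralizer {k * b * k⁻¹}).relIndex U ≤ 3 := (Nat.le_of_dvd two_pos (relIndex_dvd_two_iff.2
    ⟨_, LAE.conj_mem_of_mem_normalizer kU aU, fun x hx =>
      (hb _ (hU (conj_inv_mem_of_mem_normalizer kU hx))).imp
        (fun e => mem_centralizer_singleton_iff.2 (by simpa [mul_assoc] using (e.conj k).symm.eq))
        fun e => mem_centralizer_singleton_iff.2
          (by simpa [mul_assoc] using (e.conj k).symm.eq)⟩)).trans (by norm_num)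
  have UG : U ≤ G := (hU.trans RS).trans h.syl.le
  obtain ⟨m, hm⟩ := tr_two h.om h.AG UG (fun u hu => by rw [← sq, (mem_omegaZ.1 (UZ hu)).2.2]) AU
    (h.solv_norm UG (h.syl.isPGroup.to_le (hU.trans RS)) (fun e => l.w1 (mem_bot.1 (e ▸ wU))) AU)
    (b' := k * b * k⁻¹) ⟨bG, bU⟩
    (mem_inf.2 ⟨mul_mem (mul_mem kG bG) (inv_mem kG), mul_mem (mul_mem kU bU) (inv_mem kU)⟩) bb
    (by rw [conj_mul, bb]; simp) i1 i2
  have baw : b * (a * w) * b⁻¹ = a := by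
    rw [← conj_mul, ba, bw.mul_inv_cancel, mul_assoc, l.ww, mul_one]
  obtain ⟨y, e1, e2⟩ := bk_cyc l.ww m (b * (k * b * k⁻¹)) a l.comm.symm (by
    calc _ = b * (k * (b * (k⁻¹ * (k * (a * w) * k⁻¹) * k) * b⁻¹) * k⁻¹) * b⁻¹ := by rw [l.kaw]; group
      _ = a := by rw [show k⁻¹ * (k * (a * w) * k⁻¹) * k = a * w by group, baw, l.ka, baw]) (by
    calc _ = b * (k * (b * (k⁻¹ * (k * w * k⁻¹) * k) * b⁻¹) * k⁻¹) * b⁻¹ := by rw [l.kw]; group
      _ = w * a := by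
        rw [show k⁻¹ * (k * w * k⁻¹) * k = w by group, bw.mul_inv_cancel, l.kw, ba, l.comm.eq])
  have e3 := hm w wU
  rw [← e3, mul_inv_cancel_right] at e1
  rw [← e1, ← e3, mul_inv_cancel_right, l.ww] at e2
  exact l.w1 e2

theorem sm_nQ (h : Sm B Q a w k b) (hn : n ∈ 𝒩[B]) (nw : n * w * n⁻¹ = w) (na : n * a * n⁻¹ ∈ Q) :
    n ∈ 𝒩[Q] := by
  refine inv_mem_iff.1 (mem_normalizer_of_conjS_le (conjS_le_iff_forall.2 fun y hy =>
    h.mem_Q (LAE.conj_mem_of_mem_normalizer (inv_mem hn) (h.QB hy)) ?_))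
  have : Commute y (n * a * n⁻¹) := by
    refine commutatorElement_eq_one_iff_commute.1 (h.toBlk.comm_eq_one hy na ?_)
    rcases cf2_key h hn (h.QB hy) (left_mem_WW a w) with e | e <;> rw [commutatorElement_def, e]
    · simp
    · rw [nw, h.wc _ na, mul_inv_cancel_right]; exact right_mem_WW a w
  simpa [mul_assoc] using this.conj n⁻¹

/-- Two conjugates of `a` outside `Q` commute. -/
theorem sm_out (h : Sm B Q a w k b) (hσ : σ ∈ 𝒩[B]) (hn : n ∈ 𝒩[B]) (h1 : σ * a * σ⁻¹ ∉ Q)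
    (h2 : n * a * n⁻¹ ∉ Q) : Commute (σ * a * σ⁻¹) (n * a * n⁻¹) := by
  obtain ⟨-, c1, -, c2⟩ := cf2_swap h hσ fun e => h1 (e (conj_mem_conjS.2 (left_mem_WW a w)))
  have c3 := LAE.conj_mem_of_mem_normalizer hn (h.QB h.aQ)
  have s1 : σ * a * σ⁻¹ * (σ * a * σ⁻¹) = 1 := by rw [conj_mul, h.aa]; simp
  have s2 : n * a * n⁻¹ * (n * a * n⁻¹) = 1 := by rw [conj_mul, h.aa]; simp
  generalize σ * a * σ⁻¹ = x at *
  generalize n * a * n⁻¹ = y at *
  obtain ⟨u, hu, d, hd, kd, e⟩ := h.toBlk.split (h.bk_mul c1 h1 c3 h2)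
  have xd := c2 d hd kd
  have e1 : x * (x * y) * x⁻¹ = x * u * x⁻¹ * d := by
    rw [e, ← conj_mul, xd.mul_inv_cancel]
  rcases h.bk_W c1 hu with e2 | e2 <;> rw [e2] at e1
  · rw [← e, mul_assoc, mul_assoc] at e1
    have e3 : x * (y * x⁻¹) = y := mul_left_cancel e1
    exact mul_inv_eq_iff_eq_mul.1 (by rw [mul_assoc, e3])
  · refine absurd (h.toBlk.eq_one (right_mem_WW a w) ?_) h.w1
    have e3 : x * (x * y) * x⁻¹ * (x * y) = 1 := by
      rw [← mul_assoc x x, s1, one_mul, mul_assoc, inv_mul_cancel_left, s2]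
    have ud : Commute u d := (h.toBlk.Wc hu d hd).symm
    have uu : u * u = 1 := by
      rcases h.toBlk.mem.1 hu with rfl | rfl | rfl | rfl
      · simp
      · exact h.aa
      · exact h.ww
      · rw [← h.toBlk.comm.mul_mul_mul_comm, h.aa, h.ww, one_mul]
    rw [e1, e, h.wc u (h.toBlk.WQ hu), mul_assoc, mul_assoc, ud.left_comm, ← mul_assoc u u, uu,
      one_mul] at e3
    rw [eq_inv_of_mul_eq_one_left e3]
    exact (kd.mul_right kd).inv_right

/-- The case that an element of `N_S(B)` moves `W` out of `Q`. -/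
theorem FN.q2_syl (h : FN A G S)
    (s : Sm B Q a w k b) (BS : B ≤ S) (kG : k ∈ G)
    (hm : ∀ (U T : Subgroup X) (k' : X), Q ≤ U → U ≤ S → k' ∈ G → k' ∈ 𝒩[U] → k'⁻¹ * k ∈ 𝒞[Q] → IsPGroup 2 T →
      T ≤ G → B ≤ T → T ≤ 𝒩[U] → bau 2 T = B)
    (σS : σ ∈ S) (hσ : σ ∈ 𝒩[B]) (hC : ¬ conjS σ (WW a w) ≤ Q) : False := by
  have hS := h.syl
  obtain ⟨h1, h2, h3, h4⟩ := cf2_swap s hσ hC
  have h' := s.change h2 h3
  have BG : B ≤ G := BS.trans hS.le
  have QG : Q ≤ G := s.QB.trans BG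
  have hf := G.subtype_injective
  have eS : (S.subgroupOf G).map G.subtype = S := map_subgroupOf_eq_of_le hS.le
  have eB : (B.subgroupOf G).map G.subtype = B := map_subgroupOf_eq_of_le BG
  have eQ : (Q.subgroupOf G).map G.subtype = Q := map_subgroupOf_eq_of_le QG
  have ho : Odd (Nat.card G.subtype.ker) := by rw [ker_subtype, card_bot]; exact odd_one
  have c : CfA (S.subgroupOf G) (B.subgroupOf G) (Q.subgroupOf G) ⟨a, QG s.aQ⟩ ⟨w, QG s.wQ⟩ ⟨k, kG⟩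
      ⟨σ * a * σ⁻¹, BG h2⟩ ⟨σ, hS.le σS⟩ := by
    refine ⟨cf2_sm hf (by rw [eB, eQ]; exact h'), subgroupOf_self G ▸ hS.subgroupOf le_rfl, comap_mono BS, ?_,
      fun d hd hc => cf2_comm hf (h4 _ hd (hc.map G.subtype)), σS, cf2_norm hf (by rw [eB]; exact hσ),
      Subtype.ext h1, rfl⟩
    intro U T k' u1 u2 u3 u4 pT t1 t2
    refine map_injective hf ?_
    rw [sec_bau ho pT, eB]
    refine hm (U.map G.subtype) _ k' (eQ ▸ map_mono u1) (eS ▸ map_mono u2) k'.2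
      (le_normalizer_map G.subtype (mem_map_of_mem _ u3)) ?_ (pT.map _) (map_subtype_le T) (eB ▸ map_mono t1)
      ((map_mono t2).trans (le_normalizer_map G.subtype))
    have := cf2_cent' (f := G.subtype) u4
    rwa [eQ] at this
  obtain ⟨D, hD⟩ := c.exists_ed
  have e := cf2_ed hf hD
  rw [eS] at e
  obtain ⟨k', l, -⟩ := c.q1
  have l' := blk_map hf l
  have eR : ((S.subgroupOf G) ⊓ 𝒞[WW (⟨a, QG s.aQ⟩ : G) ⟨w, QG s.wQ⟩]).map G.subtype = S ⊓ 𝒞[WW a w] :=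
    le_antisymm (by
      rintro _ ⟨x, hx, rfl⟩
      exact ⟨hx.1, mem_cent_WW.2 ⟨(mem_cent_WW.1 hx.2).1.map G.subtype,
        (mem_cent_WW.1 hx.2).2.map G.subtype⟩⟩) fun x hx => ⟨⟨x, hS.le hx.1⟩, ⟨hx.1,
      mem_cent_WW.2 ⟨cf2_comm hf (mem_cent_WW.1 hx.2).1, cf2_comm hf (mem_cent_WW.1 hx.2).2⟩⟩, rfl⟩
  rw [eR] at l'
  simp only [subtype_apply] at e l'
  generalize σ * a * σ⁻¹ = b at e
  obtain ⟨r, rS, rw', hr⟩ := e.exists_comm h.AS h.odd
  have l2 := l'.conj r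
  rw [rw'.mul_inv_cancel] at l2
  have rG := hS.le rS
  have m : ∀ {x}, x ∈ S → Commute (r * a * r⁻¹) x → Commute w x → x ∈ conjS r (S ⊓ 𝒞[WW a w]) :=
    fun {x} x1 x2 x3 => mem_conjS.2 ⟨S.mul_mem (S.mul_mem (S.inv_mem rS) x1) rS, mem_cent_WW.2
      ⟨by simpa [mul_assoc] using x2.conj r⁻¹, (rw'.symm.inv_right.mul_right x3).mul_right rw'.symm⟩⟩
  refine h.q2_end (b := r * b * r⁻¹) l2 (conjS_le_iff_forall.2 fun x hx => mul_mem (mul_mem rS hx.1) (inv_mem rS))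
    (mul_mem (mul_mem rG k'.2) (inv_mem rG)) (mul_mem (mul_mem rG (hS.le e.bS)) (inv_mem rG))
    (by rw [conj_mul, e.bb]; simp) (by
      calc _ = r * (b * a * b⁻¹) * r⁻¹ := by group
        _ = _ := by rw [e.ba, ← conj_mul, rw'.mul_inv_cancel])
    ((rw'.mul_left e.bw).mul_left rw'.inv_left) (fun x hx => ?_) (nclIn_le_iff.2 fun α hα => ?_)
  · obtain ⟨y, hy, rfl⟩ := exists_of_mem_conjS hx
    obtain ⟨u, hu, d, hd, rfl⟩ := e.cQ y hy.1 (mem_cent_WW.1 hy.2).1 (mem_cent_WW.1 hy.2).2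
    rw [conj_mul]
    refine Or.imp (fun c => Commute.conj c r) (fun c => Commute.conj c r) ?_
    have bd := e.Db d hd
    rw [mul_assoc, ← (e.Da d hd).eq, ← mul_assoc]
    rcases l'.mem.1 hu with rfl | rfl | rfl | rfl
    · exact .inr (by rwa [one_mul])
    · exact .inl (by rwa [e.aa, one_mul])
    · exact .inr (e.bw.mul_right bd)
    · exact .inl (by rw [e.aw.eq, mul_assoc w, e.aa, mul_one]; exact e.bw.mul_right bd)
  · have aS := LAE.conj_mem_of_mem_normalizer (h.AS hα) (mul_mem (mul_mem rS e.aS) (inv_mem rS))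
    have wS := LAE.conj_mem_of_mem_normalizer (h.AS hα) e.wS
    have c1 := (hr _ (inv_mem hα)).2.1.conj α
    rw [show α * (α⁻¹ * w * α⁻¹⁻¹) * α⁻¹ = w by group] at c1
    refine (conjS_le_iff.2 (WW_le.2 ⟨?_, ?_⟩))
    · exact mem_conjS.2 (by simpa using m aS (hr α hα).1 c1.symm)
    · exact mem_conjS.2 (by simpa using m wS (hr α hα).2.1 (hr α hα).2.2)

theorem pow_mem_sup (AS : A ≤ 𝒩[S]) (hσ : σ ∈ S ⊔ A) : σ ^ Nat.card A ∈ S := by
  obtain ⟨s, hs, α, hα, rfl⟩ := (mem_sup_iff_of_right_le_normalizer AS).1 hσ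
  have : ∀ m : ℕ, (s * α) ^ m * (α ^ m)⁻¹ ∈ S := fun m => by
    induction m with
    | zero => simp
    | succ m ih =>
      rw [show (s * α) ^ (m + 1) * (α ^ (m + 1))⁻¹ = s * (α * ((s * α) ^ m * (α ^ m)⁻¹) * α⁻¹) by
        rw [pow_succ', pow_succ']; group]
      exact mul_mem hs (LAE.conj_mem_of_mem_normalizer (AS hα) ih)
  simpa [orderOf_dvd_iff_pow_eq_one.1 (A.orderOf_dvd_natCard hα)] using this (Nat.card A)

/-- The configuration over the field with two elements does not occur. -/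
theorem FN.cf2 (h : FN A G S)
    (s : Sm B Q a w k b) (BS : B ≤ S) (kG : k ∈ G)
    (hm : ∀ (U T : Subgroup X) (k' : X), Q ≤ U → U ≤ S → k' ∈ G → k' ∈ 𝒩[U] → k'⁻¹ * k ∈ 𝒞[Q] → IsPGroup 2 T →
      T ≤ G → B ≤ T → T ≤ 𝒩[U] → bau 2 T = B)
    (hc : ∀ C T : Subgroup X, WW a w ≤ C → C ≤ Q → B ⊓ 𝒞[C] ≤ C → T ≤ S → B ≤ T → T ≤ 𝒩[C] → bau 2 T = B)
    (hinv : ∀ C : Subgroup X, WW a w ≤ C → C ≤ Q → B ⊓ 𝒞[C] ≤ C → ¬ S ⊔ A ≤ 𝒩[C]) : False := by
  by_cases h1 : ∀ σ ∈ S ⊓ 𝒩[B], conjS σ (WW a w) ≤ Q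
  swap
  · push Not at h1
    obtain ⟨σ, hσ, hC⟩ := h1
    exact h.q2_syl s BS kG hm hσ.1 hσ.2 hC
  obtain ⟨C, c1, c2, c3, c4⟩ := cf2_core s inf_le_right h1
  have e := hc C _ c1 c2 c3 inf_le_left (le_inf BS le_normalizer) c4
  have hSB : S ≤ S ⊓ 𝒩[B] := by
    by_contra hn
    obtain ⟨y, y1, y2, y3, -⟩ := end1_exists_norm h.syl.isPGroup inf_le_left hn
    have := normalizer_le_normalizer_bau (p := 2) _ y2
    rw [e] at this
    exact y3 ⟨y1, this⟩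
  rw [le_antisymm inf_le_left hSB] at e
  have hL : S ⊔ A ≤ 𝒩[B] := by
    rw [← e]
    exact (sup_le le_normalizer h.AS).trans (normalizer_le_normalizer_bau S)
  by_cases h2 : ∀ σ ∈ S ⊔ A, conjS σ (WW a w) ≤ Q
  · obtain ⟨C', c1', c2', c3', c4'⟩ := cf2_core s hL h2
    exact absurd c4' (hinv C' c1' c2' c3')
  push Not at h2
  obtain ⟨σ, hσ, hC⟩ := h2
  have hB := hL hσ
  obtain ⟨σw, -, σa, -⟩ := cf2_swap s hB hC
  have c : Commute σ w := mul_inv_eq_iff_eq_mul.1 σw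
  have i1 : σ⁻¹ * a * σ⁻¹⁻¹ ∉ Q := fun e => σa (LAE.conj_mem_of_mem_normalizer
    (inv_mem_iff.1 (sm_nQ s (inv_mem hB) c.inv_left.mul_inv_cancel e)) s.aQ)
  have i2 : σ * σ ∈ 𝒩[Q] := sm_nQ s (mul_mem hB hB) (c.mul_left c).mul_inv_cancel
    (s.mem_Q (LAE.conj_mem_of_mem_normalizer (mul_mem hB hB) (s.QB s.aQ))
      (by simpa [mul_assoc] using (sm_out s hB (inv_mem hB) σa i1).conj σ))
  obtain ⟨m, hm⟩ := h.odd
  have i3 := h1 _ (hSB (pow_mem_sup h.AS hσ)) (conj_mem_conjS.2 (left_mem_WW a w))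
  rw [hm, pow_succ, pow_mul, sq] at i3
  exact σa (by simpa [mul_assoc] using conj_inv_mem_of_mem_normalizer (pow_mem i2 m) i3)

end CfsgLib.CNil
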