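import Cfsg.Agent.Lib.Cop.S1

/-! The first step of the local analysis, from the properties `VV` of the module `V`. -/

set_option autoImplicit false

open Subgroup Cfsg CfsgLib.LAE CfsgLib.ZN CfsgLib.MinS CfsgLib.Cop Module
open scoped commutatorElement

universe u

namespace CfsgLib.CNil

/-- The standing hypothesis of the core argument. -/
structure Co {X : Type u} [Group X] (A G S V N H : Subgroup X) : Prop where
  om : NoOm A G
  mp : MP A S N H
  vv : VV A S V
  HG : H ≤ G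
  solv : Group.IsSolvable H
  NV : H ⊓ normalizer (V : Set X) ≤ N
  NJ : H ⊓ normalizer (thompsonSubgroupOf 2 S : Set X) ≤ N
  act : ¬ pResOf 2 H ≤ centralizer (pCoreOf 2 H : Set X)

variable {X : Type u} [Group X] [Finite X] {A G S V N H : Subgroup X}

theorem Co.c1 (c : Co A G S V N H) : V ≤ pCoreOf 2 H := by
  intro v hv
  by_contra hvQ
  have SH := c.mp.syl.le
  have QH : pCoreOf 2 H ≤ H := pCoreOf_le H
  have QS : pCoreOf 2 H ≤ S := c.mp.syl.pCoreOf_le
  have HQ := le_normalizer_pCoreOf (p := 2) H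
  obtain ⟨Z, E, -, hE, sx, hn⟩ := exists_chief (A := A) (P₁ := ⊥) (isPGroup_pCoreOf (p := 2) H) QH
    c.mp.AH HQ (le_normalizer_pCoreOf_of_le c.mp.AH) bot_le (normalizer_eq_top (⊥ : Subgroup X) ▸ le_top)
    (normalizer_eq_top (⊥ : Subgroup X) ▸ le_top)
    fun h => c.act (commutator_eq_bot_iff_le_centralizer.1 (le_bot_iff.1 h))
  have hcz := c.mp.cz_le sx hn
  obtain ⟨F, FH, HF, DF, f4, f5, f6⟩ := sx.fit c.om c.HG (hE.trans (QH.trans c.HG)) c.solv
  have QD : pCoreOf 2 H ≤ H ⊓ cz E Z := le_inf QH sx.pCore_le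
  have hQ : IsSylowIn 2 (pCoreOf 2 H) F := by
    have e : S ⊓ F = pCoreOf 2 H := le_antisymm (fun f hf => by
      obtain ⟨n, hn, h1⟩ := f4 f hf.2
      obtain ⟨k, hk⟩ := isPGroup_iff_forall_mem.1 c.mp.syl.isPGroup f hf.1
      exact hcz ⟨hf.1, mem_of_pow_mem_of_coprime (Nat.Coprime.coprime_dvd_left
        (orderOf_dvd_of_pow_eq_one hk) (Nat.Coprime.pow_left k hn.coprime_two_left)) h1⟩)
      (le_inf QS (QD.trans DF))
    exact e ▸ c.mp.syl.inf_of_normal FH HF
  have VH : V ≤ H := c.vv.le.trans SH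
  have hex : ∃ f ∈ F, ⁅f, v⁆ ∉ H ⊓ cz E Z := by
    by_contra! hh
    exact hvQ (hcz ⟨c.vv.le hv, f5 v (VH hv) (c.vv.sq v hv) fun f hf => (hh f hf).2⟩)
  obtain ⟨V₁, V1, V2, -, V4, d, dF, dD, d1, d2, d3⟩ := td1_mod hQ FH HQ HF
    (le_normalizer_inf le_normalizer (le_normalizer_cz sx.HE sx.HZ)) QD VH c.vv.sq hv hex
  have ab : ∀ {W : Subgroup X}, (∀ x ∈ W, x * x = 1) → ∀ x ∈ W, ∀ y ∈ W, x * y = y * x :=
    fun {W} h x hx y hy => by
      have e : ∀ z ∈ W, z⁻¹ = z := fun z hz => inv_eq_of_mul_eq_one_right (h z hz)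
      rw [← e _ (mul_mem hx hy), mul_inv_rev, e x hx, e y hy]
  have BS : conjS d V₁ ≤ S := (conjS_mono le_sup_right).trans
    ((mem_normalizer_iff_conjS.1 d3).le.trans (sup_le QS (V1.trans c.vv.le)))
  have Bsq : ∀ b ∈ conjS d V₁, b * b = 1 := fun b hb => by
    obtain ⟨u, hu, rfl⟩ := exists_of_mem_conjS hb
    rw [show d * u * d⁻¹ * (d * u * d⁻¹) = d * (u * u) * d⁻¹ by group, c.vv.sq u (V1 hu), mul_one,
      mul_inv_cancel]
  have key : ∀ y ∈ conjS d V₁, v * y = y * v → d * y = y * d ∧ y ∈ V₁ := fun y hy h1 => by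
    obtain ⟨u, hu, rfl⟩ := exists_of_mem_conjS hy
    have a1 : Commute (d * v * d⁻¹) (d * u * d⁻¹) := by
      show _ = _
      calc _ = d * (v * u) * d⁻¹ := by group
        _ = _ := by rw [ab c.vv.sq v hv u (V1 hu)]; group
    have a2 : v * (d * v * d⁻¹) = (d * d)⁻¹ := by
      rw [mul_inv_rev, ← d2, inv_eq_of_mul_eq_one_right (c.vv.sq v hv)]; group
    have a3 : Commute (d * d) (d * u * d⁻¹) := by
      have := (Commute.mul_left (show Commute v _ from h1) a1).inv_left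
      rwa [a2, inv_inv] at this
    obtain ⟨n, hn⟩ := mem_zpowers_sq d1
    have a4 : Commute d (d * u * d⁻¹) := by
      have := a3.zpow_left n
      rwa [show (d * d) ^ n = d from hn] at this
    refine ⟨a4.eq, ?_⟩
    rwa [show d * u * d⁻¹ = u from mul_left_cancel (a := d) (by rw [a4.eq]; group)]
  have e1 : centralizer (V : Set X) ⊓ conjS d V₁ = V₁ ⊓ conjS d V₁ := le_antisymm
    (fun y hy => ⟨(key y hy.2 (hy.1 v hv)).2, hy.2⟩)
    fun y hy => ⟨fun x hx => ab c.vv.sq x hx y (V1 hy.1), hy.2⟩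
  have e2 : (V₁ ⊓ conjS d V₁).relIndex (conjS d V₁) = (V₁ ⊓ conjS d V₁).relIndex V₁ := by
    have a1 := relIndex_mul_relIndex ⊥ _ _ bot_le (inf_le_right : V₁ ⊓ conjS d V₁ ≤ _)
    have a2 := relIndex_mul_relIndex ⊥ _ _ bot_le (inf_le_left : V₁ ⊓ conjS d V₁ ≤ _)
    rw [relIndex_bot_left, relIndex_bot_left] at a1 a2
    rw [card_conjS, ← a2] at a1
    exact Nat.eq_of_mul_eq_mul_left Nat.card_pos a1
  have e3 := c.vv.q2 _ BS Bsq
  rw [← inf_relIndex_right (centralizer (V : Set X)), e1, e2] at e3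
  have e4 : (centralizer (conjS d V₁ : Set X)).relIndex V ≤ (V₁ ⊓ conjS d V₁).relIndex V :=
    relIndex_le_of_le_left (fun y hy x hx => ab Bsq x hx y hy.2) index_ne_zero_of_finite
  rw [← relIndex_mul_relIndex _ _ _ (inf_le_left : V₁ ⊓ conjS d V₁ ≤ _) V1, V2] at e4
  refine dD ⟨FH dF, f6 d dF v (VH hv) (c.vv.sq v hv) d2 V₁ (V₁ ⊓ conjS d V₁) (by nlinarith)
    (fun e he => V4 ⟨?_, ?_⟩) fun x hx _ => (key x hx.2 (ab c.vv.sq v hv x (V1 hx.1))).1⟩
  · rw [commutatorElement_def, mul_assoc, mul_assoc, ← mul_assoc e]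
    exact V.mul_mem hv (conj_mem_of_mem_normalizer (c.vv.SV (QS (hE he))) (V.inv_mem hv))
  · exact (pCoreOf 2 H).mul_mem (conj_mem_of_mem_normalizer (HQ (VH hv)) (hE he))
      ((pCoreOf 2 H).inv_mem (hE he))

/-- The inequality `q2` for the conjugates of `V` under `H`. -/
theorem Co.q2_conj (c : Co A G S V N H) {g : X} (hg : g ∈ H) {B : Subgroup X}
    (hB : B ≤ pCoreOf 2 H) (hsq : ∀ b ∈ B, b * b = 1) :
    (centralizer (conjS g V : Set X)).relIndex B ^ 2 ≤
      (centralizer (B : Set X)).relIndex (conjS g V) := by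
  have hQ : conjS g⁻¹ B ≤ S := by
    refine le_trans ?_ c.mp.syl.pCoreOf_le
    rw [← mem_normalizer_iff_conjS.1 (le_normalizer_pCoreOf (p := 2) H (H.inv_mem hg))]
    exact conjS_mono hB
  have h := c.vv.q2 (conjS g⁻¹ B) hQ fun b hb => by
    have h1 := hsq _ (mem_conjS.1 hb)
    have e : b * b = g⁻¹ * (g⁻¹⁻¹ * b * g⁻¹ * (g⁻¹⁻¹ * b * g⁻¹)) * g := by group
    rw [e, h1]; group
  rwa [← relIndex_conjS g (centralizer (V : Set X)), ← relIndex_conjS g _ V, conjS_centralizer,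
    conjS_centralizer, conjS_conjS_inv] at h

theorem Co.c2 (c : Co A G S V N H) : nclIn V H ≤ centralizer (nclIn V H : Set X) := by
  have hsq : ∀ g : X, ∀ b ∈ conjS g V, b * b = 1 := fun g b hb => by
    have h1 := c.vv.sq _ (mem_conjS.1 hb)
    have e : b * b = g * (g⁻¹ * b * g * (g⁻¹ * b * g)) * g⁻¹ := by group
    rw [e, h1]; group
  have hQ : ∀ g ∈ H, conjS g V ≤ pCoreOf 2 H := fun g hg => by
    rw [← mem_normalizer_iff_conjS.1 (le_normalizer_pCoreOf (p := 2) H hg)]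
    exact conjS_mono c.c1
  refine nclIn_le_iff.2 fun g hg => le_centralizer_iff.1 (nclIn_le_iff.2 fun g' hg' => ?_)
  have h1 := c.q2_conj hg (hQ g' hg') (hsq g')
  have h2 := c.q2_conj hg' (hQ g hg) (hsq g)
  have h3 : (centralizer (conjS g V : Set X)).relIndex (conjS g' V) ≠ 0 := index_ne_zero_of_finite
  refine relIndex_eq_one.1 ?_
  set r := (centralizer (conjS g V : Set X)).relIndex (conjS g' V)
  set s := (centralizer (conjS g' V : Set X)).relIndex (conjS g V)
  by_contra hne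
  have h4 : 2 ≤ r := by omega
  have h5 : 2 * r ≤ s := by nlinarith
  nlinarith

theorem Co.sqU (c : Co A G S V N H) : ∀ x ∈ nclIn V H, x * x = 1 := by
  have hc := c.c2
  let W : Subgroup X :=
    { carrier := {x | x ∈ nclIn V H ∧ x * x = 1}
      one_mem' := ⟨one_mem _, by simp⟩
      inv_mem' := fun {x} hx => ⟨inv_mem hx.1, by rw [← mul_inv_rev, hx.2, inv_one]⟩
      mul_mem' := fun {x y} hx hy => ⟨mul_mem hx.1 hy.1, by
        have e : x * y = y * x := mem_centralizer_iff.1 (hc hy.1) x hx.1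
        calc x * y * (x * y) = x * (y * x) * y := by group
          _ = x * x * (y * y) := by rw [← e]; group
          _ = 1 := by rw [hx.2, hy.2, one_mul]⟩ }
  have : nclIn V H ≤ W := nclIn_le_iff.2 fun g hg b hb => ⟨conjS_le_nclIn hg hb, by
    have h1 := c.vv.sq _ (mem_conjS.1 hb)
    have e : b * b = g * (g⁻¹ * b * g * (g⁻¹ * b * g)) * g⁻¹ := by group
    rw [e, h1]; group⟩
  exact fun x hx => (this hx).2

/-- The chain count. -/
theorem Co.chain (c : Co A G S V N H) {B : Subgroup X} (hB : B ≤ pCoreOf 2 H)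
    (hsq : ∀ b ∈ B, b * b = 1) :
    (centralizer (nclIn V H : Set X)).relIndex B ^ 2 ≤
      (centralizer (B : Set X)).relIndex (nclIn V H) := by
  induction hn : Nat.card B using Nat.strong_induction_on generalizing B with
  | _ n ih =>
    by_cases h : B ≤ centralizer (nclIn V H : Set X)
    · rw [relIndex_eq_one.2 h, one_pow]
      exact Nat.one_le_iff_ne_zero.2 index_ne_zero_of_finite
    · obtain ⟨g, hg, hne⟩ : ∃ g ∈ H, ¬ B ≤ centralizer (conjS g V : Set X) := by
        by_contra h'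
        push Not at h'
        exact h (le_centralizer_iff.1 (nclIn_le_iff.2 fun g hg => le_centralizer_iff.1 (h' g hg)))
      obtain ⟨e1, e2⟩ := chain_step (B := B) (conjS_le_nclIn (A := V) hg) c.c2
      have hlt : B ⊓ centralizer (conjS g V : Set X) < B :=
        lt_of_le_of_ne inf_le_left fun e => hne (inf_eq_left.1 e)
      have h1 := ih _ (hn ▸ Set.Finite.card_lt_card (Set.toFinite _) hlt) (inf_le_left.trans hB)
        (fun b hb => hsq b hb.1) rfl
      rw [e1, mul_pow]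
      exact (Nat.mul_le_mul (c.q2_conj hg hB hsq) h1).trans e2

/-- The strict chain count. -/
theorem Co.chain_lt (c : Co A G S V N H) {B : Subgroup X} (hB : B ≤ pCoreOf 2 H)
    (hsq : ∀ b ∈ B, b * b = 1) {g : X} (hg : g ∈ H)
    (hlt : (centralizer (conjS g V : Set X)).relIndex B ^ 2 <
      (centralizer (B : Set X)).relIndex (conjS g V)) :
    (centralizer (nclIn V H : Set X)).relIndex B ^ 2 <
      (centralizer (B : Set X)).relIndex (nclIn V H) := by
  obtain ⟨e1, e2⟩ := chain_step (B := B) (conjS_le_nclIn (A := V) hg) c.c2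
  have h1 := c.chain (B := B ⊓ centralizer (conjS g V : Set X)) (inf_le_left.trans hB) fun b hb => hsq b hb.1
  rw [e1, mul_pow]
  exact (Nat.mul_lt_mul_of_lt_of_le hlt h1 (Nat.pos_of_ne_zero index_ne_zero_of_finite)).trans_le e2

theorem Co.c3_UQ (c : Co A G S V N H) : nclIn V H ≤ pCoreOf 2 H :=
  nclIn_le c.c1 (le_normalizer_pCoreOf H)

theorem Co.c3_AU (c : Co A G S V N H) : A ≤ normalizer (nclIn V H : Set X) :=
  le_normalizer_nclIn_of_le c.vv.AV c.mp.AH

theorem Co.move (c : Co A G S V N H) :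
    ¬ ⁅pResOf 2 H, nclIn V H⁆ ≤ ⁅pCoreOf 2 H, nclIn V H⁆ := by
  intro h
  have hQS := c.mp.syl.pCoreOf_le
  have hY : H ≤ normalizer ((⁅pCoreOf 2 H, nclIn V H⁆ : Subgroup X) : Set X) :=
    le_normalizer_commutator (le_normalizer_pCoreOf H) (le_normalizer_nclIn V H)
  have h1 : nclIn V H ≤ V ⊔ ⁅pCoreOf 2 H, nclIn V H⁆ := by
    refine nclIn_le le_sup_left (c.mp.syl.le_of_pResOf_le (fun x hx => ?_)
      (le_normalizer_sup c.vv.SV (c.mp.syl.le.trans hY)))
    refine mem_normalizer_of_conjS_le ?_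
    rw [conjS_sup, mem_normalizer_iff_conjS.1 (hY (pResOf_le H hx))]
    refine sup_le (conjS_le_iff_forall.2 fun v hv => ?_) le_sup_right
    rw [show x * v * x⁻¹ = ⁅x, v⁆ * v by simp only [commutatorElement_def]; group]
    exact mul_mem (mem_sup_right (h (commutator_mem_commutator hx (le_nclIn V H hv))))
      (mem_sup_left hv)
  have hn : pCoreOf 2 H ≤ normalizer (nclIn V H : Set X) :=
    (pCoreOf_le H).trans (le_normalizer_nclIn V H)
  have h2 : ∀ n, nclIn V H ≤ V ⊔ iterCommutator (nclIn V H) (pCoreOf 2 H) n := by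
    intro n
    induction n with
    | zero => exact le_sup_right
    | succ n ih =>
      refine h1.trans (sup_le le_sup_left (commutator_le.2 fun q hq u hu => ?_))
      obtain ⟨v, hv, i, hi, rfl⟩ := (mem_sup_iff_of_left_le_normalizer
        (((le_nclIn V H).trans (c.c2.trans (centralizer_anti (iterCommutator_le hn n)))).trans
          (centralizer_le_normalizer _))).1 (ih hu)
      rw [show ⁅q, v * i⁆ = q * v * q⁻¹ * ⁅i, q⁆⁻¹ * v⁻¹ by simp only [commutatorElement_def]; group]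
      exact mul_mem (mul_mem (mem_sup_left (conj_mem_of_mem_normalizer (c.vv.SV (hQS hq)) hv))
        (mem_sup_right (inv_mem (commutator_mem_commutator hi hq)))) (mem_sup_left (inv_mem hv))
  obtain ⟨n, hn0⟩ := exists_iterCommutator_eq_bot_of_isPGroup
    ((isPGroup_pCoreOf H).to_le c.c3_UQ) (isPGroup_pCoreOf H) hn
  have h3 := h2 n
  rw [hn0, sup_bot_eq] at h3
  refine c.mp.not_le ((le_inf le_rfl ?_).trans c.NV)
  rw [← le_antisymm h3 (le_nclIn V H)]
  exact le_normalizer_nclIn V H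

theorem Co.exists_max (c : Co A G S V N H) :
    ∃ A₀ ∈ PLocal.maxElemIn 2 S, ¬ A₀ ≤ pCoreOf 2 H := by
  by_contra h
  push Not at h
  have h1 := PLocal.thompsonSubgroupOf_eq_of_le c.mp.syl.pCoreOf_le
    (PLocal.thompsonSubgroupOf_le_iff.2 h)
  refine c.mp.not_le ((le_inf le_rfl ?_).trans c.NJ)
  rw [← h1]
  exact (le_normalizer_pCoreOf H).trans (PLocal.normalizer_le_normalizer_thompsonSubgroupOf _)

/-- The count: `O²(H)` centralizes `[U, Q]`, and `A₀ ∩ Q` does not centralize `U`. -/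
theorem Co.count (c : Co A G S V N H) {A₀ : Subgroup X} (h0 : A₀ ∈ PLocal.maxElemIn 2 S)
    (h1 : ¬ A₀ ≤ pCoreOf 2 H) :
    pResOf 2 H ≤ centralizer ((⁅pCoreOf 2 H, nclIn V H⁆ : Subgroup X) : Set X) ∧
      ¬ A₀ ⊓ pCoreOf 2 H ≤ centralizer (nclIn V H : Set X) ∧
      (centralizer ((A₀ ⊓ pCoreOf 2 H : Subgroup X) : Set X)).relIndex (nclIn V H) ≤
        (centralizer (nclIn V H : Set X)).relIndex (A₀ ⊓ pCoreOf 2 H) ^ 2 := by
  have m := c.mp
  have hQS := m.syl.pCoreOf_le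
  have HU := le_normalizer_nclIn V H
  have hUH : nclIn V H ≤ H := c.c3_UQ.trans (pCoreOf_le H)
  have hsq : ∀ b ∈ A₀, b * b = 1 := fun b hb => by
    rw [← pow_two]; exact (PLocal.elemAb_iff.1 h0.2.1).2 b hb
  have hAH : A₀ ≤ H := h0.1.trans m.syl.le
  have nz : ∀ K L : Subgroup X, K.relIndex L ≠ 0 := fun K L => index_ne_zero_of_finite
  have s0 : A₀ ⊓ centralizer (nclIn V H : Set X) ≤ pCoreOf 2 H := by
    rcases m.normal (D := H ⊓ centralizer (nclIn V H : Set X)) inf_le_left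
      (le_normalizer_inf le_normalizer (le_normalizer_centralizer HU))
      (le_normalizer_inf m.AH (le_normalizer_centralizer c.c3_AU)) with h | h
    · exact absurd (((commutator_eq_bot_iff_le_centralizer).2 (h.trans inf_le_right)).le.trans bot_le)
        c.move
    · exact fun x hx => h.2 ⟨⟨hAH hx.1, hx.2⟩, h0.1 hx.1⟩
  have e1 : (centralizer (nclIn V H : Set X)).relIndex (A₀ ⊓ pCoreOf 2 H) *
      (pCoreOf 2 H).relIndex A₀ = (centralizer (nclIn V H : Set X)).relIndex A₀ := by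
    have := relIndex_mul_relIndex (A₀ ⊓ pCoreOf 2 H ⊓ centralizer (nclIn V H : Set X))
      (A₀ ⊓ pCoreOf 2 H) A₀ inf_le_left inf_le_left
    rwa [inf_relIndex_left, inf_relIndex_left, inf_right_comm, inf_eq_left.2 s0,
      inf_relIndex_left] at this
  have e2 := c3_off h0 (c.c3_UQ.trans hQS) (PLocal.elemAb_iff.2
    ⟨fun a ha b hb => c.c2 hb a ha, fun a ha => by rw [pow_two]; exact c.sqU a ha⟩)
  have e3 := c.chain (B := A₀ ⊓ pCoreOf 2 H) inf_le_right fun b hb => hsq b hb.1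
  have e4 : (centralizer ((A₀ ⊓ pCoreOf 2 H : Subgroup X) : Set X)).relIndex (nclIn V H) ≤
      (centralizer (A₀ : Set X)).relIndex (nclIn V H) :=
    relIndex_le_of_le_left (centralizer_anti inf_le_left) (nz _ _)
  obtain ⟨Z, E, z1, hE, sx, hn⟩ := exists_chief ((isPGroup_pCoreOf H).to_le c.c3_UQ) hUH m.AH HU
    c.c3_AU (commutator_le_right_of_le_normalizer ((pCoreOf_le H).trans HU))
    (le_normalizer_commutator (le_normalizer_pCoreOf H) HU)
    (le_normalizer_commutator (le_normalizer_pCoreOf_of_le m.AH) c.c3_AU) c.move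
  have e5 := sx.q2 c.om c.HG (hE.trans (hUH.trans c.HG)) c.solv (B₀ := pCoreOf 2 H)
    (E₀ := Z ⊔ E ⊓ centralizer (A₀ : Set X)) hAH hsq
    ((inf_le_inf_right _ h0.1).trans (m.cz_le sx hn)) le_sup_left (sup_le sx.le inf_le_left)
    (commutator_le.2 fun a ha x hx => by
      obtain ⟨z, hz, y, hy, rfl⟩ :=
        (mem_sup_iff_of_right_le_normalizer (inf_le_left.trans sx.nZ)).1 hx
      rw [show ⁅a, z * y⁆ = a * z * a⁻¹ * (a * y * a⁻¹ * y⁻¹) * z⁻¹ by
        simp only [commutatorElement_def]; group, hy.2 a ha, mul_inv_cancel_right, mul_inv_cancel,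
        mul_one]
      exact mul_mem (conj_mem_of_mem_normalizer (sx.HZ (hAH ha)) hz) (inv_mem hz))
  have e6 := relIndex_mul_relIndex (E ⊓ centralizer (A₀ : Set X)) (Z ⊔ E ⊓ centralizer (A₀ : Set X)) E
    le_sup_right (sup_le sx.le inf_le_left)
  rw [inf_relIndex_left] at e6
  have e7 : (centralizer (A₀ : Set X)).relIndex Z ≤
      (E ⊓ centralizer (A₀ : Set X)).relIndex (Z ⊔ E ⊓ centralizer (A₀ : Set X)) :=
    (relIndex_le_of_le_left inf_le_right (nz _ _)).trans (relIndex_le_of_le_right le_sup_left (nz _ _))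
  have e8 : (centralizer (A₀ : Set X)).relIndex E ≤ (centralizer (A₀ : Set X)).relIndex (nclIn V H) :=
    relIndex_le_of_le_right hE (nz _ _)
  have e9 := (Nat.mul_le_mul e7 e5).trans (e6.le.trans (e8.trans (e2.trans e1.ge)))
  have p1 := Nat.pos_of_ne_zero (nz (pCoreOf 2 H) A₀)
  have p2 := Nat.pos_of_ne_zero (nz (centralizer (nclIn V H : Set X)) (A₀ ⊓ pCoreOf 2 H))
  have p3 := Nat.pos_of_ne_zero (nz (centralizer (A₀ : Set X)) Z)
  have f1 := e3.trans (e4.trans (e2.trans e1.ge))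
  rw [pow_two] at f1
  have f2 := Nat.le_of_mul_le_mul_left f1 p2
  rw [pow_two, ← mul_assoc] at e9
  have f3 := Nat.le_of_mul_le_mul_right e9 p1
  have f4 := (Nat.le_mul_of_pos_left _ p3).trans f3
  have f5 : (centralizer (A₀ : Set X)).relIndex Z = 1 :=
    le_antisymm (Nat.le_of_mul_le_mul_right (f3.trans (f2.trans (one_mul _).ge)) p1) p3
  refine ⟨?_, fun h => h1 (relIndex_eq_one.1 (le_antisymm (f4.trans (relIndex_eq_one.2 h).le) p1)),
    e4.trans (e2.trans (e1.ge.trans ?_))⟩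
  · rcases m.normal (D := H ⊓ centralizer (Z : Set X)) inf_le_left
      (le_normalizer_inf le_normalizer (le_normalizer_centralizer sx.HZ))
      (le_normalizer_inf m.AH (le_normalizer_centralizer sx.AZ)) with h | h
    · exact h.trans (inf_le_right.trans (centralizer_anti z1))
    · exact absurd (fun x hx => h.2 ⟨⟨hAH hx, le_centralizer_iff.1 (relIndex_eq_one.1 f5) hx⟩,
        h0.1 hx⟩) h1
  · rw [pow_two]
    exact Nat.mul_le_mul_left _ f4

theorem Co.false (c : Co A G S V N H) : False := by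
  obtain ⟨A₀, h0, h1⟩ := c.exists_max
  obtain ⟨k1, k2, k3⟩ := c.count h0 h1
  have hS := c.mp.syl
  have hQS : pCoreOf 2 H ≤ S := hS.pCoreOf_le
  have hVQ := c.c1
  have sq0 : ∀ b ∈ A₀, b * b = 1 := fun b hb => by
    rw [← sq]; exact h0.2.1.2 b hb
  have hAV : A₀ ≤ centralizer (V : Set X) := by
    have e1 := c.vv.q2 A₀ h0.1 sq0
    have e2 : (centralizer (A₀ : Set X)).relIndex V ≤ (centralizer (V : Set X)).relIndex A₀ :=
      offender_le h0 c.vv.le c.vv.sq
    have e3 : (centralizer (V : Set X)).relIndex A₀ ≠ 0 := FiniteIndex.index_ne_zero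
    exact relIndex_eq_one.1 (by nlinarith [Nat.pos_of_ne_zero e3])
  obtain ⟨g, hg, hng⟩ : ∃ g ∈ H, ¬ A₀ ⊓ pCoreOf 2 H ≤ centralizer (conjS g V : Set X) := by
    by_contra hcon
    push Not at hcon
    exact k2 (le_centralizer_iff.1 (nclIn_le_iff.2 fun g hg => le_centralizer_iff.1 (hcon g hg)))
  have HQ : H ≤ normalizer (pCoreOf 2 H : Set X) := le_normalizer_pCoreOf H
  have AQ : A ≤ normalizer (pCoreOf 2 H : Set X) := le_normalizer_pCoreOf_of_le c.mp.AH
  set R := pCoreOf 2 H ⊓ centralizer (V : Set X) with hR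
  have hBQ : nclIn R H ≤ pCoreOf 2 H := nclIn_le inf_le_left HQ
  have SR : S ≤ normalizer (R : Set X) :=
    le_normalizer_inf (hS.le.trans HQ) (le_normalizer_centralizer c.vv.SV)
  have hq : ⁅nclIn R H, V⁆ ≤ centralizer (nclIn R H : Set X) := by
    refine (commutator_mono hBQ le_rfl).trans (le_centralizer_iff.1 (nclIn_le_iff.2 fun x hx => ?_))
    obtain ⟨r, hr, s, hs, rfl⟩ := hS.exists_mul hx
    have hr' : r ∈ centralizer ((⁅pCoreOf 2 H, V⁆ : Subgroup X) : Set X) :=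
      centralizer_anti (commutator_mono le_rfl (le_nclIn V H)) (k1 hr)
    rw [conjS_mul, mem_normalizer_iff_conjS.1 (SR hs),
      ← mem_normalizer_iff_conjS.1 (centralizer_le_normalizer _ hr'), ← conjS_centralizer]
    exact conjS_mono (inf_le_right.trans (centralizer_anti
      (commutator_le_right_of_le_normalizer (hQS.trans c.vv.SV))))
  have sq1 : ∀ b ∈ A₀ ⊓ pCoreOf 2 H, b * b = 1 := fun b hb => sq0 b hb.1
  have := c.vv.q3 (conjS g⁻¹ (A₀ ⊓ pCoreOf 2 H)) (nclIn R H)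
    ((conjS_mono (le_inf inf_le_right (inf_le_left.trans hAV))).trans
      (conjS_le_nclIn (H.inv_mem hg))) (hBQ.trans hQS)
    (le_normalizer_nclIn_of_le (le_normalizer_inf AQ (le_normalizer_centralizer c.vv.AV)) c.mp.AH)
    hq (fun b hb => by
      obtain ⟨y, hy, rfl⟩ := exists_of_mem_conjS hb
      rw [show g⁻¹ * y * g⁻¹⁻¹ * (g⁻¹ * y * g⁻¹⁻¹) = g⁻¹ * (y * y) * g by group, sq1 y hy]; group)
    (fun h => hng (by rw [← conjS_centralizer]; exact le_conjS_iff.2 h))
  rw [← relIndex_conjS g, ← relIndex_conjS g (K := V), conjS_centralizer, conjS_centralizer,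
    conjS_conjS_inv] at this
  exact absurd (c.chain_lt inf_le_right sq1 hg this) (not_lt.2 k3)

theorem step1 (hv : VV A S (vv G S)) (ho : NoOm A G) (hS : IsSylowIn 2 S G)
    (hA : A ≤ normalizer (S : Set X)) (h1 : S ≤ H) (h2 : H ≤ G) (h3 : A ≤ normalizer (H : Set X)) (h4 : Group.IsSolvable H) :
    H ≤ AG.opr 2 H ⊔ (H ⊓ normalizer (vv G S : Set X)) := by
  have hSH : IsSylowIn 2 S H := hS.mono h1 h2
  have hQ := hSH.inf_of_normal (AG.opp_le (p := 2) H) (AG.le_normalizer_opp H)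
  set Q := S ⊓ AG.opp 2 H with hQd
  set N := AG.opr 2 H ⊔ (H ⊓ normalizer (vv G S : Set X)) with hN
  have e1 : AG.opr 2 H ⊔ Q = AG.opp 2 H :=
    AG.opr_sup_of_isSylowIn ⟨hQ.le, hQ.isPGroup, hQ.not_dvd_relIndex⟩
  have e2 := hQ.frattini_sup (AG.opp_le H) (AG.le_normalizer_opp H)
  have SQ : S ≤ normalizer (Q : Set X) :=
    le_normalizer_inf le_normalizer (h1.trans (AG.le_normalizer_opp H))
  have AQ : A ≤ normalizer (Q : Set X) := le_normalizer_inf hA (le_normalizer_opp h3)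
  have SN : S ≤ N := le_sup_of_le_right (le_inf h1 hv.SV)
  by_contra hcon
  have h5 : ¬ H ⊓ normalizer (Q : Set X) ≤ N := fun h => hcon (by
    rw [← e2, ← e1]
    exact sup_le (sup_le le_sup_left (inf_le_left.trans SN)) h)
  obtain ⟨K, ⟨k1, k2, k3, k4⟩, km⟩ := exists_minimal_of_wellFoundedLT
    (fun K : Subgroup X => S ≤ K ∧ K ≤ H ⊓ normalizer (Q : Set X) ∧ A ≤ normalizer (K : Set X) ∧
      ¬ K ≤ N) ⟨_, le_inf h1 SQ, le_rfl,
        le_normalizer_inf h3 (AQ.trans (normalizer_le_normalizer_normalizer _)), h5⟩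
  have KH : K ≤ H := k2.trans inf_le_left
  have mp : MP A S N K := ⟨hSH.mono k1 KH, hA, k3, SN, k4, fun L l1 l2 l3 l4 =>
    le_antisymm l2 (km ⟨l1, l2.trans k2, l3, l4⟩ l2)⟩
  refine Co.false (A := A) (G := G) (S := S) (V := vv G S) (N := N) (H := K)
    ⟨ho, mp, hv, KH.trans h2, Group.isSolvable_of_isSolvable_injective (inclusion_injective KH),
      le_sup_of_le_right (inf_le_inf_right _ KH),
      le_sup_of_le_right (le_inf (inf_le_left.trans KH)
        ((inf_le_inf_right _ (KH.trans h2)).trans (le_normalizer_vv G S))), fun h => ?_⟩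
  have q1 : Q ≤ pCoreOf 2 K :=
    le_pCoreOf hQ.isPGroup (inf_le_left.trans k1) (k2.trans inf_le_right)
  have q2 : pResOf 2 K ≤ AG.opp 2 H :=
    (le_inf ((pResOf_le K).trans KH) (h.trans (centralizer_anti q1))).trans (constr h4 hQ)
  have q3 := pResOf_mono (p := 2) q2
  rw [pResOf_pResOf, ← e1, sup_comm, pResOf_sup_of_isPGroup hQ.isPGroup
    ((inf_le_left.trans h1).trans (AG.le_normalizer_opr H))] at q3
  exact mp.res_not_le (q3.trans ((pResOf_le _).trans le_sup_left))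

/-- The form used for 2-local subgroups: `N_G(C) ≤ C_G(C) N_G(V)`. -/
theorem step1_loc (hv : VV A S (vv G S)) (ho : NoOm A G) (hS : IsSylowIn 2 S G)
    (hG : A ≤ normalizer (G : Set X)) (hA : A ≤ normalizer (S : Set X))
    {C : Subgroup X} (h1 : C ≤ S) (h2 : S ≤ normalizer (C : Set X))
    (h3 : A ≤ normalizer (C : Set X))
    (h4 : Group.IsSolvable (G ⊓ normalizer (C : Set X) : Subgroup X))
    {g : X} (hg : g ∈ G) (hn : g ∈ normalizer (C : Set X)) :
    ∃ o ∈ AG.opr 2 (G ⊓ normalizer (C : Set X)), ∃ m ∈ G ⊓ normalizer (vv G S : Set X),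
      o ∈ centralizer (C : Set X) ∧ m ∈ normalizer (C : Set X) ∧ g = o * m := by
  have hSG : S ≤ G := hS.le
  have h := step1 hv ho hS hA (le_inf hSG h2) inf_le_left
    (le_normalizer_inf hG (h3.trans (normalizer_le_normalizer_normalizer _))) h4 ⟨hg, hn⟩
  obtain ⟨o, ho', m, hm, rfl⟩ := (mem_sup_iff_of_right_le_normalizer
    (inf_le_left.trans (AG.le_normalizer_opr _))).1 h
  refine ⟨o, ho', m, ⟨hm.1.1, hm.2⟩, ?_, hm.1.2, rfl⟩
  have hC : C ≤ G ⊓ normalizer (C : Set X) := le_inf (h1.trans hSG) le_normalizer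
  have hd : Disjoint (AG.opr 2 (G ⊓ normalizer (C : Set X))) C := by
    refine disjoint_of_coprime_natCard ?_
    obtain ⟨n, hn⟩ := (hS.isPGroup.to_le h1).exists_card_eq
    rw [hn, card_map_of_injective (subtype_injective _)]
    exact (Core.coprime_card_pPrimeCore 2 _).pow_right n
  refine le_centralizer_iff.1 (commutator_eq_bot_iff_le_centralizer.1 ?_) ho'
  exact eq_bot_iff.2 ((le_inf (commutator_le_right_of_le_normalizer
    (hC.trans (AG.le_normalizer_opr _))) (commutator_le_left_of_le_normalizer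
      ((AG.opr_le _).trans inf_le_right))).trans hd.eq_bot.le)

end CfsgLib.CNil
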